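import Groth.Prelude.Def_AutFam
import Groth.Prelude.Def_AlgSp
import Groth.Agent.SpPts86.EffDescent
import Groth.Agent.SpPts86.CovSigma
import Groth.Agent.AlgSt88.SpSheaf
import Groth.Agent.Desc59.DDSigma

/-! The sheaf of families of homomorphisms, and its representability by local representability. -/

set_option autoImplicit false
universe u

open CategoryTheory CategoryTheory.Limits MonoidalCategory CartesianMonoidalCategory MonObj AlgebraicGeometry
open AlgSp Opposite

namespace Groth.Agent.Const38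

open Groth.Agent.SpFP87 Groth.Agent.SpPts86

variable {S : Scheme.{u}} (H G : Over S) [GrpObj H] [GrpObj G]

/-- Families of homomorphisms restrict. -/
theorem isHomFamily_precomp {T T' : Over S} (f : T' ⟶ T) {φ : H ⊗ T ⟶ G}
    (h : AutFam.IsHomFamily H G φ) : AutFam.IsHomFamily H G ((H ◁ f) ≫ φ) := fun X g₁ g₂ t => by
  simp only [lift_whiskerLeft_assoc]
  exact h X g₁ g₂ (t ≫ f)

/-- The presheaf of families of homomorphisms. -/
noncomputable def homPsh : (Over S)ᵒᵖ ⥤ Type (u + 1) where
  obj T := ULift.{u + 1} {φ : H ⊗ T.unop ⟶ G // AutFam.IsHomFamily H G φ}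
  map f := TypeCat.ofHom fun x => ⟨⟨(H ◁ f.unop) ≫ x.down.1, isHomFamily_precomp H G f.unop x.down.2⟩⟩
  map_id T := by
    apply ConcreteCategory.hom_ext
    intro x
    refine ULift.ext _ _ (Subtype.ext ?_)
    show (H ◁ 𝟙 _) ≫ x.down.1 = x.down.1
    rw [MonoidalCategory.whiskerLeft_id, Category.id_comp]
  map_comp f g := by
    apply ConcreteCategory.hom_ext
    intro x
    refine ULift.ext _ _ (Subtype.ext ?_)
    show (H ◁ (g.unop ≫ f.unop)) ≫ x.down.1 = (H ◁ g.unop) ≫ (H ◁ f.unop) ≫ x.down.1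
    rw [MonoidalCategory.whiskerLeft_comp, Category.assoc]

omit [GrpObj H] in
variable {H} in
theorem lift_whisker_eq {T Z : Over S} (l : Z ⟶ H ⊗ T) :
    lift (l ≫ fst H T) (𝟙 Z) ≫ (H ◁ (l ≫ snd H T)) = l := by
  rw [lift_whiskerLeft, Category.id_comp]
  exact lift_comp_fst_snd l

theorem isSheaf_homPsh : Presieve.IsSheaf (AlgSp.J S) (homPsh H G) := by
  intro V R hR
  rw [← Presieve.isSeparatedFor_and_exists_isAmalgamation_iff_isSheafFor]
  have hR' : R.pullback (snd H V) ∈ AlgSp.J S (H ⊗ V) := (AlgSp.J S).pullback_stable _ hR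
  refine ⟨fun x y y' hy hy' => ULift.ext _ _ (Subtype.ext ?_), fun x hx => ?_⟩
  · apply (AlgSp.yon S).map_injective
    refine AlgSt88.yon_ext_cover hR' fun {Z} l hl => ?_
    have e : (H ◁ (l ≫ snd H V)) ≫ y.down.1 = (H ◁ (l ≫ snd H V)) ≫ y'.down.1 :=
      congrArg (fun z : (homPsh H G).obj (op Z) => z.down.1) ((hy _ hl).trans (hy' _ hl).symm)
    rw [← Functor.map_comp, ← Functor.map_comp]
    refine congrArg _ ?_
    rw [← lift_whisker_eq l, Category.assoc, Category.assoc, e]
  rw [Presieve.compatible_iff_sieveCompatible] at hx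
  have hxe : ∀ {Z : Over S} {g g' : Z ⟶ V} (e : g = g') (h : R g) (h' : R g'),
      (x g h).down.1 = (x g' h').down.1 := by
    intro Z g g' e h h'
    subst e
    rfl
  obtain ⟨f, hf⟩ := AlgSt88.yon_glue (F := (AlgSp.yon S).obj G) hR'
    (fun {Z} l hl => (AlgSp.yon S).map (lift (l ≫ fst H V) (𝟙 Z) ≫ (x (l ≫ snd H V) hl).down.1))
    (fun {W W'} k l h h' => by
      rw [← Functor.map_comp]
      refine congrArg _ ?_
      have e : (x ((k ≫ l) ≫ snd H V) h').down.1 = (H ◁ k) ≫ (x (l ≫ snd H V) h).down.1 := by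
        exact (hxe (Category.assoc k l (snd H V)) h' (R.downward_closed h k)).trans
          (congrArg (fun z : (homPsh H G).obj (op W') => z.down.1) (hx (l ≫ snd H V) k h))
      rw [e, lift_whiskerLeft_assoc, Category.id_comp, ← Category.assoc, comp_lift, Category.comp_id,
        Category.assoc])
  obtain ⟨φ, rfl⟩ := (AlgSp.yon S).map_surjective f
  have hφ : ∀ {Z : Over S} (l : Z ⟶ H ⊗ V) (hl : R (l ≫ snd H V)),
      l ≫ φ = lift (l ≫ fst H V) (𝟙 Z) ≫ (x (l ≫ snd H V) hl).down.1 := fun l hl => by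
    refine (AlgSp.yon S).map_injective ?_
    rw [Functor.map_comp]
    exact hf l hl
  have hres : ∀ {Z : Over S} (g : Z ⟶ V) (hg : R g), (H ◁ g) ≫ φ = (x g hg).down.1 := by
    intro Z g hg
    have h1 : R ((H ◁ g) ≫ snd H V) := by rw [whiskerLeft_snd]; exact R.downward_closed hg _
    rw [hφ _ h1]
    have e : (x ((H ◁ g) ≫ snd H V) h1).down.1 = (H ◁ snd H Z) ≫ (x g hg).down.1 := by
      exact (hxe (whiskerLeft_snd H g) h1 (R.downward_closed hg _)).trans
        (congrArg (fun z : (homPsh H G).obj (op (H ⊗ Z)) => z.down.1) (hx g (snd H Z) hg))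
    rw [e, lift_whiskerLeft_assoc, Category.id_comp, whiskerLeft_fst, lift_fst_snd, Category.id_comp]
  have hfam : AutFam.IsHomFamily H G φ := fun X g₁ g₂ t => by
    apply (AlgSp.yon S).map_injective
    refine AlgSt88.yon_ext_cover ((AlgSp.J S).pullback_stable t hR) fun {W} k hk => ?_
    rw [← Functor.map_comp, ← Functor.map_comp]
    refine congrArg _ ?_
    have key : ∀ g : W ⟶ H, lift g (k ≫ t) ≫ φ = lift g (𝟙 W) ≫ (x (k ≫ t) hk).down.1 := fun g => by
      rw [← hres _ hk, lift_whiskerLeft_assoc, Category.id_comp]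
    rw [MonObj.comp_mul, comp_lift_assoc, comp_lift_assoc, comp_lift_assoc, MonObj.comp_mul, key, key, key]
    exact (x (k ≫ t) hk).down.2 W _ _ (𝟙 W)
  exact ⟨⟨⟨φ, hfam⟩⟩, fun Z g hg => ULift.ext _ _ (Subtype.ext (hres g hg))⟩

/-- The sheaf of families of homomorphisms. -/
noncomputable def homSp : Sp S :=
  ⟨homPsh H G, (isSheaf_iff_isSheaf_of_type _ _).2 (isSheaf_homPsh H G)⟩

variable {H G}

/-- A family as a map to the sheaf. -/
noncomputable def mkFam {T : Over S} (φ : H ⊗ T ⟶ G) (h : AutFam.IsHomFamily H G φ) :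
    (yon S).obj T ⟶ homSp H G :=
  (uE (S := S)).symm ⟨⟨φ, h⟩⟩

/-- The family of a map to the sheaf. -/
noncomputable def famOf {T : Over S} (g : (yon S).obj T ⟶ homSp H G) : H ⊗ T ⟶ G :=
  ((uE (S := S) (F := homSp H G)) g).down.1

theorem isHomFamily_famOf {T : Over S} (g : (yon S).obj T ⟶ homSp H G) :
    AutFam.IsHomFamily H G (famOf g) :=
  ((uE (S := S) (F := homSp H G)) g).down.2

@[simp] theorem famOf_mkFam {T : Over S} (φ : H ⊗ T ⟶ G) (h : AutFam.IsHomFamily H G φ) :
    famOf (mkFam φ h) = φ := by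
  rw [famOf, mkFam, Equiv.apply_symm_apply]

theorem famOf_injective {T : Over S} :
    Function.Injective (famOf : ((yon S).obj T ⟶ homSp H G) → (H ⊗ T ⟶ G)) := fun _ _ h =>
  (uE (S := S)).injective (ULift.ext _ _ (Subtype.ext h))

theorem famOf_comp {T T' : Over S} (f : T' ⟶ T) (g : (yon S).obj T ⟶ homSp H G) :
    famOf ((yon S).map f ≫ g) = (H ◁ f) ≫ famOf g := by
  rw [famOf, ← GrothendieckTopology.uliftYonedaEquiv_naturality]
  rfl

/-- Families of homomorphisms are representable as soon as they are so over the members of a flat,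
locally finitely presented covering, by separated locally quasi-finite schemes. -/
theorem exists_representsHom {J : Type u} (U A : J → Over S)
    (hU : ∀ i, Flat (U i).hom ∧ LocallyOfFinitePresentation (U i).hom)
    (hUs : ∀ s : S, ∃ i, s ∈ Set.range (U i).hom)
    (q : ∀ i, A i ⟶ U i) (hq : ∀ i, sepLQF (q i).left)
    (υ : ∀ i, H ⊗ A i ⟶ G) (hυ : ∀ i, AutFam.IsHomFamily H G (υ i))
    (huniv : ∀ i (T : Over S) (x : T ⟶ U i) (φ : H ⊗ T ⟶ G), AutFam.IsHomFamily H G φ →
      ∃! a : T ⟶ A i, a ≫ q i = x ∧ (H ◁ a) ≫ υ i = φ) :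
    ∃ (B : Over S) (υB : H ⊗ B ⟶ G), AutFam.RepresentsHom H G B υB ∧
      ∀ i, ∃ (a : A i ⟶ B), (H ◁ a) ≫ υB = υ i ∧ IsPullback a.left (q i).left B.hom (U i).hom := by
  let F := homSp H G
  let pt : Sp S := ⊤_ _
  let W := sigmaOver U
  let A' := sigmaOver A
  let σq : A' ⟶ W := sigmaOut fun i => q i ≫ sigmaIn U i
  obtain ⟨L, hL⟩ := sigma_glue A fun i => mkFam (υ i) (hυ i)
  let a : F ⟶ pt := terminal.from F
  let b : (yon S).obj W ⟶ pt := terminal.from _
  have hb : LocLift b := fun T g => by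
    let c : (T ⊗ W) ⟶ T := fst T W
    have hW : fppfSurj W.hom := by
      refine (fppfSurj_iff _).2 ⟨⟨fun s => ?_⟩, ?_, ?_⟩
      · obtain ⟨i, y, hy⟩ := hUs s
        refine ⟨(sigmaIn U i).left y, ?_⟩
        rw [← Scheme.Hom.comp_apply, Over.w (sigmaIn U i)]
        exact hy
      · have : IsZariskiLocalAtSource (@Flat : MorphismProperty Scheme.{u}) :=
          HasRingHomProperty.instIsZariskiLocalAtSource
        exact IsZariskiLocalAtSource.sigmaDesc fun i => (hU i).1
      · have : IsZariskiLocalAtSource (@LocallyOfFinitePresentation : MorphismProperty Scheme.{u}) :=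
          HasRingHomProperty.instIsZariskiLocalAtSource
        exact IsZariskiLocalAtSource.sigmaDesc fun i => (hU i).2
    refine ⟨_, c, (yon S).map (snd T W), ?_, terminal.hom_ext _ _⟩
    exact MorphismProperty.pullback_fst (P := fppfSurj) T.hom W.hom hW
  have hσq : sepLQF σq.left := by
    have e : σq.left = Limits.Sigma.map fun i => (q i).left :=
      Limits.Sigma.hom_ext _ _ fun i => (Sigma.ι_desc _ _).trans
        (Limits.Sigma.ι_map (fun i => (q i).left) i).symm
    suffices h : sepLQF (Limits.Sigma.map fun i => (q i).left) from e ▸ h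
    refine IsZariskiLocalAtTarget.of_openCover (P := sepLQF) (sigmaOpenCover fun i => (U i).left) ?_
    intro (i : J)
    show sepLQF (pullback.snd (Limits.Sigma.map fun i => (q i).left) (Sigma.ι (fun i => (U i).left) i))
    rw [← (Desc59.Sigma'.isPullback_map (fun i => (q i).left) i).isoPullback_inv_snd,
      MorphismProperty.cancel_left_of_respectsIso sepLQF]
    exact hq i
  -- points of the disjoint union over points of the covering
  have huniv' : ∀ (T : Over S) (x : T ⟶ W) (φ : (yon S).obj T ⟶ F),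
      ∃! t : T ⟶ A', t ≫ σq = x ∧ (yon S).map t ≫ L = φ := by
    intro T x φ
    let O : J → T.left.Opens := fun i => x.left ⁻¹ᵁ (Sigma.ι (fun i => (U i).left) i).opensRange
    let Tp : J → Over S := fun i => openOver T (O i)
    let c : ∀ i, Tp i ⟶ T := fun i => openIncl T (O i)
    have hc : ∀ i, IsOpenImmersion (c i).left := fun i => inferInstanceAs (IsOpenImmersion (O i).ι)
    have hs : ∀ t : ↥T.left, ∃ i, t ∈ Set.range (c i).left := fun t => by
      obtain ⟨⟨i, v⟩, hv⟩ := (sigmaMk fun i => (U i).left).surjective (x.left t)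
      refine ⟨i, ?_⟩
      show t ∈ Set.range (O i).ι
      rw [Scheme.Opens.range_ι]
      exact ⟨v, by rw [← hv, sigmaMk_mk]⟩
    have hlift : ∀ i, ∃ xi : Tp i ⟶ U i, xi ≫ sigmaIn U i = c i ≫ x := fun i => by
      have : IsOpenImmersion (sigmaIn U i).left :=
        inferInstanceAs (IsOpenImmersion (Sigma.ι (fun i => (U i).left) i))
      have hr : Set.range (c i ≫ x).left ⊆ Set.range (sigmaIn U i).left := by
        rintro _ ⟨z, rfl⟩
        exact z.2
      refine ⟨Over.homMk (IsOpenImmersion.lift (sigmaIn U i).left (c i ≫ x).left hr) ?_,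
        Over.OverMorphism.ext (IsOpenImmersion.lift_fac _ _ hr)⟩
      rw [← Over.w (sigmaIn U i), ← Category.assoc, IsOpenImmersion.lift_fac, Over.w]
    choose xi hxi using hlift
    choose ai hai hai' using fun i => huniv i (Tp i) (xi i) (famOf ((yon S).map (c i) ≫ φ))
      (isHomFamily_famOf _)
    have hLi : ∀ i {T' : Over S} (a' : T' ⟶ A i),
        famOf ((yon S).map (a' ≫ sigmaIn A i) ≫ L) = (H ◁ a') ≫ υ i := fun i T' a' => by
      rw [Functor.map_comp, Category.assoc, hL, famOf_comp, famOf_mkFam]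
    have hσ : ∀ i, sigmaIn A i ≫ σq = q i ≫ sigmaIn U i := fun i => sigmaIn_out _ i
    have huniq : ∀ t : T ⟶ A', t ≫ σq = x → (yon S).map t ≫ L = φ → ∀ i, c i ≫ t = ai i ≫ sigmaIn A i := by
      intro t ht htL i
      have : IsOpenImmersion (sigmaIn A i).left :=
        inferInstanceAs (IsOpenImmersion (Sigma.ι (fun i => (A i).left) i))
      have hr : Set.range (c i ≫ t).left ⊆ Set.range (sigmaIn A i).left := by
        rintro _ ⟨z, rfl⟩
        obtain ⟨⟨j, v⟩, hv⟩ := (sigmaMk fun i => (A i).left).surjective ((c i ≫ t).left z)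
        rw [sigmaMk_mk] at hv
        change (sigmaIn A j).left v = _ at hv
        have h1 : (c i ≫ x).left z = (sigmaIn U j).left ((q j).left v) := by
          rw [← ht, ← Category.assoc, Over.comp_left, Scheme.Hom.comp_apply, ← hv, ← Scheme.Hom.comp_apply,
            ← Scheme.Hom.comp_apply]
          exact congrArg (fun m => (m : A j ⟶ W).left v) (hσ j)
        rw [← hxi i, Over.comp_left, Scheme.Hom.comp_apply] at h1
        change Sigma.ι (fun i => (U i).left) i _ = Sigma.ι (fun i => (U i).left) j _ at h1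
        rw [← sigmaMk_mk, ← sigmaMk_mk] at h1
        obtain rfl : i = j := congrArg Sigma.fst ((sigmaMk _).injective h1)
        exact ⟨v, hv⟩

      let l : Tp i ⟶ A i := Over.homMk (IsOpenImmersion.lift (sigmaIn A i).left (c i ≫ t).left hr) (by
        rw [← Over.w (sigmaIn A i), ← Category.assoc, IsOpenImmersion.lift_fac, Over.w])
      have hl : l ≫ sigmaIn A i = c i ≫ t := Over.OverMorphism.ext (IsOpenImmersion.lift_fac _ _ hr)
      have : Mono (sigmaIn U i) := (Over.forget S).mono_of_mono_map (f := sigmaIn U i)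
        (inferInstanceAs (Mono (Sigma.ι (fun i => (U i).left) i)))
      rw [← hl, hai' i l ⟨?_, ?_⟩]
      · rw [← cancel_mono (sigmaIn U i), Category.assoc, ← hσ, ← Category.assoc, hl, Category.assoc, ht, hxi]
      · rw [← hLi, hl, Functor.map_comp, Category.assoc, htL]
    obtain ⟨t, ht⟩ := open_cover_glue (F := (yon S).obj A') Tp c hc hs
      (fun i => (yon S).map (ai i ≫ sigmaIn A i)) fun i j Z p p' hpp => by
        by_cases hij : i = j
        · subst hij
          have : Mono (c i) := (Over.forget S).mono_of_mono_map (f := c i)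
            (inferInstanceAs (Mono (O i).ι))
          rw [(cancel_mono (c i)).1 hpp]
        · have : IsEmpty ↥Z.left := ⟨fun z => by
            have h := congrArg (fun m : Z ⟶ W => m.left z)
              (show (p ≫ xi i) ≫ sigmaIn U i = (p' ≫ xi j) ≫ sigmaIn U j by
                simp only [Category.assoc, hxi]; rw [reassoc_of% hpp])
            change Sigma.ι (fun i => (U i).left) i ((p ≫ xi i).left z) =
              Sigma.ι (fun i => (U i).left) j ((p' ≫ xi j).left z) at h
            rw [← sigmaMk_mk, ← sigmaMk_mk] at h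
            exact hij (congrArg Sigma.fst ((sigmaMk (fun i => (U i).left)).injective h))⟩
          exact hom_ext_of_isEmpty
    obtain ⟨t, rfl⟩ := (yon S).map_surjective t
    have ht' : ∀ i, c i ≫ t = ai i ≫ sigmaIn A i := fun i => (yon S).map_injective (by
      rw [Functor.map_comp]; exact ht i)
    refine ⟨t, ⟨(yon S).map_injective (open_cover_hom_ext Tp c hc hs fun i => ?_),
      open_cover_hom_ext Tp c hc hs fun i => famOf_injective ?_⟩, fun t' ⟨ht₁, ht₂⟩ => ?_⟩
    · rw [← Functor.map_comp, ← Functor.map_comp]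
      refine congrArg _ ?_
      rw [← Category.assoc, ht', Category.assoc, hσ, ← Category.assoc, (hai i).1, hxi]
    · rw [← Category.assoc, ← Functor.map_comp, ht', hLi, (hai i).2]
    · refine (yon S).map_injective (open_cover_hom_ext Tp c hc hs fun i => ?_)
      rw [← Functor.map_comp, ← Functor.map_comp, ht', huniq t' ht₁ ht₂ i]
  -- the cartesian square of sheaves
  let Ψ : (yon S).obj A' ⟶ pullback a b :=
    pullback.lift L ((yon S).map σq) (terminal.hom_ext _ _)
  have : IsIso Ψ := isIso_of_probe Ψ fun T g => by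
    obtain ⟨x, hx⟩ := (yon S).map_surjective (g ≫ pullback.snd a b)
    obtain ⟨t, ⟨ht₁, ht₂⟩, htu⟩ := huniv' T x (g ≫ pullback.fst a b)
    refine ⟨(yon S).map t, ?_, fun t' ht' => ?_⟩
    · show (yon S).map t ≫ Ψ = g
      apply pullback.hom_ext
      · rw [Category.assoc, pullback.lift_fst, ht₂]
      · rw [Category.assoc, pullback.lift_snd, ← Functor.map_comp, ht₁, hx]
    · obtain ⟨t'', rfl⟩ := (yon S).map_surjective t'
      refine congrArg _ (htu t'' ⟨(yon S).map_injective ?_, ?_⟩)
      · rw [Functor.map_comp, hx, ← ht', Category.assoc, pullback.lift_snd]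
      · rw [← ht', Category.assoc, pullback.lift_fst]
  have sq : IsPullback L ((yon S).map σq) a b :=
    IsPullback.of_iso_pullback ⟨terminal.hom_ext _ _⟩ (asIso Ψ) (pullback.lift_fst _ _ _) (pullback.lift_snd _ _ _)
  have hrep : Representable a :=
    representable_of_locLift_effective hasEffDescent_sepLQF hb sq ((repWith_yon_map_iff _ _).2 hσq)
  obtain ⟨B, s, p, sqB⟩ := hrep (a := Over.mk (𝟙 S)) (terminal.from _)
  have hB : AutFam.RepresentsHom H G B (famOf p) := by
    refine ⟨isHomFamily_famOf p, fun T φ hφ => ?_⟩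
    let x : T ⟶ Over.mk (𝟙 S) := Over.homMk T.hom (Category.comp_id _)
    obtain ⟨t, ht⟩ := (yon S).map_surjective
      (sqB.lift (mkFam φ hφ) ((yon S).map x) (terminal.hom_ext _ _))
    refine ⟨t, ?_, fun t' ht' => (yon S).map_injective (sqB.hom_ext ?_ ?_)⟩
    · show (H ◁ t) ≫ famOf p = φ
      rw [← famOf_comp, ht, sqB.lift_fst, famOf_mkFam]
    · refine famOf_injective ?_
      rw [ht, sqB.lift_fst, famOf_mkFam, famOf_comp]
      exact ht'
    · rw [← Functor.map_comp, ← Functor.map_comp]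
      exact congrArg _ (Over.OverMorphism.ext
        ((Category.comp_id _).symm.trans ((Over.w (t' ≫ s)).trans ((Over.w (t ≫ s)).symm.trans (Category.comp_id _)))))
  refine ⟨B, famOf p, hB, fun i => ?_⟩
  obtain ⟨t, ht, htu⟩ := hB.2 (A i) (υ i) (hυ i)
  refine ⟨t, ht, ?_⟩
  let Φ : A i ⟶ B ⊗ U i := lift t (q i)
  obtain ⟨r, ⟨hr₁, hr₂⟩, -⟩ := huniv i (B ⊗ U i) (snd _ _) ((H ◁ fst B (U i)) ≫ famOf p)
    (isHomFamily_precomp H G _ (isHomFamily_famOf p))
  have hrt : r ≫ t = fst B (U i) := (hB.2 _ _ (isHomFamily_precomp H G _ (isHomFamily_famOf p))).unique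
    (by rw [MonoidalCategory.whiskerLeft_comp, Category.assoc, ht, hr₂]) rfl
  have hΦr : Φ ≫ r = 𝟙 (A i) := by
    refine (huniv i (A i) (q i) (υ i) (hυ i)).unique ⟨?_, ?_⟩ ⟨Category.id_comp _, ?_⟩
    · rw [Category.assoc, hr₁, lift_snd]
    · rw [MonoidalCategory.whiskerLeft_comp, Category.assoc, hr₂, ← Category.assoc,
        ← MonoidalCategory.whiskerLeft_comp, lift_fst, ht]
    · rw [MonoidalCategory.whiskerLeft_id, Category.id_comp]
  have hrΦ : r ≫ Φ = 𝟙 (B ⊗ U i) := by
    apply CartesianMonoidalCategory.hom_ext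
    · rw [Category.assoc, lift_fst, hrt, Category.id_comp]
    · rw [Category.assoc, lift_snd, hr₁, Category.id_comp]
  have : IsIso Φ.left := ⟨r.left, by rw [← Over.comp_left, hΦr]; rfl, by rw [← Over.comp_left, hrΦ]; rfl⟩
  refine IsPullback.of_iso_pullback ⟨(Over.w t).trans (Over.w (q i)).symm⟩ (asIso Φ.left) ?_ ?_
  · exact congrArg (fun m : A i ⟶ B => m.left) (lift_fst t (q i))
  · exact congrArg (fun m : A i ⟶ U i => m.left) (lift_snd t (q i))

end Groth.Agent.Const38
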