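import Groth.Prelude.Def_AutFam
import Groth.Prelude.Def_Desc
import Groth.Agent.Const38.HomSheaf
import Groth.Agent.Desc59.DDFppf
import Groth.Agent.Desc59.DDDescend
import Groth.Agent.SpFP87.RepDescProps
import Groth.Agent.SGA3a.QuotGrp

/-! Families of homomorphisms are representable as soon as they are so, by an affine scheme, over an fpqc covering. -/

set_option autoImplicit false
set_option backward.isDefEq.respectTransparency false
set_option backward.isDefEq.respectTransparency.types false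
universe u

open CategoryTheory CategoryTheory.Limits MonoidalCategory CartesianMonoidalCategory MonObj AlgebraicGeometry
open Desc

noncomputable section

namespace Groth.Agent.Const38

open SGA3a.QuotCover

/-- A flat surjective morphism with the quasi-compactness condition is an fpqc covering. -/
theorem isFpqcMor_of_compact {X Y : Scheme.{u}} (f : X ⟶ Y) [Flat f] [Surjective f]
    (h : ∀ V : Y.Opens, IsAffineOpen V → ∃ W : X.Opens, IsCompact (W : Set X) ∧ f.base '' (W : Set X) = (V : Set Y)) :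
    Desc59.IsFpqcMor f := by
  refine ⟨?_, (Scheme.singleton_mem_precoverage_iff _ _).2 ⟨f.surjective, ‹Flat f›⟩⟩
  rw [← PreZeroHypercover.presieve₀_singleton.{_, _, u}, Scheme.presieve₀_mem_qcPrecoverage_iff]
  refine ⟨fun {V} hV => ?_⟩
  obtain ⟨K, hK, hKV⟩ := h V hV
  refine .of_finite (κ := Unit) (fun _ => PUnit.unit) (fun _ => K) (fun _ => hK) ?_
  rw [← hKV]
  exact Set.iUnion_const _

theorem isCov_of_isFpqcMor {X Y : Scheme.{u}} (f : X ⟶ Y) [Flat f] [Surjective f] [hf : Desc59.IsFpqcMor f] :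
    IsCov f := by
  refine ⟨X, f, 𝟙 X, Category.id_comp _, ‹_›, ‹_›, ?_⟩
  rw [← Scheme.presieve₀_mem_qcPrecoverage_iff, PreZeroHypercover.presieve₀_singleton]
  exact hf.mem.1

variable {S : Scheme.{u}} {R G : Over S} [GrpObj R] [GrpObj G] {W A : Over S} {q : A ⟶ W} {υ : R ⊗ A ⟶ G}

/-- Universality of a family over a covering. -/
def IsUnivOver (q : A ⟶ W) (υ : R ⊗ A ⟶ G) : Prop :=
  AutFam.IsHomFamily R G υ ∧ ∀ (T : Over S) (x : T ⟶ W) (φ : R ⊗ T ⟶ G), AutFam.IsHomFamily R G φ →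
    ∃! a : T ⟶ A, a ≫ q = x ∧ (R ◁ a) ≫ υ = φ

variable (hU : IsUnivOver q υ)

/-- Transport of a point to another point of the covering, keeping the family. -/
def tr {Z : Over S} (a : Z ⟶ A) (x : Z ⟶ W) : Z ⟶ A :=
  (hU.2 Z x ((R ◁ a) ≫ υ) (isHomFamily_precomp R G a hU.1)).exists.choose

theorem tr_spec {Z : Over S} (a : Z ⟶ A) (x : Z ⟶ W) : tr hU a x ≫ q = x ∧ (R ◁ tr hU a x) ≫ υ = (R ◁ a) ≫ υ :=
  (hU.2 Z x ((R ◁ a) ≫ υ) (isHomFamily_precomp R G a hU.1)).exists.choose_spec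

theorem eq_tr {Z : Over S} (a : Z ⟶ A) (x : Z ⟶ W) (b : Z ⟶ A) (h₁ : b ≫ q = x)
    (h₂ : (R ◁ b) ≫ υ = (R ◁ a) ≫ υ) : b = tr hU a x :=
  (hU.2 Z x ((R ◁ a) ≫ υ) (isHomFamily_precomp R G a hU.1)).unique ⟨h₁, h₂⟩ (tr_spec hU a x)

theorem comp_tr {Z Z' : Over S} (k : Z' ⟶ Z) (a : Z ⟶ A) (x : Z ⟶ W) : k ≫ tr hU a x = tr hU (k ≫ a) (k ≫ x) := by
  refine eq_tr hU _ _ _ (by rw [Category.assoc, (tr_spec hU a x).1]) ?_
  rw [MonoidalCategory.whiskerLeft_comp, Category.assoc, (tr_spec hU a x).2, MonoidalCategory.whiskerLeft_comp,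
    Category.assoc]

/-- A lift as a point. -/
def ptOf {T : Scheme.{u}} {x₀ : T ⟶ W.left} (v : Lifts (Over.mk q.left : Over W.left) x₀) :
    Over.mk (x₀ ≫ W.hom) ⟶ A :=
  Over.homMk v.1 (by
    have h : v.1 ≫ q.left = x₀ := v.2
    show v.1 ≫ A.hom = x₀ ≫ W.hom
    exact ((congrArg (v.1 ≫ ·) (Over.w q).symm).trans (Category.assoc _ _ _).symm).trans (congrArg (· ≫ W.hom) h))

/-- The gluing maps. -/
def glueFun {T : Scheme.{u}} (x₀ x₁ : T ⟶ W.left) (h : x₀ ≫ W.hom = x₁ ≫ W.hom)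
    (v : Lifts (Over.mk q.left : Over W.left) x₀) : Lifts (Over.mk q.left : Over W.left) x₁ :=
  ⟨(tr hU (ptOf v) (Over.homMk x₁ h.symm : Over.mk (x₀ ≫ W.hom) ⟶ W)).left,
    congrArg (fun k : Over.mk (x₀ ≫ W.hom) ⟶ W => k.left)
      (tr_spec hU (ptOf v) (Over.homMk x₁ h.symm : Over.mk (x₀ ≫ W.hom) ⟶ W)).1⟩

theorem glueFun_eq {Z : Over S} (x₀ x₁ : Z ⟶ W) (h : x₀.left ≫ W.hom = x₁.left ≫ W.hom) (a : Z ⟶ A)
    (v : Lifts (Over.mk q.left : Over W.left) x₀.left) (hv : v.1 = a.left) :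
    (glueFun hU x₀.left x₁.left h v).1 = (tr hU a x₁).left := by
  have key : ∀ {T : Scheme.{u}} (t : T ⟶ S) (y₀ y₁ : T ⟶ W.left) (h' : y₀ ≫ W.hom = y₁ ≫ W.hom)
      (_ : y₀ ≫ W.hom = t) (h₁ : y₁ ≫ W.hom = t) (b : Over.mk t ⟶ A)
      (w : Lifts (Over.mk q.left : Over W.left) y₀) (_ : w.1 = b.left),
      (glueFun hU y₀ y₁ h' w).1 = (tr hU b (Over.homMk y₁ h₁)).left := by
    intro T t y₀ y₁ h' h₀ h₁ b w hw
    subst h₀
    have e : b = ptOf w := Over.OverMorphism.ext hw.symm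
    subst e
    rfl
  exact key Z.hom x₀.left x₁.left h (Over.w x₀) (Over.w x₁) a v hv

theorem glueFun_self {T : Scheme.{u}} (x : T ⟶ W.left) (v : Lifts (Over.mk q.left : Over W.left) x) :
    glueFun hU x x rfl v = v := by
  refine Subtype.ext ?_
  have e := eq_tr hU (ptOf v) (Over.homMk x rfl) (ptOf v) (Over.OverMorphism.ext v.2) rfl
  exact (congrArg (fun k : Over.mk (x ≫ W.hom) ⟶ A => k.left) e).symm

theorem glueFun_glueFun {T : Scheme.{u}} (x₀ x₁ x₂ : T ⟶ W.left) (h₀₁ : x₀ ≫ W.hom = x₁ ≫ W.hom)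
    (h₁₂ : x₁ ≫ W.hom = x₂ ≫ W.hom) (v : Lifts (Over.mk q.left : Over W.left) x₀) :
    glueFun hU x₁ x₂ h₁₂ (glueFun hU x₀ x₁ h₀₁ v) = glueFun hU x₀ x₂ (h₀₁.trans h₁₂) v := by
  refine Subtype.ext ?_
  let X₁ : Over.mk (x₀ ≫ W.hom) ⟶ W := Over.homMk x₁ h₀₁.symm
  let X₂ : Over.mk (x₀ ≫ W.hom) ⟶ W := Over.homMk x₂ (h₀₁.trans h₁₂).symm
  show (glueFun hU X₁.left X₂.left h₁₂ _).1 = (tr hU (ptOf v) X₂).left
  rw [glueFun_eq hU X₁ X₂ h₁₂ (tr hU (ptOf v) X₁) _ rfl]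
  refine congrArg (fun k : Over.mk (x₀ ≫ W.hom) ⟶ A => k.left) (eq_tr hU _ _ _ (tr_spec hU _ _).1 ?_)
  rw [(tr_spec hU _ _).2, (tr_spec hU _ _).2]

/-- The descent datum of a universal family over a covering. -/
def famDD : SchDD W.hom where
  obj := Over.mk q.left
  φ _ x₀ x₁ h :=
    { toFun := glueFun hU x₀ x₁ h
      invFun := glueFun hU x₁ x₀ h.symm
      left_inv := fun v => (glueFun_glueFun hU x₀ x₁ x₀ h h.symm v).trans (glueFun_self hU x₀ v)
      right_inv := fun v => (glueFun_glueFun hU x₁ x₀ x₁ h.symm h v).trans (glueFun_self hU x₁ v) }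
  φ_natural T T' g x₀ x₁ h h' v v' hv := by
    let X₀ : Over.mk (x₀ ≫ W.hom) ⟶ W := Over.homMk x₀ rfl
    let X₁ : Over.mk (x₀ ≫ W.hom) ⟶ W := Over.homMk x₁ h.symm
    let k : Over.mk ((g ≫ x₀) ≫ W.hom) ⟶ Over.mk (x₀ ≫ W.hom) := Over.homMk g (Category.assoc _ _ _).symm
    show (glueFun hU (k ≫ X₀).left (k ≫ X₁).left h' v').1 = k.left ≫ (tr hU (ptOf v) X₁).left
    rw [glueFun_eq hU (k ≫ X₀) (k ≫ X₁) h' (k ≫ ptOf v) v' hv, ← comp_tr]
    rfl
  φ_self _ x v := glueFun_self hU x v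
  φ_comp _ x₀ x₁ x₂ h₀₁ h₁₂ v := glueFun_glueFun hU x₀ x₁ x₂ h₀₁ h₁₂ v

include hU in
/-- Descent of a universal family with ind-quasi-affine parameter scheme along an fpqc covering. -/
theorem exists_representsHom_fpqc' (hq : MoreMor.IsIndQuasiAffineHom q.left) [Surjective W.hom] [Flat W.hom]
    [Desc59.IsFpqcMor W.hom] : ∃ (B : Over S) (υB : R ⊗ B ⟶ G), AutFam.RepresentsHom R G B υB ∧
      ∃ π : A.left ⟶ B.left, IsPullback q.left π W.hom B.hom := by
  have hD : MoreMor.IsIndQuasiAffineHom (famDD hU).obj.hom := hq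
  obtain ⟨U, ⟨iD⟩⟩ := Desc59.effective_of_isIndQuasiAffineHom' W.hom (famDD hU) hD
  -- points of the descended scheme over points of the covering
  let can : ∀ {Z : Over S}, (Z ⟶ W) → (Z ⟶ U) → (Z.left ⟶ pullback W.hom U.hom) := fun x y =>
    pullback.lift x.left y.left (by rw [Over.w, Over.w])
  have hi₁ : iD.hom.hom.left ≫ iD.inv.hom.left = 𝟙 _ := by
    rw [← Over.comp_left, ← SchDD.comp_hom, iD.hom_inv_id]; rfl
  have hi₂ : iD.inv.hom.left ≫ iD.hom.hom.left = 𝟙 _ := by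
    rw [← Over.comp_left, ← SchDD.comp_hom, iD.inv_hom_id]; rfl
  have hw : iD.hom.hom.left ≫ q.left = pullback.fst W.hom U.hom := Over.w iD.hom.hom
  let e : ∀ {Z : Over S}, (Z ⟶ W) → (Z ⟶ U) → (Z ⟶ A) := fun {Z} x y =>
    Over.homMk (can x y ≫ iD.hom.hom.left) (by
      show (can x y ≫ iD.hom.hom.left) ≫ A.hom = Z.hom
      rw [← Over.w q, Category.assoc, reassoc_of% hw, ← Category.assoc, pullback.lift_fst, Over.w])
  have he₁ : ∀ {Z : Over S} (x : Z ⟶ W) (y : Z ⟶ U), e x y ≫ q = x := fun x y => Over.OverMorphism.ext (by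
    show (can x y ≫ iD.hom.hom.left) ≫ q.left = x.left
    rw [Category.assoc, hw, pullback.lift_fst])
  have hek : ∀ {Z Z' : Over S} (k : Z' ⟶ Z) (x : Z ⟶ W) (y : Z ⟶ U), e (k ≫ x) (k ≫ y) = k ≫ e x y :=
    fun k x y => Over.OverMorphism.ext (by
      show can (k ≫ x) (k ≫ y) ≫ iD.hom.hom.left = k.left ≫ can x y ≫ iD.hom.hom.left
      rw [show can (k ≫ x) (k ≫ y) = k.left ≫ can x y from
        pullback.hom_ext (by simp [can]) (by simp [can]), Category.assoc])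
  have hinj : ∀ {Z : Over S} (x : Z ⟶ W) (y y' : Z ⟶ U), e x y = e x y' → y = y' := fun x y y' h => by
    have h' : can x y ≫ iD.hom.hom.left = can x y' ≫ iD.hom.hom.left := congrArg (fun m => m.left) h
    replace h' := congrArg (· ≫ iD.inv.hom.left ≫ pullback.snd W.hom U.hom) h'
    simp only [Category.assoc, reassoc_of% hi₁] at h'
    exact Over.OverMorphism.ext (by simpa [can] using h')
  have hsurj : ∀ {Z : Over S} (x : Z ⟶ W) (a : Z ⟶ A), a ≫ q = x → ∃ y, e x y = a := by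
    intro Z x a ha
    have hw' : iD.inv.hom.left ≫ pullback.fst W.hom U.hom = q.left := Over.w iD.inv.hom
    let m : Z.left ⟶ pullback W.hom U.hom := a.left ≫ iD.inv.hom.left
    have hm : m ≫ pullback.fst W.hom U.hom = x.left := by
      rw [Category.assoc, hw', ← Over.comp_left, ha]
    refine ⟨Over.homMk (m ≫ pullback.snd W.hom U.hom) ?_, Over.OverMorphism.ext ?_⟩
    · rw [Category.assoc, ← pullback.condition, ← Category.assoc, hm, Over.w]
    · show can x _ ≫ iD.hom.hom.left = a.left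
      rw [show can x (Over.homMk (m ≫ pullback.snd W.hom U.hom) _) = m from
        pullback.hom_ext (by simpa [can] using hm.symm) (by simp [can]), Category.assoc, hi₂]
      exact Category.comp_id _
  have hfam : ∀ {Z : Over S} (x₀ x₁ : Z ⟶ W) (y : Z ⟶ U), (R ◁ e x₀ y) ≫ υ = (R ◁ e x₁ y) ≫ υ := by
    intro Z x₀ x₁ y
    have h : x₀.left ≫ W.hom = x₁.left ≫ W.hom := by rw [Over.w, Over.w]
    let v : Lifts ((toDD W.hom).obj U).obj x₀.left := ⟨can x₀ y, pullback.lift_fst _ _ _⟩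
    have hc := iD.hom.comm x₀.left x₁.left h v (iD.hom.push v) rfl
    have e1 : (((toDD W.hom).obj U).φ x₀.left x₁.left h v).1 = can x₁ y := by
      show (pullback.lift _ _ _ : _ ⟶ pullback W.hom U.hom) = _
      apply pullback.hom_ext <;> simp [can, v]
    rw [e1] at hc
    have e2 : e x₁ y = tr hU (e x₀ y) x₁ := Over.OverMorphism.ext
      (hc.symm.trans (glueFun_eq hU x₀ x₁ h (e x₀ y) (iD.hom.push v) rfl))
    rw [e2, (tr_spec hU _ _).2]
  -- descend the family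
  have hcovW : IsCov W.hom := isCov_of_isFpqcMor _
  have hcov : ∀ X : Over S, IsCov (fst X W).left := fun X =>
    IsCov.of_isPullback (IsPullback.of_hasPullback X.hom W.hom).flip hcovW
  let p : R ⊗ (U ⊗ W) ⟶ R ⊗ U := R ◁ fst U W
  have hp : IsCov p.left :=
    IsCov.of_isPullback (SGA3a.QuotDiag.isPullback_whiskerLeft_snd R (fst U W)) (hcov U)
  obtain ⟨υU, hυU⟩ := exists_desc p hp ((R ◁ e (snd U W) (fst U W)) ≫ υ) fun V a b hab => by
    have hR : a ≫ fst _ _ = b ≫ fst _ _ := by simpa [p] using congrArg (· ≫ fst R U) hab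
    have hy : a ≫ snd _ _ ≫ fst U W = b ≫ snd _ _ ≫ fst U W := by simpa [p] using congrArg (· ≫ snd R U) hab
    have key : ∀ c : V ⟶ R ⊗ (U ⊗ W), c ≫ (R ◁ e (snd U W) (fst U W)) ≫ υ =
        lift (c ≫ fst _ _) (𝟙 V) ≫ (R ◁ e (c ≫ snd _ _ ≫ snd U W) (c ≫ snd _ _ ≫ fst U W)) ≫ υ := fun c => by
      have e3 : e (c ≫ snd _ _ ≫ snd U W) (c ≫ snd _ _ ≫ fst U W) = (c ≫ snd _ _) ≫ e (snd U W) (fst U W) := by
        rw [← hek, Category.assoc, Category.assoc]
      rw [e3, lift_whiskerLeft_assoc, Category.id_comp, ← lift_whiskerLeft_assoc, lift_comp_fst_snd]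
    rw [key, key, hR, hy, hfam]
  have hυU' : ∀ {Z : Over S} (x : Z ⟶ W) (y : Z ⟶ U), (R ◁ y) ≫ υU = (R ◁ e x y) ≫ υ := fun {Z} x y => by
    have h1 : R ◁ y = (R ◁ lift y x) ≫ p := by
      rw [← MonoidalCategory.whiskerLeft_comp, lift_fst]
    rw [h1, Category.assoc, hυU, ← Category.assoc, ← MonoidalCategory.whiskerLeft_comp, ← hek, lift_fst, lift_snd]
  have hfamU : AutFam.IsHomFamily R G υU := fun X g₁ g₂ t => by
    have := epi_of_isCov _ (hcov X)
    rw [← cancel_epi (fst X W), MonObj.comp_mul, comp_lift_assoc, comp_lift_assoc, comp_lift_assoc,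
      MonObj.comp_mul]
    have k : ∀ g : X ⊗ W ⟶ R, lift g (fst X W ≫ t) ≫ υU =
        lift g (𝟙 _) ≫ (R ◁ e (snd X W) (fst X W ≫ t)) ≫ υ := fun g => by
      rw [← hυU', lift_whiskerLeft_assoc, Category.id_comp]
    rw [k, k, k]
    exact isHomFamily_precomp R G _ hU.1 _ _ _ _
  refine ⟨U, υU, ⟨hfamU, fun T φ hφ => ?_⟩, iD.inv.hom.left ≫ pullback.snd W.hom U.hom, ?_⟩
  swap
  · haveI : IsIso iD.inv.hom.left := ⟨iD.hom.hom.left, hi₂, hi₁⟩
    refine IsPullback.of_iso_pullback ⟨?_⟩ (asIso iD.inv.hom.left) ?_ rfl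
    · show q.left ≫ W.hom = (iD.inv.hom.left ≫ pullback.snd W.hom U.hom) ≫ U.hom
      rw [Category.assoc, ← pullback.condition, ← Category.assoc]
      exact congrArg (· ≫ W.hom) (Over.w iD.inv.hom).symm
    · exact Over.w iD.inv.hom
  obtain ⟨a, ⟨ha₁, ha₂⟩, -⟩ := hU.2 (T ⊗ W) (snd T W) ((R ◁ fst T W) ≫ φ) (isHomFamily_precomp R G _ hφ)
  obtain ⟨y', hy'⟩ := hsurj (snd T W) a ha₁
  have huniq : ∀ {Z : Over S} (x : Z ⟶ W) (y y₁ : Z ⟶ U), (R ◁ y) ≫ υU = (R ◁ y₁) ≫ υU → y = y₁ := by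
    intro Z x y y₁ h
    refine hinj x y y₁ ((hU.2 Z x _ (isHomFamily_precomp R G _ hU.1)).unique ⟨he₁ x y, rfl⟩ ⟨he₁ x y₁, ?_⟩)
    rw [← hυU', ← hυU', h]
  obtain ⟨y, hy⟩ := exists_desc (fst T W) (hcov T) y' fun V c d hcd => by
    have k : ∀ c' : V ⟶ T ⊗ W, (R ◁ (c' ≫ y')) ≫ υU = (R ◁ (c' ≫ fst T W)) ≫ φ := fun c' => by
      rw [MonoidalCategory.whiskerLeft_comp, Category.assoc, hυU' (snd T W) y', hy', ha₂,
        MonoidalCategory.whiskerLeft_comp, Category.assoc]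
    exact huniq (c ≫ snd T W) _ _ (by rw [k, k, hcd])
  have := epi_of_isCov _ (hcov T)
  have : Epi (R ◁ fst T W) := epi_of_isCov _
    (IsCov.of_isPullback (SGA3a.QuotDiag.isPullback_whiskerLeft_snd R (fst T W)) (hcov T))
  refine ⟨y, ?_, fun y₁ hy₁ => ?_⟩
  · show (R ◁ y) ≫ υU = φ
    rw [← cancel_epi (R ◁ fst T W), ← Category.assoc, ← MonoidalCategory.whiskerLeft_comp, hy,
      hυU' (snd T W) y', hy', ha₂]
  · rw [← cancel_epi (fst T W)]
    refine huniq (snd T W) _ _ ?_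
    rw [MonoidalCategory.whiskerLeft_comp, Category.assoc, hy₁, hy, hυU' (snd T W) y', hy', ha₂]

include hU in
/-- Descent of a universal family with affine parameter scheme along an fpqc covering. -/
theorem exists_representsHom_fpqc [IsAffineHom q.left] [Surjective W.hom] [Flat W.hom]
    [Desc59.IsFpqcMor W.hom] : ∃ (B : Over S) (υB : R ⊗ B ⟶ G), AutFam.RepresentsHom R G B υB :=
  (exists_representsHom_fpqc' hU (SpFP87.isIndQuasiAffineHom_of_isAffineHom _)).imp fun _ h => h.imp fun _ h' => h'.1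

end Groth.Agent.Const38
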