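import Groth.Agent.Alb96.GeomInt
import Groth.Agent.AbSch7.Cover
import Groth.Agent.LimTop61.GluePoint
import Groth.Agent.RedPts82.Coord
import Mathlib.AlgebraicGeometry.Morphisms.Flat

/-!
Multiplicative families on a flat group with connected fibres agreeing near the unit section agree; morphisms
agreeing on the thickenings of a point agree near it.
-/

set_option autoImplicit false
set_option backward.isDefEq.respectTransparency.types false
set_option linter.style.haveILetI false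
universe u

open CategoryTheory MonoidalCategory CartesianMonoidalCategory MonObj GrpObj AlgebraicGeometry
open CategoryTheory.Limits

noncomputable section

namespace Groth.Agent.Const38

variable {S : Scheme.{u}}

/-- The shear automorphism `(t, g, h) ↦ (t, g * h, h)`. -/
def shearIso (T G : Over S) [GrpObj G] : T ⊗ (G ⊗ G) ≅ T ⊗ (G ⊗ G) where
  hom := lift (fst _ _) (lift ((snd _ _ ≫ fst _ _) * (snd _ _ ≫ snd _ _)) (snd _ _ ≫ snd _ _))
  inv := lift (fst _ _) (lift ((snd _ _ ≫ fst _ _) * (snd _ _ ≫ snd _ _)⁻¹) (snd _ _ ≫ snd _ _))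
  hom_inv_id := by
    refine CartesianMonoidalCategory.hom_ext _ _ (by simp) (CartesianMonoidalCategory.hom_ext _ _ ?_ (by simp))
    simp only [Category.assoc, lift_snd, lift_fst, MonObj.comp_mul, GrpObj.comp_inv, lift_snd_assoc, lift_fst_assoc,
      Category.id_comp]
    rw [_root_.mul_assoc, mul_inv_cancel, _root_.mul_one]
  inv_hom_id := by
    refine CartesianMonoidalCategory.hom_ext _ _ (by simp) (CartesianMonoidalCategory.hom_ext _ _ ?_ (by simp))
    simp only [Category.assoc, lift_snd, lift_fst, MonObj.comp_mul, GrpObj.comp_inv, lift_snd_assoc, lift_fst_assoc,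
      Category.id_comp]
    rw [_root_.mul_assoc, inv_mul_cancel, _root_.mul_one]

set_option maxHeartbeats 1000000 in
/-- The second point of the unit section lies in an irreducible fibre. -/
theorem irreducibleSpace_bc {G : Over S} [GrpObj G] (hconn : ∀ s : S, _root_.IsConnected (G.hom.base ⁻¹' {s}))
    (K : Type u) [Field K] (p : Spec (CommRingCat.of K) ⟶ S) : IrreducibleSpace ↥(pullback G.hom p) := by
  haveI : GeometricallyConnected G.hom := AbSch7.geometricallyConnected_of_preimage G.hom η[G].left (Over.w η[G]) hconn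
  let GK : Over (Spec (CommRingCat.of K)) := Red.bc p G
  haveI : ConnectedSpace GK.left :=
    GeometricallyConnected.geometrically_connectedSpace (f := G.hom) p _ _ (IsPullback.of_hasPullback G.hom p)
  haveI := Alb96.geometricallyIrreducible_of_connectedSpace GK
  exact GeometricallyIrreducible.geometrically_irreducibleSpace (f := GK.hom) (𝟙 _) (𝟙 GK.left) GK.hom
    (IsPullback.id_horiz _)

set_option maxHeartbeats 1000000 in
/-- Two families of homomorphisms on a flat group with connected fibres agreeing on an open set containing the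
unit section are equal. -/
theorem eq_of_agree_near_unit {T G K : Over S} [GrpObj G] [GrpObj K] [Flat G.hom]
    [LocallyOfFinitePresentation G.hom] (hconn : ∀ s : S, _root_.IsConnected (G.hom.base ⁻¹' {s}))
    (f f' : T ⊗ G ⟶ K)
    (hf : ∀ (Z : Over S) (t : Z ⟶ T) (g g' : Z ⟶ G), lift t (g * g') ≫ f = (lift t g ≫ f) * (lift t g' ≫ f))
    (hf' : ∀ (Z : Over S) (t : Z ⟶ T) (g g' : Z ⟶ G), lift t (g * g') ≫ f' = (lift t g ≫ f') * (lift t g' ≫ f'))
    (U : (T ⊗ G).left.Opens) (hU : ∀ t : T.left, (lift (𝟙 T) (1 : T ⟶ G)).left t ∈ U)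
    (h : U.ι ≫ f.left = U.ι ≫ f'.left) : f = f' := by
  let a : T ⊗ (G ⊗ G) ⟶ T ⊗ G := lift (fst _ _) (snd _ _ ≫ fst _ _)
  let b : T ⊗ (G ⊗ G) ⟶ T ⊗ G := lift (fst _ _) (snd _ _ ≫ snd _ _)
  let m : T ⊗ (G ⊗ G) ⟶ T ⊗ G := lift (fst _ _) ((snd _ _ ≫ fst _ _) * (snd _ _ ≫ snd _ _))
  have hm : m = (shearIso T G).hom ≫ a := by
    refine CartesianMonoidalCategory.hom_ext _ _ (by simp [m, a, shearIso]) ?_
    simp [m, a, shearIso]
  have ha : a = (α_ T G G).inv ≫ fst (T ⊗ G) G := by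
    refine CartesianMonoidalCategory.hom_ext _ _ (by simp [a]) (by simp [a])
  haveI : Flat (fst (T ⊗ G) G).left := inferInstanceAs (Flat (pullback.fst (T ⊗ G).hom G.hom))
  haveI : LocallyOfFinitePresentation (fst (T ⊗ G) G).left :=
    inferInstanceAs (LocallyOfFinitePresentation (pullback.fst (T ⊗ G).hom G.hom))
  haveI hmflat : Flat m.left := by
    rw [hm, ha, Over.comp_left, Over.comp_left]
    exact MorphismProperty.RespectsIso.precomp @Flat ((Over.forget _).mapIso (shearIso T G)).hom _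
      (MorphismProperty.RespectsIso.precomp @Flat ((Over.forget _).mapIso (α_ T G G)).inv _
        (show Flat (fst (T ⊗ G) G).left from inferInstance))
  let O : (T ⊗ (G ⊗ G)).left.Opens := a.left ⁻¹ᵁ U ⊓ b.left ⁻¹ᵁ U
  -- agreement on the open set
  let Q : Over S := Over.mk (O.ι ≫ (T ⊗ (G ⊗ G)).hom)
  let j : Q ⟶ T ⊗ (G ⊗ G) := Over.homMk O.ι rfl
  have hagree : ∀ c : T ⊗ (G ⊗ G) ⟶ T ⊗ G, O ≤ c.left ⁻¹ᵁ U → j ≫ c ≫ f = j ≫ c ≫ f' := by
    intro c hc
    ext1
    show O.ι ≫ c.left ≫ f.left = O.ι ≫ c.left ≫ f'.left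
    have e : O.ι ≫ c.left = ((T ⊗ (G ⊗ G)).left.homOfLE hc ≫ (c.left ∣_ U)) ≫ U.ι := by
      rw [Category.assoc, morphismRestrict_ι, Scheme.homOfLE_ι_assoc]
    rw [reassoc_of% e, reassoc_of% e, h]
  have key : j ≫ m ≫ f = j ≫ m ≫ f' := by
    have e : ∀ g : T ⊗ G ⟶ K, (∀ (Z : Over S) (t : Z ⟶ T) (g₁ g₂ : Z ⟶ G),
        lift t (g₁ * g₂) ≫ g = (lift t g₁ ≫ g) * (lift t g₂ ≫ g)) → m ≫ g = (a ≫ g) * (b ≫ g) := fun g hg => hg _ _ _ _
    rw [e f hf, e f' hf', MonObj.comp_mul, MonObj.comp_mul, hagree a inf_le_left, hagree b inf_le_right]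
  -- surjectivity
  haveI : Surjective (O.ι ≫ m.left) := ⟨fun y => by
    let K₀ : Type u := (T ⊗ G).left.residueField y
    let P₀ : Over S := Over.mk ((T ⊗ G).left.fromSpecResidueField y ≫ (T ⊗ G).hom)
    let z : P₀ ⟶ T ⊗ G := Over.homMk ((T ⊗ G).left.fromSpecResidueField y) rfl
    let P : Over S := G ⊗ P₀
    let t : P ⟶ T := snd _ _ ≫ z ≫ fst _ _
    let g₀ : P ⟶ G := snd _ _ ≫ z ≫ snd _ _
    let h₀ : P ⟶ G := fst _ _
    let φ : P ⟶ T ⊗ G := lift t h₀
    let ψ : P ⟶ T ⊗ G := lift t (h₀⁻¹ * g₀)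
    let Γ : P ⟶ T ⊗ (G ⊗ G) := lift t (lift h₀ (h₀⁻¹ * g₀))
    haveI : IrreducibleSpace P.left := irreducibleSpace_bc hconn K₀ P₀.hom
    have hΓm : Γ ≫ m = snd _ _ ≫ z := by
      refine CartesianMonoidalCategory.hom_ext _ _ (by simp [Γ, m, t]) ?_
      simp only [Γ, m, Category.assoc, lift_snd, MonObj.comp_mul, lift_snd_assoc, lift_fst, mul_inv_cancel_left]
      rfl
    let c : P₀.left := IsLocalRing.closedPoint K₀
    have key₁ : (lift (1 : P₀ ⟶ G) (𝟙 P₀) ≫ φ) = (z ≫ fst _ _) ≫ lift (𝟙 T) 1 := by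
      refine CartesianMonoidalCategory.hom_ext _ _ (by simp [φ, t]) ?_
      simp [φ, h₀]
    have key₂ : (lift (z ≫ snd _ _) (𝟙 P₀) ≫ ψ) = (z ≫ fst _ _) ≫ lift (𝟙 T) 1 := by
      refine CartesianMonoidalCategory.hom_ext _ _ (by simp [ψ, t]) ?_
      simp [ψ, h₀, g₀, MonObj.comp_mul, GrpObj.comp_inv]
    have hne₁ : ((φ.left ⁻¹ᵁ U : P.left.Opens) : Set P.left).Nonempty :=
      ⟨(lift (1 : P₀ ⟶ G) (𝟙 P₀)).left c, by
        show φ.left ((lift (1 : P₀ ⟶ G) (𝟙 P₀)).left c) ∈ U
        rw [← Scheme.Hom.comp_apply, ← Over.comp_left, key₁, Over.comp_left, Scheme.Hom.comp_apply]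
        exact hU _⟩
    have hne₂ : ((ψ.left ⁻¹ᵁ U : P.left.Opens) : Set P.left).Nonempty :=
      ⟨(lift (z ≫ snd _ _) (𝟙 P₀)).left c, by
        show ψ.left ((lift (z ≫ snd _ _) (𝟙 P₀)).left c) ∈ U
        rw [← Scheme.Hom.comp_apply, ← Over.comp_left, key₂, Over.comp_left, Scheme.Hom.comp_apply]
        exact hU _⟩
    obtain ⟨w, hw₁, hw₂⟩ := nonempty_preirreducible_inter (φ.left ⁻¹ᵁ U).2 (ψ.left ⁻¹ᵁ U).2 hne₁ hne₂
    have hwO : Γ.left w ∈ O := by
      refine ⟨?_, ?_⟩
      · show a.left (Γ.left w) ∈ U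
        rw [← Scheme.Hom.comp_apply, ← Over.comp_left,
          show Γ ≫ a = φ by refine CartesianMonoidalCategory.hom_ext _ _ (by simp [Γ, a, φ]) (by simp [Γ, a, φ])]
        exact hw₁
      · show b.left (Γ.left w) ∈ U
        rw [← Scheme.Hom.comp_apply, ← Over.comp_left,
          show Γ ≫ b = ψ by refine CartesianMonoidalCategory.hom_ext _ _ (by simp [Γ, b, ψ]) (by simp [Γ, b, ψ])]
        exact hw₂
    refine ⟨⟨Γ.left w, hwO⟩, ?_⟩
    show m.left (Γ.left w) = y
    rw [← Scheme.Hom.comp_apply, ← Over.comp_left, hΓm, Over.comp_left, Scheme.Hom.comp_apply]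
    exact Scheme.fromSpecResidueField_apply y _⟩
  haveI : Flat (O.ι ≫ m.left) := inferInstance
  haveI := Flat.epi_of_flat_of_surjective (O.ι ≫ m.left)
  ext1
  rw [← cancel_epi (O.ι ≫ m.left)]
  simpa [j] using congrArg Over.Hom.left key

/-- Morphisms into a scheme locally of finite type agreeing on all the thickenings of a point of a locally
noetherian scheme agree near it. -/
theorem exists_nhd_eq_of_thickenings {X Y B : Scheme.{u}} [IsLocallyNoetherian X] (q : Y ⟶ B)
    [LocallyOfFiniteType q] (a b : X ⟶ Y) (hab : a ≫ q = b ≫ q) (x : X)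
    (h : ∀ k : ℕ, Spec.map (CommRingCat.ofHom (Ideal.Quotient.mk (IsLocalRing.maximalIdeal (X.presheaf.stalk x) ^ (k + 1)))) ≫
        X.fromSpecStalk x ≫ a =
      Spec.map (CommRingCat.ofHom (Ideal.Quotient.mk (IsLocalRing.maximalIdeal (X.presheaf.stalk x) ^ (k + 1)))) ≫
        X.fromSpecStalk x ≫ b) :
    ∃ O : X.Opens, x ∈ O ∧ O.ι ≫ a = O.ι ≫ b := by
  let L := X.presheaf.stalk x
  let α := X.fromSpecStalk x ≫ a
  let β := X.fromSpecStalk x ≫ b
  let c : Spec L := IsLocalRing.closedPoint L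
  have hc : α c = β c := by
    have : Nontrivial (L ⧸ IsLocalRing.maximalIdeal L ^ (0 + 1)) := Ideal.Quotient.nontrivial_iff.mpr (by
      rw [zero_add, pow_one]; exact (IsLocalRing.maximalIdeal.isMaximal L).ne_top)
    obtain ⟨pz⟩ := (inferInstance : Nonempty (PrimeSpectrum (L ⧸ IsLocalRing.maximalIdeal L ^ (0 + 1))))
    have hp : (Spec.map (CommRingCat.ofHom (Ideal.Quotient.mk (IsLocalRing.maximalIdeal L ^ (0 + 1))))) pz = c := by
      refine PrimeSpectrum.ext ((IsLocalRing.maximalIdeal.isMaximal L).eq_of_le ?_ ?_).symm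
      · exact (PrimeSpectrum.comap (Ideal.Quotient.mk _) pz).isPrime.ne_top
      · intro r hr
        show Ideal.Quotient.mk _ r ∈ pz.asIdeal
        rw [Ideal.Quotient.eq_zero_iff_mem.mpr (by rw [zero_add, pow_one]; exact hr)]
        exact zero_mem _
    have := congrArg (fun k => k pz) (h 0)
    simp only [Scheme.Hom.comp_apply] at this
    rw [hp] at this
    simpa [α, β] using this
  obtain ⟨V, hV, hcV, -⟩ := exists_isAffineOpen_mem_and_subset (U := (⊤ : Y.Opens)) (x := α c) trivial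
  have hr : ∀ δ : Spec L ⟶ Y, δ c ∈ V → Set.range δ ⊆ Set.range hV.fromSpec := by
    intro δ hδ
    rw [hV.range_fromSpec]
    rintro _ ⟨z, rfl⟩
    exact ((IsLocalRing.specializes_closedPoint z).map δ.continuous).mem_open V.2 hδ
  let α' := IsOpenImmersion.lift hV.fromSpec α (hr α hcV)
  let β' := IsOpenImmersion.lift hV.fromSpec β (hr β (hc ▸ hcV))
  have heq : Spec.preimage α' = Spec.preimage β' := by
    ext v
    have key : ∀ k : ℕ, (Spec.preimage α').hom v - (Spec.preimage β').hom v ∈ IsLocalRing.maximalIdeal L ^ (k + 1) := by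
      intro k
      have h1 : Spec.map (CommRingCat.ofHom (Ideal.Quotient.mk (IsLocalRing.maximalIdeal L ^ (k + 1)))) ≫ Spec.map (Spec.preimage α') =
          Spec.map (CommRingCat.ofHom (Ideal.Quotient.mk (IsLocalRing.maximalIdeal L ^ (k + 1)))) ≫ Spec.map (Spec.preimage β') := by
        rw [← cancel_mono hV.fromSpec, Spec.map_preimage, Spec.map_preimage, Category.assoc, Category.assoc,
          IsOpenImmersion.lift_fac, IsOpenImmersion.lift_fac]
        exact h k
      rw [← Spec.map_comp, ← Spec.map_comp] at h1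
      have h2 := congrArg (fun g => g v) (Spec.map_injective h1)
      exact Ideal.Quotient.eq.mp h2
    have hmem : (Spec.preimage α').hom v - (Spec.preimage β').hom v ∈ ⨅ k : ℕ, IsLocalRing.maximalIdeal L ^ k := by
      rw [Submodule.mem_iInf]
      exact fun k => Ideal.pow_le_pow_right (Nat.le_succ k) (key k)
    rw [Ideal.iInf_pow_eq_bot_of_isLocalRing _ (IsLocalRing.maximalIdeal.isMaximal L).ne_top, Ideal.mem_bot, sub_eq_zero] at hmem
    exact hmem
  have hαβ : α = β := by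
    rw [← IsOpenImmersion.lift_fac hV.fromSpec α (hr α hcV), ← IsOpenImmersion.lift_fac hV.fromSpec β (hr β (hc ▸ hcV))]
    show α' ≫ _ = β' ≫ _
    rw [← Spec.map_preimage α', heq, Spec.map_preimage]
  obtain ⟨O, -, hx, hO⟩ := LimTop61.exists_nhd_eq q a b hab x hαβ
  exact ⟨O, hx, hO⟩

end Groth.Agent.Const38
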