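import Groth.Agent.Const38.Etale
import Groth.Prelude.Def_Red
import Groth.Prelude.Def_NonAbH2

/-! Base change of constant groups and of exact sequences. -/

set_option autoImplicit false
set_option linter.style.haveILetI false
universe u

open CategoryTheory CategoryTheory.Limits MonoidalCategory CartesianMonoidalCategory MonObj AlgebraicGeometry

namespace Groth.Agent.Const38

variable {S T : Scheme.{u}} (t : T ⟶ S)

theorem isPullback_bc_map {X Y : Over S} (f : X ⟶ Y) :
    IsPullback (pullback.fst X.hom t) ((Over.pullback t).map f).left f.left (pullback.fst Y.hom t) := by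
  refine IsPullback.of_bot ?_ ?_ (IsPullback.of_hasPullback Y.hom t)
  · have h1 : ((Over.pullback t).map f).left ≫ pullback.snd Y.hom t = pullback.snd X.hom t := Over.w ((Over.pullback t).map f)
    rw [h1, Over.w f]
    exact IsPullback.of_hasPullback X.hom t
  · exact (pullback.lift_fst _ _ _).symm

variable {Z : Type u}

/-- The base change of a constant scheme is constant. -/
theorem exists_constBC : ∃ e : Red.bc t (TwC.const S Z) ≅ TwC.const T Z,
    ∀ m : Z, Functor.LaxMonoidal.ε (Over.pullback t) ≫ (Over.pullback t).map (TwC.pt S Z m) =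
      TwC.pt T Z m ≫ e.inv := by
  let d : (∐ fun _ : Z => S) ⟶ S := Sigma.desc fun _ => 𝟙 S
  let piece : Z → (T ⟶ pullback d t) := fun m =>
    pullback.lift (t ≫ Sigma.ι (fun _ : Z => S) m) (𝟙 T) (by simp [d])
  have hP : ∀ m, IsPullback t (piece m) (Sigma.ι (fun _ : Z => S) m) (pullback.fst d t) := fun m => by
    refine IsPullback.of_bot ?_ (pullback.lift_fst _ _ _).symm (IsPullback.of_hasPullback d t)
    rw [show piece m ≫ pullback.snd d t = 𝟙 T from pullback.lift_snd _ _ _,
      show Sigma.ι (fun _ : Z => S) m ≫ d = 𝟙 S from Sigma.ι_desc _ _]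
    exact IsPullback.of_vert_isIso ⟨by simp⟩
  have : ∀ m, IsOpenImmersion (piece m) := fun m =>
    MorphismProperty.of_isPullback (P := @IsOpenImmersion) (hP m) inferInstance
  have hrange : ∀ m, Set.range (piece m) = pullback.fst d t ⁻¹' Set.range (Sigma.ι (fun _ : Z => S) m) := fun m => by
    refine Eq.trans ?_ (IsOpenImmersion.range_pullbackSnd (Sigma.ι (fun _ : Z => S) m) (pullback.fst d t))
    conv_lhs => rw [← (hP m).isoPullback_hom_snd]
    rw [Scheme.Hom.comp_base, TopCat.coe_comp, (hP m).isoPullback.hom.surjective.range_comp]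
  let ψ : (∐ fun _ : Z => T) ⟶ pullback d t := Sigma.desc piece
  have : IsOpenImmersion ψ := isOpenImmersion_sigmaDesc _ piece (by
    intro i j hij
    refine Set.disjoint_left.2 fun x hi hj => ?_
    replace hi := (hrange i).le hi
    replace hj := (hrange j).le hj
    obtain ⟨a, ha⟩ := hi
    obtain ⟨b, hb⟩ := hj
    exact hij (congrArg Sigma.fst ((sigmaι_eq_iff (fun _ : Z => S) i j a b).1 (ha.trans hb.symm))))
  have : Surjective ψ := ⟨fun x => by
    obtain ⟨⟨m, s⟩, hs⟩ := (sigmaMk fun _ : Z => S).surjective (pullback.fst d t x)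
    obtain ⟨y, hy⟩ : x ∈ Set.range (piece m) := by
      rw [hrange]; exact ⟨s, (sigmaMk_mk _ _ _).symm.trans hs⟩
    exact ⟨Sigma.ι (fun _ : Z => T) m y, by rw [← Scheme.Hom.comp_apply, Sigma.ι_desc, hy]⟩⟩
  have : IsIso ψ := (isIso_iff_isOpenImmersion_and_epi_base _).2 ⟨inferInstance, by
    rw [TopCat.epi_iff_surjective]; exact ψ.surjective⟩
  have hψ : ψ ≫ pullback.snd d t = Sigma.desc fun _ : Z => 𝟙 T :=
    Sigma.hom_ext _ _ fun m => by
      rw [Sigma.ι_desc, Sigma.ι_desc_assoc]
      exact pullback.lift_snd _ _ _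
  refine ⟨(Over.isoMk (f := TwC.const T Z) (g := Red.bc t (TwC.const S Z)) (asIso ψ) hψ).symm, fun m => ?_⟩
  refine Over.OverMorphism.ext ?_
  show _ ≫ _ = Sigma.ι (fun _ : Z => T) m ≫ ψ
  rw [show Sigma.ι (fun _ : Z => T) m ≫ ψ = piece m from Sigma.ι_desc _ _]
  have hw : (Functor.LaxMonoidal.ε (Over.pullback t)).left ≫ pullback.snd (𝟙_ (Over S)).hom t = 𝟙 T :=
    Over.w (Functor.LaxMonoidal.ε (Over.pullback t))
  have hf : (Functor.LaxMonoidal.ε (Over.pullback t)).left ≫ pullback.fst (𝟙_ (Over S)).hom t = t := by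
    have h := congrArg ((Functor.LaxMonoidal.ε (Over.pullback t)).left ≫ ·) (pullback.condition (f := (𝟙_ (Over S)).hom) (g := t))
    simp only [reassoc_of% hw] at h
    exact (congrArg (_ ≫ ·) (Category.comp_id (pullback.fst (𝟙_ (Over S)).hom t))).symm.trans h
  have sq := isPullback_bc_map t (TwC.pt S Z m)
  apply pullback.hom_ext
  · rw [Category.assoc]
    refine (congrArg (_ ≫ ·) sq.w.symm).trans ?_
    rw [reassoc_of% hf, show piece m ≫ pullback.fst d t = _ from pullback.lift_fst _ _ _]
    rfl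
  · rw [Category.assoc]
    refine (congrArg (_ ≫ ·) (Over.w ((Over.pullback t).map (TwC.pt S Z m)))).trans ?_
    exact hw.trans (pullback.lift_snd _ _ _).symm

/-- The base change of a constant group is constant. -/
theorem exists_constGrpBC [Group Z] {G : Over S} [GrpObj G] {eG : G ≅ TwC.const S Z} (hG : TwC.IsConstGrp Z G eG) :
    ∃ e : Red.bc t G ≅ TwC.const T Z, TwC.IsConstGrp Z (Red.bc t G) e := by
  obtain ⟨c, hc⟩ := exists_constBC t (Z := Z)
  refine ⟨(Over.pullback t).mapIso eG ≪≫ c, fun m n => ?_⟩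
  have key : ∀ k : Z, TwC.pt T Z k ≫ ((Over.pullback t).mapIso eG ≪≫ c).inv =
      Functor.LaxMonoidal.ε (Over.pullback t) ≫ (Over.pullback t).map (TwC.pt S Z k ≫ eG.inv) := fun k => by
    rw [Iso.trans_inv, Functor.mapIso_inv, Functor.map_comp, reassoc_of% hc]
  rw [key, key, key, ← MonObj.comp_mul, ← Functor.map_mul, hG]

/-- The base change of an exact sequence whose quotient map is étale is exact. -/
theorem isExactSeq_bc {P E G : Over S} [GrpObj P] [GrpObj E] [GrpObj G] {u : G ⟶ E} {v : E ⟶ P}
    (hex : NonAbH1.IsExactSeq Scheme.fppfPrecoverage u v) [Etale G.hom] :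
    NonAbH1.IsExactSeq Scheme.fppfPrecoverage ((Over.pullback t).map u) ((Over.pullback t).map v) := by
  have := hex.1
  have := hex.2.1
  obtain ⟨hve, hvs⟩ := etale_of_exact hex
  let F := Over.pullback t
  refine ⟨inferInstance, inferInstance, ?_, ?_, ?_⟩
  · rw [← Functor.map_comp, hex.2.2.1, Functor.map_one]
  · refine (hex.2.2.2.1.map F).of_iso (Functor.Monoidal.μIso F E G).symm (Iso.refl _) (Iso.refl _) (Iso.refl _)
      ?_ ?_ (by rw [Iso.refl_hom, Iso.refl_hom, Category.comp_id, Category.id_comp]) (by rw [Iso.refl_hom, Iso.refl_hom, Category.comp_id, Category.id_comp])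
    · rw [Iso.symm_hom, Iso.refl_hom, Category.comp_id, Functor.Monoidal.μIso_inv]
      exact (Functor.OplaxMonoidal.δ_fst F E G).symm
    · rw [Iso.symm_hom, Iso.refl_hom, Category.comp_id, Functor.Monoidal.μIso_inv]
      have h1 : ∀ {C : Type _} [Category C] [CartesianMonoidalCategory C] {X Y : C} [MonObj X] (f : Y ⟶ X),
          (X ◁ f) ≫ μ[X] = fst X Y * (snd X Y ≫ f) := by
        intro C _ _ X Y _ f
        rw [Hom.mul_def]
        congr 1
        ext <;> simp
      rw [h1, h1, Functor.map_mul, MonObj.comp_mul, Functor.map_comp, Functor.OplaxMonoidal.δ_fst,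
        Functor.OplaxMonoidal.δ_snd_assoc]
  · have : Etale ((Over.pullback t).map v).left := MorphismProperty.of_isPullback (isPullback_bc_map t v) hve
    have : Surjective ((Over.pullback t).map v).left :=
      MorphismProperty.of_isPullback (P := @Surjective) (isPullback_bc_map t v) hvs
    refine ⟨_, ((Over.pullback t).map v).left.singleton_mem_fppfPrecoverage, ?_⟩
    rintro S' f ⟨⟩
    exact ⟨𝟙 _, Category.id_comp _⟩

end Groth.Agent.Const38
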