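import Groth.Agent.SGA3a.FiniteAdicSpec
import Groth.Agent.RedPts82.AvgBase
import Groth.Agent.RedPts82.HomFiniteMult
import Groth.Agent.RedPts82.ConjTrans
import Groth.Agent.S8385

/-!
Morphisms out of finite schemes over a complete noetherian local ring, and lifting of homomorphisms from
finite groups of multiplicative type into smooth groups.
-/

set_option autoImplicit false
set_option backward.isDefEq.respectTransparency.types false
set_option linter.style.haveILetI false
universe u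

open CategoryTheory MonoidalCategory CartesianMonoidalCategory MonObj GrpObj AlgebraicGeometry
open CategoryTheory.Limits

noncomputable section

namespace Groth.Agent.Const38.CLift

open RedPts82 RedPts82.HomFF

variable {A : Type u} [CommRing A]

/-- The closed subscheme defined by an ideal, as an object over the affine base. -/
abbrev qObj (I : Ideal A) : Over (Spec (CommRingCat.of A)) :=
  Over.mk (Spec.map (CommRingCat.ofHom (Ideal.Quotient.mk I)))

instance (I : Ideal A) : IsAffine (qObj I).left := inferInstanceAs (IsAffine (Spec _))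

instance (I : Ideal A) : IsClosedImmersion (qObj I).hom :=
  IsClosedImmersion.spec_of_surjective _ Ideal.Quotient.mk_surjective

instance (I : Ideal A) : Mono (qObj I).hom := inferInstance

theorem qObj_subsingleton {I : Ideal A} {Z : Over (Spec (CommRingCat.of A))} (a b : Z ⟶ qObj I) : a = b :=
  Over.OverMorphism.ext ((cancel_mono (qObj I).hom).mp ((Over.w a).trans (Over.w b).symm))

/-- The inclusions of the closed subschemes. -/
abbrev qMap {I J : Ideal A} (h : I ≤ J) : qObj J ⟶ qObj I :=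
  Over.homMk (Spec.map (CommRingCat.ofHom (Ideal.Quotient.factor h))) (by
    show Spec.map _ ≫ Spec.map _ = _
    rw [← Spec.map_comp, ← CommRingCat.ofHom_comp, Ideal.Quotient.factor_comp_mk]
    rfl)

/-- The functions on the base, on an object over it. -/
def baseHom (Z : Over (Spec (CommRingCat.of A))) : A →+* Gam Z :=
  Z.hom.appTop.hom.comp (Scheme.ΓSpecIso (CommRingCat.of A)).inv.hom

theorem exists_toQObj (Z : Over (Spec (CommRingCat.of A))) [IsAffine Z.left] (I : Ideal A)
    (h : ∀ a ∈ I, baseHom Z a = 0) : Nonempty (Z ⟶ qObj I) := by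
  refine ⟨Over.homMk (Z.left.isoSpec.hom ≫
    Spec.map (CommRingCat.ofHom (Ideal.Quotient.lift I (baseHom Z) h))) ?_⟩
  show (_ ≫ Spec.map _) ≫ Spec.map _ = Z.hom
  rw [Category.assoc, ← Spec.map_comp, ← CommRingCat.ofHom_comp, Ideal.Quotient.lift_comp_mk]
  show Z.left.isoSpec.hom ≫ Spec.map ((Scheme.ΓSpecIso (CommRingCat.of A)).inv ≫ Z.hom.appTop) = _
  rw [Spec.map_comp, Scheme.isoSpec_hom_naturality_assoc, ← Scheme.isoSpec_Spec_inv, Iso.hom_inv_id,
    Category.comp_id]

theorem baseHom_comp {P Q : Over (Spec (CommRingCat.of A))} (w : P ⟶ Q) (a : A) :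
    w.left.appTop (baseHom Q a) = baseHom P a := by
  show (Q.hom.appTop ≫ w.left.appTop) _ = P.hom.appTop _
  rw [← Scheme.Hom.comp_appTop, Over.w w]

theorem baseHom_qObj {I : Ideal A} {a : A} : baseHom (qObj I) a =
    (Scheme.ΓSpecIso (CommRingCat.of (A ⧸ I))).inv (Ideal.Quotient.mk I a) := by
  show ((Scheme.ΓSpecIso (CommRingCat.of A)).inv ≫ (Spec.map (CommRingCat.ofHom (Ideal.Quotient.mk I))).appTop) a = _
  rw [← Scheme.ΓSpecIso_inv_naturality]
  rfl

theorem baseHom_surjective (I : Ideal A) : Function.Surjective (baseHom (qObj I)) := fun y => by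
  obtain ⟨a, ha⟩ := Ideal.Quotient.mk_surjective ((Scheme.ΓSpecIso (CommRingCat.of (A ⧸ I))).hom y)
  refine ⟨a, ?_⟩
  rw [baseHom_qObj, ha, ← CategoryTheory.comp_apply, Iso.hom_inv_id]
  rfl

/-- A step of the thickening as a closed subobject of square zero. -/
theorem exists_qStep {I J : Ideal A} (h : I ≤ J) (hsq : J * J ≤ I) :
    ∃ (K : Ideal (Gam (qObj I))) (e : qObj J ≅ redObj (qObj I) K), K * K = ⊥ ∧
      e.hom ≫ redMap (qObj I) K = qMap h := by
  let K : Ideal (Gam (qObj I)) := RingHom.ker (qMap h).left.appTop.hom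
  haveI : IsAffine (redObj (qObj I) K).left := inferInstanceAs (IsAffine (Spec _))
  have hK : K ≤ J.map (baseHom (qObj I)) := fun y hy => by
    obtain ⟨a, rfl⟩ := baseHom_surjective I y
    have h0 : baseHom (qObj J) a = 0 := by rw [← baseHom_comp (qMap h)]; exact hy
    rw [baseHom_qObj, map_eq_zero_iff _ (ConcreteCategory.bijective_of_isIso _).injective,
      Ideal.Quotient.eq_zero_iff_mem] at h0
    exact Ideal.mem_map_of_mem _ h0
  obtain ⟨a, ha⟩ := exists_factor_red (J := K) (qMap h)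
    ((Ideal.map_eq_bot_iff_le_ker _).mpr le_rfl)
  obtain ⟨b⟩ := exists_toQObj (redObj (qObj I) K) J fun x hx => by
    rw [← baseHom_comp (redMap (qObj I) K), ← map_zero (redMap (qObj I) K).left.appTop.hom]
    refine (redMap_appTop_eq_iff _ K _ _).mpr ?_
    rw [sub_zero]
    refine RingHom.mem_ker.mpr ((baseHom_comp (qMap h) x).trans ?_)
    rw [baseHom_qObj, Ideal.Quotient.eq_zero_iff_mem.mpr hx, map_zero]
  haveI : Mono (redMap (qObj I) K).left := inferInstanceAs (Mono (Spec.map _ ≫ _))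
  haveI : Mono (redMap (qObj I) K) := Over.mono_of_mono_left _
  refine ⟨K, ⟨a, b, qObj_subsingleton _ _, ?_⟩, ?_, ha⟩
  · rw [← cancel_mono (redMap (qObj I) K)]
    exact qObj_subsingleton _ _
  · refine le_bot_iff.mp ((Ideal.mul_mono hK hK).trans ?_)
    rw [← Ideal.map_mul, le_bot_iff, Ideal.map_eq_bot_iff_le_ker]
    intro x hx
    rw [RingHom.mem_ker, baseHom_qObj, Ideal.Quotient.eq_zero_iff_mem.mpr (hsq hx), map_zero]

section Quot

variable (B : Type u) [CommRing B] [Algebra A B]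

/-- The affine scheme of an algebra, over the base. -/
abbrev algObj : Over (Spec (CommRingCat.of A)) := Over.mk (Spec.map (CommRingCat.ofHom (algebraMap A B)))

instance : IsAffine (algObj (A := A) B).left := inferInstanceAs (IsAffine (Spec _))

/-- The product with a closed subscheme of the base. -/
theorem exists_tensor_quot (I : Ideal A) :
    ∃ θ : Over.mk (Spec.map (CommRingCat.ofHom ((Ideal.Quotient.mk (I.map (algebraMap A B))).comp (algebraMap A B)))) ≅
        qObj I ⊗ algObj B,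
      (θ.hom ≫ snd (qObj I) (algObj B)).left =
        Spec.map (CommRingCat.ofHom (Ideal.Quotient.mk (I.map (algebraMap A B)))) := by
  let IB := I.map (algebraMap A B)
  let P : Over (Spec (CommRingCat.of A)) :=
    Over.mk (Spec.map (CommRingCat.ofHom ((Ideal.Quotient.mk IB).comp (algebraMap A B))))
  let q : P ⟶ algObj B := Over.homMk (Spec.map (CommRingCat.ofHom (Ideal.Quotient.mk IB))) (by
    show Spec.map _ ≫ Spec.map _ = _
    rw [← Spec.map_comp]; rfl)
  let r : P ⟶ qObj I := Over.homMk (Spec.map (CommRingCat.ofHom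
      (Ideal.quotientMap IB (algebraMap A B) Ideal.le_comap_map))) (by
    show Spec.map _ ≫ Spec.map _ = _
    rw [← Spec.map_comp]; rfl)
  haveI : IsClosedImmersion q.left := IsClosedImmersion.spec_of_surjective _ Ideal.Quotient.mk_surjective
  haveI : Mono q := Over.mono_of_mono_left _
  haveI : Mono (snd (qObj I) (algObj B)) := ⟨fun a b e =>
    CartesianMonoidalCategory.hom_ext _ _ (qObj_subsingleton _ _) e⟩
  haveI : IsAffine (qObj I ⊗ algObj B).left :=
    inferInstanceAs (IsAffine (pullback (qObj I).hom (algObj B).hom))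
  let Z := qObj I ⊗ algObj B
  let s := snd (qObj I) (algObj B)
  let ψ : B →+* Gam Z := s.left.appTop.hom.comp (Scheme.ΓSpecIso (CommRingCat.of B)).inv.hom
  have hψ : ∀ x ∈ IB, ψ x = 0 := by
    suffices IB ≤ RingHom.ker ψ from fun x hx => this hx
    rw [Ideal.map_le_iff_le_comap]
    intro a ha
    rw [Ideal.mem_comap, RingHom.mem_ker]
    have h1 : baseHom (algObj B) a = (Scheme.ΓSpecIso (CommRingCat.of B)).inv (algebraMap A B a) := by
      show ((Scheme.ΓSpecIso (CommRingCat.of A)).inv ≫ (Spec.map (CommRingCat.ofHom (algebraMap A B))).appTop) a = _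
      rw [← Scheme.ΓSpecIso_inv_naturality]
      rfl
    show s.left.appTop _ = 0
    rw [← h1, baseHom_comp s, ← baseHom_comp (fst (qObj I) (algObj B)), baseHom_qObj,
      Ideal.Quotient.eq_zero_iff_mem.mpr ha, map_zero, map_zero]
  let bl : Z.left ⟶ Spec (CommRingCat.of (B ⧸ IB)) :=
    Z.left.isoSpec.hom ≫ Spec.map (CommRingCat.ofHom (Ideal.Quotient.lift IB ψ hψ))
  have hbl : bl ≫ q.left = s.left := by
    show (_ ≫ Spec.map _) ≫ Spec.map _ = _
    rw [Category.assoc, ← Spec.map_comp, ← CommRingCat.ofHom_comp, Ideal.Quotient.lift_comp_mk]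
    show Z.left.isoSpec.hom ≫ Spec.map ((Scheme.ΓSpecIso (CommRingCat.of B)).inv ≫ s.left.appTop) = _
    rw [Spec.map_comp, Scheme.isoSpec_hom_naturality_assoc, ← Scheme.isoSpec_Spec_inv]
    exact (congrArg (s.left ≫ ·) (Spec (CommRingCat.of B)).isoSpec.hom_inv_id).trans (Category.comp_id _)
  let b : Z ⟶ P := Over.homMk bl (by
    rw [← Over.w q, ← Category.assoc, hbl, Over.w s])
  have hb : b ≫ q = s := Over.OverMorphism.ext hbl
  refine ⟨⟨CartesianMonoidalCategory.lift r q, b, ?_, ?_⟩, ?_⟩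
  · rw [← cancel_mono q, Category.assoc, hb, lift_snd, Category.id_comp]
  · rw [← cancel_mono (snd (qObj I) (algObj B)), Category.assoc, lift_snd, hb, Category.id_comp]
  · rw [lift_snd]; rfl

end Quot

/-- A finite scheme over an affine base is the spectrum of a finite algebra. -/
theorem exists_algObj (X : Over (Spec (CommRingCat.of A))) [IsFinite X.hom] :
    ∃ (B : Type u) (_ : CommRing B) (_ : Algebra A B), Module.Finite A B ∧ Nonempty (X ≅ algObj B) := by
  haveI : IsAffine X.left := isAffine_of_isAffineHom X.hom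
  letI : Algebra A (Gam X) := (baseHom X).toAlgebra
  have hX : X.hom = X.left.isoSpec.hom ≫ Spec.map (CommRingCat.ofHom (algebraMap A (Gam X))) := by
    show _ = X.left.isoSpec.hom ≫ Spec.map ((Scheme.ΓSpecIso (CommRingCat.of A)).inv ≫ X.hom.appTop)
    rw [Spec.map_comp, Scheme.isoSpec_hom_naturality_assoc, ← Scheme.isoSpec_Spec_inv, Iso.hom_inv_id,
      Category.comp_id]
  refine ⟨Gam X, inferInstance, inferInstance, ?_, ⟨Over.isoMk X.left.isoSpec hX.symm⟩⟩
  haveI : IsFinite (Spec.map (CommRingCat.ofHom (algebraMap A (Gam X)))) := by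
    rw [show Spec.map (CommRingCat.ofHom (algebraMap A (Gam X))) = X.left.isoSpec.inv ≫ X.hom by
      rw [hX, Iso.inv_hom_id_assoc]]
    exact MorphismProperty.RespectsIso.precomp @IsFinite X.left.isoSpec.inv _
      (show IsFinite X.hom from inferInstance)
  have h := (IsFinite.SpecMap_iff (f := CommRingCat.ofHom (algebraMap A (Gam X)))).mp inferInstance
  exact RingHom.finite_algebraMap.mp h

section Complete

variable [IsLocalRing A] [IsNoetherianRing A] [IsAdicComplete (IsLocalRing.maximalIdeal A) A]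

local notation "𝔪" => IsLocalRing.maximalIdeal A

theorem pow_step (n : ℕ) : (𝔪 : Ideal A) ^ (n + 1 + 1) ≤ 𝔪 ^ (n + 1) := Ideal.pow_le_pow_right (Nat.le_succ _)

/-- Morphisms out of a finite scheme over a complete local ring are determined by the thickenings of
the closed fibre. -/
theorem hom_ext_complete {X Y : Over (Spec (CommRingCat.of A))} [IsFinite X.hom] (f g : X ⟶ Y)
    (h : ∀ n : ℕ, snd (qObj (𝔪 ^ (n + 1))) X ≫ f = snd (qObj (𝔪 ^ (n + 1))) X ≫ g) : f = g := by
  obtain ⟨B, _, _, _, ⟨e⟩⟩ := exists_algObj X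
  rw [← cancel_epi e.inv]
  refine Over.OverMorphism.ext ((S8385.result A B Y).1 _ _ (Over.w (e.inv ≫ f)) (Over.w (e.inv ≫ g)) fun n => ?_)
  obtain ⟨θ, hθ⟩ := exists_tensor_quot B ((IsLocalRing.maximalIdeal A : Ideal A) ^ (n + 1))
  have h1 : (θ.hom ≫ snd _ (algObj B)) ≫ e.inv ≫ f = (θ.hom ≫ snd _ (algObj B)) ≫ e.inv ≫ g := by
    rw [Category.assoc, Category.assoc, ← whiskerLeft_snd_assoc, ← whiskerLeft_snd_assoc, h n]
  have h2 := congrArg Over.Hom.left h1
  rw [Over.comp_left _ _ _ (θ.hom ≫ snd _ _), Over.comp_left _ _ _ (θ.hom ≫ snd _ _), hθ] at h2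
  have h3 : Spec.map (CommRingCat.ofHom (Ideal.Quotient.mk ((𝔪 ^ n).map (algebraMap A B)))) =
      Spec.map (CommRingCat.ofHom (Ideal.Quotient.factor (Ideal.map_mono (f := algebraMap A B)
        (Ideal.pow_le_pow_right (I := 𝔪) (Nat.le_succ n))))) ≫
      Spec.map (CommRingCat.ofHom (Ideal.Quotient.mk ((𝔪 ^ (n + 1)).map (algebraMap A B)))) := by
    rw [← Spec.map_comp, ← CommRingCat.ofHom_comp, Ideal.Quotient.factor_comp_mk]
  rw [h3, Category.assoc, Category.assoc]
  exact congrArg (_ ≫ ·) h2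

/-- Compatible morphisms on the thickenings of the closed fibre of a finite scheme come from a morphism. -/
theorem exists_hom_complete {X Y : Over (Spec (CommRingCat.of A))} [IsFinite X.hom]
    (h : ∀ n : ℕ, qObj (𝔪 ^ (n + 1)) ⊗ X ⟶ Y) (hc : ∀ n, (qMap (pow_step n) ▷ X) ≫ h (n + 1) = h n) :
    ∃ f : X ⟶ Y, ∀ n, snd (qObj (𝔪 ^ (n + 1))) X ≫ f = h n := by
  obtain ⟨B, _, _, _, ⟨e⟩⟩ := exists_algObj X
  choose θ hθ using fun n : ℕ => exists_tensor_quot B ((IsLocalRing.maximalIdeal A : Ideal A) ^ (n + 1))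
  let w : ∀ n : ℕ, Over.mk (Spec.map (CommRingCat.ofHom
      ((Ideal.Quotient.mk ((𝔪 ^ (n + 1)).map (algebraMap A B))).comp (algebraMap A B)))) ⟶ Y :=
    fun n => (θ n).hom ≫ (_ ◁ e.inv) ≫ h n
  let jn : ∀ n : ℕ, Spec (CommRingCat.of (B ⧸ (𝔪 ^ n).map (algebraMap A B))) ⟶
      Spec (CommRingCat.of (B ⧸ (𝔪 ^ (n + 1)).map (algebraMap A B))) := fun n =>
    Spec.map (CommRingCat.ofHom (Ideal.Quotient.factor (Ideal.map_mono (f := algebraMap A B)
      (Ideal.pow_le_pow_right (I := 𝔪) (Nat.le_succ n)))))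
  let v : (n : ℕ) → Spec (CommRingCat.of (B ⧸ (𝔪 ^ n).map (algebraMap A B))) ⟶ Y.left := fun n =>
    jn n ≫ (w n).left
  have hjmk : ∀ n, jn n ≫ Spec.map (CommRingCat.ofHom (Ideal.Quotient.mk _)) =
      Spec.map (CommRingCat.ofHom (Ideal.Quotient.mk _)) := fun n => by
    simp only [jn, ← Spec.map_comp, ← CommRingCat.ofHom_comp, Ideal.Quotient.factor_comp_mk]
  have hjhom : ∀ n, jn n ≫ Spec.map (CommRingCat.ofHom ((Ideal.Quotient.mk _).comp (algebraMap A B))) =
      Spec.map (CommRingCat.ofHom ((Ideal.Quotient.mk _).comp (algebraMap A B))) := fun n => by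
    rw [CommRingCat.ofHom_comp, Spec.map_comp, ← Category.assoc, hjmk, ← Spec.map_comp,
      ← CommRingCat.ofHom_comp]
  have hv : ∀ n, v n ≫ Y.hom = Spec.map (CommRingCat.ofHom ((Ideal.Quotient.mk _).comp (algebraMap A B))) :=
    fun n => by
      show (jn n ≫ (w n).left) ≫ Y.hom = _
      rw [Category.assoc, Over.w (w n)]
      exact hjhom n
  -- the transition between consecutive thickenings
  have hstep : ∀ n, jn (n + 1) ≫ (w (n + 1)).left = (w n).left := fun n => by
    let i' : Over.mk (Spec.map (CommRingCat.ofHom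
        ((Ideal.Quotient.mk ((𝔪 ^ (n + 1)).map (algebraMap A B))).comp (algebraMap A B)))) ⟶
      Over.mk (Spec.map (CommRingCat.ofHom
        ((Ideal.Quotient.mk ((𝔪 ^ (n + 1 + 1)).map (algebraMap A B))).comp (algebraMap A B)))) :=
      Over.homMk (jn (n + 1)) (hjhom (n + 1))
    have hi : i' ≫ (θ (n + 1)).hom = (θ n).hom ≫ (qMap (pow_step n) ▷ algObj B) := by
      refine CartesianMonoidalCategory.hom_ext _ _ (qObj_subsingleton _ _) (Over.OverMorphism.ext ?_)
      rw [Category.assoc, Category.assoc, whiskerRight_snd, Over.comp_left _ _ _ i', hθ, hθ]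
      exact hjmk (n + 1)
    have : i' ≫ w (n + 1) = w n := by
      simp only [w]
      rw [reassoc_of% hi, ← whisker_exchange_assoc, hc]
    exact congrArg Over.Hom.left this
  obtain ⟨f, hf₁, hf₂⟩ := (S8385.result A B Y).2 v hv fun n => by
    show jn n ≫ jn (n + 1) ≫ (w (n + 1)).left = jn n ≫ (w n).left
    rw [hstep]
  refine ⟨e.hom ≫ Over.homMk f hf₁, fun n => ?_⟩
  have h4 : snd (qObj (𝔪 ^ (n + 1))) (algObj B) ≫ Over.homMk f hf₁ = (_ ◁ e.inv) ≫ h n := by
    rw [← cancel_epi (θ n).hom]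
    refine Over.OverMorphism.ext ?_
    rw [← Category.assoc, Over.comp_left, hθ]
    exact (hf₂ (n + 1)).trans (hstep n)
  rw [← whiskerLeft_snd_assoc, h4, ← whiskerLeft_comp_assoc, Iso.hom_inv_id, MonoidalCategory.whiskerLeft_id,
    Category.id_comp]

variable (M G : Over (Spec (CommRingCat.of A))) [GrpObj M] [GrpObj G] [IsFinite M.hom] [Smooth G.hom]

/-- The closed point. -/
abbrev clPt : Spec (CommRingCat.of (A ⧸ 𝔪)) ⟶ Spec (CommRingCat.of A) :=
  Spec.map (CommRingCat.ofHom (Ideal.Quotient.mk 𝔪))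

theorem isFinite_tensor : IsFinite (M ⊗ M).hom := inferInstanceAs (IsFinite (pullback.fst M.hom M.hom ≫ M.hom))

/-- Homomorphisms lift from the closed fibre. -/
theorem exists_hom_lift_complete (hM : RedPts82.IsMultType M)
    (u₀ : Red.bc (clPt (A := A)) M ⟶ Red.bc (clPt (A := A)) G) [IsMonHom u₀] :
    ∃ u : M ⟶ G, IsMonHom u ∧ (Over.pullback (clPt (A := A))).map u = u₀ := by
  let a0 : qObj ((IsLocalRing.maximalIdeal A : Ideal A) ^ (0 + 1)) ⟶ qObj 𝔪 :=
    qMap (J := 𝔪 ^ (0 + 1)) (by rw [zero_add, pow_one])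
  let f0 : qObj ((IsLocalRing.maximalIdeal A : Ideal A) ^ (0 + 1)) ⊗ M ⟶ G :=
    (a0 ▷ M) ≫ (β_ _ _).hom ≫ famOf (clPt (A := A)) u₀
  have hf0 : IsRelMul f0 := fun Z x g g' => by
    have k : ∀ g : Z ⟶ M, CartesianMonoidalCategory.lift x g ≫ f0 =
        CartesianMonoidalCategory.lift g (x ≫ a0) ≫ famOf (clPt (A := A)) u₀ := fun g => by
      simp only [f0, lift_whiskerRight_assoc, lift_braiding_hom_assoc]
    rw [k, k, k]
    exact isHomFamily_famOf _ u₀ Z g g' (x ≫ a0)
  let Fam : ℕ → Type u := fun n =>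
    {f : qObj ((IsLocalRing.maximalIdeal A : Ideal A) ^ (n + 1)) ⊗ M ⟶ G // IsRelMul f}
  have step : ∀ (n : ℕ) (f : Fam n), ∃ f' : Fam (n + 1), (qMap (pow_step n) ▷ M) ≫ f'.1 = f.1 := by
    intro n f
    obtain ⟨K, e, hK, he⟩ := exists_qStep (pow_step (A := A) n)
      (by rw [← pow_add]; exact Ideal.pow_le_pow_right (by omega))
    obtain ⟨f', hf', hm⟩ := exists_hom_lift_sq hM _ hK ((e.inv ▷ M) ≫ f.1) (f.2.restrict _)
    refine ⟨⟨f', hm⟩, ?_⟩
    rw [← he, comp_whiskerRight_assoc, hf', hom_inv_whiskerRight_assoc]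
  choose next hnext using step
  let fam : ∀ n, Fam n := fun n => Nat.rec (motive := Fam) ⟨f0, hf0⟩ next n
  obtain ⟨u, hu⟩ := exists_hom_complete (fun n => (fam n).1) (fun n => hnext n (fam n))
  haveI : IsMonHom u := by
    haveI := isFinite_tensor M
    refine isMonHom_of_points _ fun Z a b => ?_
    have key : ((fst M M) * (snd M M)) ≫ u = (fst M M ≫ u) * (snd M M ≫ u) := by
      refine hom_ext_complete _ _ fun n => ?_
      have h1 := (fam n).2 (qObj ((IsLocalRing.maximalIdeal A : Ideal A) ^ (n + 1)) ⊗ (M ⊗ M))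
        (fst _ _) (snd _ _ ≫ fst M M) (snd _ _ ≫ snd M M)
      rw [← hu n, lift_snd_assoc, lift_snd_assoc, lift_snd_assoc] at h1
      rw [MonObj.comp_mul, ← Category.assoc, MonObj.comp_mul]
      simpa only [Category.assoc] using h1
    have := congrArg (CartesianMonoidalCategory.lift a b ≫ ·) key
    simpa only [MonObj.comp_mul, ← Category.assoc, lift_fst, lift_snd] using this
  refine ⟨u, inferInstance, ?_⟩
  suffices key : ∀ (Y : Over (Spec (CommRingCat.of (A ⧸ IsLocalRing.maximalIdeal A)))) (x : Y ⟶ Red.bc (clPt (A := A)) M),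
      x ≫ (Over.pullback (clPt (A := A))).map u = x ≫ u₀ by
    simpa using key _ (𝟙 _)
  intro Y x
  refine toBase_injective _ ?_
  rw [toBase_comp_map, toBase_comp_eq]
  have hle : (IsLocalRing.maximalIdeal A : Ideal A) ^ (0 + 1) ≤ 𝔪 := by rw [zero_add, pow_one]
  let b0 : qObj (IsLocalRing.maximalIdeal A) ⟶ qObj ((IsLocalRing.maximalIdeal A : Ideal A) ^ (0 + 1)) := qMap hle
  have h0 := congrArg (CartesianMonoidalCategory.lift (strPt (clPt (A := A)) Y ≫ b0) (toBase _ x) ≫ ·) (hu 0)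
  simp only [lift_snd_assoc] at h0
  rw [h0]
  show _ ≫ f0 = _
  simp only [f0, lift_whiskerRight_assoc, lift_braiding_hom_assoc]
  congr 2
  exact qObj_subsingleton _ _

/-- Homomorphisms with the same closed fibre are conjugate. -/
theorem exists_conj_complete (hM : RedPts82.IsMultType M) (u u' : M ⟶ G) [IsMonHom u] [IsMonHom u']
    (h : (Over.pullback (clPt (A := A))).map u = (Over.pullback (clPt (A := A))).map u') :
    ∃ g : 𝟙_ (Over (Spec (CommRingCat.of A))) ⟶ G,
      (Over.pullback (clPt (A := A))).map g = toUnit _ ≫ η[Red.bc (clPt (A := A)) G] ∧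
      ∀ (X : Over (Spec (CommRingCat.of A))) (x : X ⟶ M),
        x ≫ u' = (toUnit X ≫ g) * (x ≫ u) * (toUnit X ≫ g)⁻¹ := by
  let Fam : ℕ → Type u := fun n => {g : qObj ((IsLocalRing.maximalIdeal A : Ideal A) ^ (n + 1)) ⟶ G //
    ∀ (Z : Over (Spec (CommRingCat.of A))) (x : Z ⟶ qObj (𝔪 ^ (n + 1))) (k : Z ⟶ M),
      (x ≫ g) * (k ≫ u) * (x ≫ g)⁻¹ = k ≫ u'}
  have h0 : ∀ (Z : Over (Spec (CommRingCat.of A))) (x : Z ⟶ qObj (𝔪 ^ (0 + 1))) (k : Z ⟶ M),
      (x ≫ 1) * (k ≫ u) * (x ≫ (1 : qObj (𝔪 ^ (0 + 1)) ⟶ G))⁻¹ = k ≫ u' := by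
    intro Z x k
    rw [MonObj.comp_one, _root_.one_mul, inv_one, _root_.mul_one]
    have hle : (IsLocalRing.maximalIdeal A : Ideal A) ^ (0 + 1) ≥ 𝔪 := by rw [zero_add, pow_one]
    obtain ⟨α, -⟩ := exists_over_iso (clPt (A := A)) (x ≫ qMap hle).left (Over.w (x ≫ qMap hle))
    rw [← cancel_epi α.hom, ← Category.assoc, ← Category.assoc,
      ← toBase_ofBase (clPt (A := A)) (α.hom ≫ k), ← toBase_comp_map, ← toBase_comp_map, h]
  have step : ∀ (n : ℕ) (g : Fam n), ∃ g' : Fam (n + 1), qMap (pow_step n) ≫ g'.1 = g.1 := by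
    intro n g
    obtain ⟨K, e, hK, he⟩ := exists_qStep (pow_step (A := A) n)
      (by rw [← pow_add]; exact Ideal.pow_le_pow_right (by omega))
    obtain ⟨g', hg', hc⟩ := exists_conj_lift_nil hM u u' _ (J := K)
      ⟨2, by rw [pow_two, hK, Ideal.zero_eq_bot]⟩ (e.inv ≫ g.1)
      fun Z x k => by simp only [← Category.assoc]; exact g.2 Z _ k
    refine ⟨⟨g', hc⟩, ?_⟩
    rw [← he, Category.assoc, hg', Iso.hom_inv_id_assoc]
  choose next hnext using step
  let fam : ∀ n, Fam n := fun n => Nat.rec (motive := Fam) ⟨1, h0⟩ next n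
  haveI : IsFinite (𝟙_ (Over (Spec (CommRingCat.of A)))).hom := inferInstanceAs (IsFinite (𝟙 _))
  obtain ⟨g, hg⟩ := exists_hom_complete (X := 𝟙_ (Over (Spec (CommRingCat.of A))))
    (fun n => fst _ _ ≫ (fam n).1) (fun n => by rw [whiskerRight_fst_assoc, hnext n (fam n)])
  refine ⟨g, ?_, fun X x => ?_⟩
  · suffices key : ∀ (Y : Over (Spec (CommRingCat.of (A ⧸ IsLocalRing.maximalIdeal A))))
        (x : Y ⟶ Red.bc (clPt (A := A)) (𝟙_ (Over (Spec (CommRingCat.of A))))),
        x ≫ (Over.pullback (clPt (A := A))).map g = x ≫ (1 : _ ⟶ Red.bc (clPt (A := A)) G) by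
      simpa [Hom.one_def] using key _ (𝟙 _)
    intro Y x
    rw [MonObj.comp_one]
    refine toBase_injective _ ?_
    rw [toBase_comp_map, toBase_one]
    have hle : (IsLocalRing.maximalIdeal A : Ideal A) ^ (0 + 1) ≤ 𝔪 := by rw [zero_add, pow_one]
    have h1 := congrArg (CartesianMonoidalCategory.lift (strPt (clPt (A := A)) Y ≫ qMap hle) (toBase _ x) ≫ ·) (hg 0)
    simp only [lift_snd_assoc, lift_fst_assoc] at h1
    rw [h1]
    show _ ≫ (1 : _ ⟶ G) = 1
    exact MonObj.comp_one _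
  · have key : u' = (toUnit M ≫ g) * u * (toUnit M ≫ g)⁻¹ := by
      refine hom_ext_complete _ _ fun n => ?_
      rw [MonObj.comp_mul, MonObj.comp_mul, GrpObj.comp_inv]
      have h1 : snd (qObj ((IsLocalRing.maximalIdeal A : Ideal A) ^ (n + 1))) M ≫ toUnit M ≫ g =
          fst (qObj (𝔪 ^ (n + 1))) M ≫ (fam n).1 := by
        have h2 := congrArg (CartesianMonoidalCategory.lift (fst (qObj (𝔪 ^ (n + 1))) M) (toUnit _) ≫ ·) (hg n)
        simp only [lift_snd_assoc, lift_fst_assoc] at h2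
        rw [← Category.assoc, toUnit_unique (snd _ M ≫ toUnit M) (toUnit _), h2]
      rw [h1]
      exact ((fam n).2 _ (fst _ _) (snd _ _)).symm
    rw [key]
    simp only [MonObj.comp_mul, GrpObj.comp_inv, ← Category.assoc, toUnit_unique (x ≫ toUnit M) (toUnit X)]

end Complete

end Groth.Agent.Const38.CLift
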