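import Groth.Agent.Const38.CentralLift
import Groth.Agent.Const38.CompleteLift
import Groth.Agent.Const38.AgreeUnit

/-!
Central homomorphisms from finite étale groups of multiplicative type lift from the closed fibre of a complete
noetherian local ring, and stay central when the fibres are connected.
-/

set_option autoImplicit false
set_option backward.isDefEq.respectTransparency.types false
set_option linter.style.haveILetI false
universe u

open CategoryTheory MonoidalCategory CartesianMonoidalCategory MonObj GrpObj AlgebraicGeometry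
open CategoryTheory.Limits

noncomputable section

namespace Groth.Agent.Const38.CLift

open RedPts82 RedPts82.HomFF CPow

variable {A : Type u} [CommRing A] [IsLocalRing A] [IsNoetherianRing A]
  [IsAdicComplete (IsLocalRing.maximalIdeal A) A]

local notation "𝔪" => IsLocalRing.maximalIdeal A
local notation "π₀" => Spec.map (CommRingCat.ofHom (Ideal.Quotient.mk (IsLocalRing.maximalIdeal A)))

variable (M G : Over (Spec (CommRingCat.of A))) [GrpObj M] [GrpObj G] [IsFinite M.hom] [Smooth M.hom]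

omit [IsNoetherianRing A] [IsAdicComplete (IsLocalRing.maximalIdeal A) A] in
/-- A single exponent kills the group. -/
theorem exists_exponent (hm : RedPts82.IsMultType M) :
    ∃ n : ℕ, (∀ Z : Over (Spec (CommRingCat.of A)), InvAlong Z n) ∧
      ∀ (Z : Over (Spec (CommRingCat.of A))) (k : Z ⟶ M), k ^ n = 1 := by
  obtain ⟨W, n, hs, hn, hk⟩ := exists_local_exponent (H := M) hm (IsLocalRing.closedPoint A)
  have hW : ∀ t : Spec (CommRingCat.of A), t ∈ W := fun t =>
    (IsLocalRing.specializes_closedPoint t).mem_open W.2 hs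
  exact ⟨n, fun Z a => hn _ (hW _), fun Z k => hk Z k fun t _ => hW t⟩

omit [IsAdicComplete (IsLocalRing.maximalIdeal A) A] [IsNoetherianRing A] in
/-- The thickenings of the closed fibre have the same points. -/
theorem surjective_whisker (X : Over (Spec (CommRingCat.of A))) (k : ℕ) (h : (𝔪 : Ideal A) ^ (k + 1) ≤ 𝔪) :
    IsClosedImmersion (qMap h ▷ X).left ∧ Surjective (qMap h ▷ X).left := by
  haveI : IsClosedImmersion (qMap h).left := IsClosedImmersion.spec_of_surjective _ (Ideal.Quotient.factor_surjective h)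
  haveI : Surjective (qMap h).left := ⟨fun x => by
    have hx : x ∈ Set.range (PrimeSpectrum.comap (Ideal.Quotient.factor h)) := by
      rw [range_comap_of_surjective _ _ (Ideal.Quotient.factor_surjective h)]
      intro a ha
      obtain ⟨b, rfl⟩ := Ideal.Quotient.mk_surjective a
      have hb : b ∈ 𝔪 := Ideal.Quotient.eq_zero_iff_mem.mp ((Ideal.Quotient.factor_mk h b).symm.trans ha)
      refine x.isPrime.mem_of_pow_mem (k + 1) ?_
      rw [← map_pow, Ideal.Quotient.eq_zero_iff_mem.mpr (Ideal.pow_mem_pow hb _)]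
      exact zero_mem _
    exact hx⟩
  have hpb : IsPullback (qMap h ▷ X).left (fst (qObj 𝔪) X).left (fst (qObj (𝔪 ^ (k + 1))) X).left (qMap h).left := by
    refine IsPullback.of_right ?_ ?_ (IsPullback.of_hasPullback (qObj (𝔪 ^ (k + 1))).hom X.hom).flip
    · have e : (qMap h ▷ X).left ≫ pullback.snd (qObj (𝔪 ^ (k + 1))).hom X.hom = pullback.snd (qObj 𝔪).hom X.hom :=
        congrArg Over.Hom.left (whiskerRight_snd (qMap h) X)
      rw [e, Over.w (qMap h)]
      exact (IsPullback.of_hasPullback (qObj 𝔪).hom X.hom).flip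
    · exact congrArg Over.Hom.left (whiskerRight_fst (qMap h) X)
  exact ⟨MorphismProperty.of_isPullback hpb.flip ‹IsClosedImmersion (qMap h).left›,
    MorphismProperty.of_isPullback hpb.flip ‹Surjective (qMap h).left›⟩

theorem pow_succ_le (k : ℕ) : (𝔪 : Ideal A) ^ (k + 1) ≤ 𝔪 := Ideal.pow_le_self (Nat.succ_ne_zero k)

variable [Flat G.hom] [LocallyOfFinitePresentation G.hom]

/-- The family on the closed fibre. -/
def famClosed (u₀ : Red.bc π₀ M ⟶ Red.bc π₀ G) : qObj 𝔪 ⊗ M ⟶ G :=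
  (β_ (qObj 𝔪) M).hom ≫ famOf π₀ u₀

omit [IsNoetherianRing A] [IsAdicComplete (IsLocalRing.maximalIdeal A) A] [Flat G.hom]
  [LocallyOfFinitePresentation G.hom] [IsFinite M.hom] [Smooth M.hom] in
theorem lift_famClosed (u₀ : Red.bc π₀ M ⟶ Red.bc π₀ G) {Z : Over (Spec (CommRingCat.of A))}
    (t : Z ⟶ qObj 𝔪) (k : Z ⟶ M) :
    CartesianMonoidalCategory.lift t k ≫ famClosed M G u₀ = CartesianMonoidalCategory.lift k t ≫ famOf π₀ u₀ := by
  rw [famClosed, lift_braiding_hom_assoc]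

omit [IsNoetherianRing A] [IsAdicComplete (IsLocalRing.maximalIdeal A) A] [Flat G.hom]
  [LocallyOfFinitePresentation G.hom] [IsFinite M.hom] [Smooth M.hom] in
theorem isCentralPt_famClosed (u₀ : Red.bc π₀ M ⟶ Red.bc π₀ G)
    (hc₀ : ∀ (X : Over _) (x : X ⟶ Red.bc π₀ M) (g : X ⟶ Red.bc π₀ G), (x ≫ u₀) * g = g * (x ≫ u₀)) :
    IsCentralPt (famClosed M G u₀) := fun Z a g => by
  obtain ⟨α, -⟩ := exists_over_iso π₀ (a ≫ fst (qObj 𝔪) M).left (Over.w (a ≫ fst (qObj 𝔪) M))
  let X : Over (Spec (CommRingCat.of (A ⧸ 𝔪))) := Over.mk (a ≫ fst (qObj 𝔪) M).left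
  let x : X ⟶ Red.bc π₀ M := ofBase π₀ (α.hom ≫ a ≫ snd (qObj 𝔪) M)
  have h1 := congrArg (toBase π₀) (hc₀ X x (ofBase π₀ (α.hom ≫ g)))
  rw [toBase_mul, toBase_mul, toBase_comp_eq, toBase_ofBase, toBase_ofBase] at h1
  have h2 : strPt π₀ X = α.hom ≫ a ≫ fst (qObj 𝔪) M := qObj_subsingleton _ _
  have h3 : CartesianMonoidalCategory.lift (α.hom ≫ a ≫ fst (qObj 𝔪) M) (α.hom ≫ a ≫ snd (qObj 𝔪) M) = α.hom ≫ a := by
    rw [← comp_lift, ← comp_lift, lift_fst_snd, Category.comp_id]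
  rw [← lift_famClosed, h2, h3, Category.assoc] at h1
  rw [← cancel_epi α.hom, MonObj.comp_mul, MonObj.comp_mul]
  exact h1

omit [IsNoetherianRing A] [IsAdicComplete (IsLocalRing.maximalIdeal A) A] [Flat G.hom]
  [LocallyOfFinitePresentation G.hom] [IsFinite M.hom] [Smooth M.hom] in
theorem restrict_iff (u₀ : Red.bc π₀ M ⟶ Red.bc π₀ G) (u : M ⟶ G) :
    (Over.pullback π₀).map u = u₀ ↔ snd (qObj 𝔪) M ≫ u = famClosed M G u₀ := by
  constructor
  · intro h
    rw [← cancel_epi (β_ M (qObj 𝔪)).hom, braiding_hom_snd_assoc, famClosed,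
      ← Category.assoc, SymmetricCategory.symmetry, Category.id_comp]
    ext1
    show _ = (toBase π₀ u₀).left
    rw [← h, ← Category.id_comp ((Over.pullback π₀).map u), toBase_comp_map]
    show pullback.fst M.hom π₀ ≫ u.left = (toBase π₀ (𝟙 (Red.bc π₀ M))).left ≫ u.left
    rw [toBase_left π₀ (𝟙 (Red.bc π₀ M))]
    simp
  · intro h
    suffices key : ∀ (Y : Over (Spec (CommRingCat.of (A ⧸ 𝔪)))) (x : Y ⟶ Red.bc π₀ M),
        x ≫ (Over.pullback π₀).map u = x ≫ u₀ by
      simpa using key _ (𝟙 _)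
    intro Y x
    refine toBase_injective π₀ ?_
    rw [toBase_comp_map, toBase_comp_eq, ← lift_famClosed, ← h, lift_snd_assoc]

set_option maxHeartbeats 1000000 in
/-- Central homomorphisms lift uniquely from the closed fibre. -/
theorem existsUnique_central_complete (hm : RedPts82.IsMultType M) (u₀ : Red.bc π₀ M ⟶ Red.bc π₀ G) [IsMonHom u₀]
    (hc₀ : ∀ (X : Over _) (x : X ⟶ Red.bc π₀ M) (g : X ⟶ Red.bc π₀ G), (x ≫ u₀) * g = g * (x ≫ u₀)) :
    ∃ u : M ⟶ G, IsMonHom u ∧ (Over.pullback π₀).map u = u₀ ∧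
      (∀ k : ℕ, IsCentralPt (snd (qObj (𝔪 ^ (k + 1))) M ≫ u)) ∧
      ∀ u' : M ⟶ G, IsMonHom u' → (Over.pullback π₀).map u' = u₀ → u' = u := by
  obtain ⟨n, hinv, hk⟩ := exists_exponent M hm
  let z₀ := famClosed M G u₀
  have hc : IsCentralPt z₀ := isCentralPt_famClosed M G u₀ hc₀
  have hmul₀ : ∀ (Z : Over (Spec (CommRingCat.of A))) (t : Z ⟶ qObj 𝔪) (a b : Z ⟶ M),
      CartesianMonoidalCategory.lift t (a * b) ≫ z₀ = (CartesianMonoidalCategory.lift t a ≫ z₀) * (CartesianMonoidalCategory.lift t b ≫ z₀) :=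
    fun Z t a b => by
      simp only [z₀, lift_famClosed]
      exact isHomFamily_famOf π₀ u₀ Z a b t
  have h₀ : z₀ ^ n = 1 := by
    let F : (qObj 𝔪 ⊗ M ⟶ M) →* (qObj 𝔪 ⊗ M ⟶ G) :=
      MonoidHom.mk' (fun a => CartesianMonoidalCategory.lift (fst _ _) a ≫ z₀) fun a b => hmul₀ _ _ a b
    have := map_pow F (snd _ _) n
    rw [hk, map_one] at this
    have e : F (snd _ _) = z₀ := by
      show CartesianMonoidalCategory.lift (fst (qObj 𝔪) M) (snd _ _) ≫ z₀ = z₀
      rw [lift_fst_snd, Category.id_comp]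
    rw [← e]; exact this.symm
  have hlift : ∀ k : ℕ, ∃ z : qObj ((𝔪 : Ideal A) ^ (k + 1)) ⊗ M ⟶ G,
      (qMap (pow_succ_le (A := A) k) ▷ M) ≫ z = z₀ ∧ z ^ n = 1 ∧
        ∀ z' : qObj ((𝔪 : Ideal A) ^ (k + 1)) ⊗ M ⟶ G, (qMap (pow_succ_le (A := A) k) ▷ M) ≫ z' = z₀ → z' ^ n = 1 → z' = z := fun k => by
    obtain ⟨_, _⟩ := surjective_whisker M k (pow_succ_le k)
    exact existsUnique_torsion_lift (qMap (pow_succ_le (A := A) k) ▷ M) n (hinv _) z₀ h₀ hc
  choose z hz hzn huniq using hlift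
  obtain ⟨u, hu⟩ := exists_hom_complete z fun k => huniq k _
    (by rw [← comp_whiskerRight_assoc, show qMap (pow_succ_le (A := A) k) ≫ qMap (pow_step k) = qMap (pow_succ_le (A := A) (k + 1)) from
      qObj_subsingleton _ _, hz])
    (by rw [← MonObj.comp_pow, hzn, MonObj.comp_one])
  have hcz : ∀ k : ℕ, IsCentralPt (z k) := fun k => by
    obtain ⟨_, _⟩ := surjective_whisker M k (pow_succ_le k)
    exact isCentralPt_of_lift (qMap (pow_succ_le (A := A) k) ▷ M) n (hinv _) (z k) (hzn k) (by rw [hz]; exact hc)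
  haveI : IsMonHom u := by
    refine isMonHom_of_points _ fun Z a b => ?_
    have key : ((fst M M) * (snd M M)) ≫ u = (fst M M ≫ u) * (snd M M ≫ u) := by
      haveI := isFinite_tensor M
      refine hom_ext_complete _ _ fun k => ?_
      let T := qObj ((𝔪 : Ideal A) ^ (k + 1))
      have e : ∀ r : M ⊗ M ⟶ M, snd T (M ⊗ M) ≫ r ≫ u = CartesianMonoidalCategory.lift (fst T (M ⊗ M)) (snd T (M ⊗ M) ≫ r) ≫ z k := fun r => by
        rw [← hu k, lift_snd_assoc, Category.assoc]
      obtain ⟨_, _⟩ := surjective_whisker (M ⊗ M) k (pow_succ_le k)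
      let d := qMap (pow_succ_le (A := A) k) ▷ (M ⊗ M)
      have hd : ∀ r : M ⊗ M ⟶ M, d ≫ snd T (M ⊗ M) ≫ r ≫ u =
          CartesianMonoidalCategory.lift (fst (qObj 𝔪) (M ⊗ M)) (snd (qObj 𝔪) (M ⊗ M) ≫ r) ≫ z₀ := fun r => by
        rw [e, ← hz k, ← Category.assoc, ← Category.assoc, comp_lift]
        simp only [d, T, whiskerRight_fst, whiskerRight_snd_assoc, lift_whiskerRight]
      have htor : ∀ r : M ⊗ M ⟶ M, (snd T (M ⊗ M) ≫ r ≫ u) ^ n = 1 := fun r => by
        rw [e, ← MonObj.comp_pow, hzn, MonObj.comp_one]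
      refine eq_of_torsion d n (hinv _) _ _ (htor _) ?_ ?_ ?_
      · rw [MonObj.comp_mul, Commute.mul_pow ?_, htor, htor, _root_.one_mul]
        have := (hcz k).comp (CartesianMonoidalCategory.lift (fst T (M ⊗ M)) (snd T (M ⊗ M) ≫ fst M M)) _ (𝟙 _)
          (snd T (M ⊗ M) ≫ snd M M ≫ u)
        rw [Category.id_comp, ← e] at this
        exact this
      · rw [MonObj.comp_mul, MonObj.comp_mul, hd, hd, hd, MonObj.comp_mul]
        exact hmul₀ _ _ _ _
      · rw [hd]; exact hc.comp _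
    have := congrArg (CartesianMonoidalCategory.lift a b ≫ ·) key
    simpa only [MonObj.comp_mul, ← Category.assoc, lift_fst, lift_snd] using this
  refine ⟨u, inferInstance, ?_, fun k => by rw [hu k]; exact hcz k, fun u' _ h' => ?_⟩
  · rw [restrict_iff, ← whiskerRight_snd_assoc (qMap (pow_succ_le (A := A) 0)) M, hu 0, hz 0]
  · refine hom_ext_complete _ _ fun k => ?_
    rw [hu k]
    refine huniq k _ ?_ ?_
    · rw [whiskerRight_snd_assoc]; exact (restrict_iff M G u₀ u').mp h'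
    · let F : (qObj ((𝔪 : Ideal A) ^ (k + 1)) ⊗ M ⟶ M) →* (qObj ((𝔪 : Ideal A) ^ (k + 1)) ⊗ M ⟶ G) :=
        MonoidHom.mk' (fun a => a ≫ u') fun a b => MonObj.mul_comp a b u'
      show F (snd _ _) ^ n = 1
      rw [← map_pow, hk, map_one]

omit [IsFinite M.hom] [Smooth M.hom] in
set_option maxHeartbeats 1000000 in
/-- A homomorphism central on the thickenings of the closed fibre is central when the fibres are connected. -/
theorem isCentralPt_of_thickenings [IsFinite M.hom] [QuasiCompact G.hom]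
    (hconn : ∀ s : (Spec (CommRingCat.of A)), _root_.IsConnected (G.hom.base ⁻¹' {s})) (u : M ⟶ G)
    (hc : ∀ k : ℕ, IsCentralPt (snd (qObj (𝔪 ^ (k + 1))) M ≫ u)) : IsCentralPt u := by
  let φ : M ⊗ G ⟶ G := (fst M G ≫ u) * snd M G * (fst M G ≫ u)⁻¹
  let ψ : M ⊗ G ⟶ G := snd M G
  have hφ : ∀ (Z : Over (Spec (CommRingCat.of A))) (t : Z ⟶ M) (g : Z ⟶ G),
      CartesianMonoidalCategory.lift t g ≫ φ = (t ≫ u) * g * (t ≫ u)⁻¹ := fun Z t g => by
    simp only [φ, MonObj.comp_mul, GrpObj.comp_inv, lift_fst_assoc, lift_snd]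
  haveI : IsLocallyNoetherian (M ⊗ G).left :=
    haveI : LocallyOfFiniteType (M ⊗ G).hom := inferInstanceAs (LocallyOfFiniteType (pullback.fst M.hom G.hom ≫ M.hom))
    LocallyOfFiniteType.isLocallyNoetherian (M ⊗ G).hom
  let U : Set (M ⊗ G).left := {x | ∃ O : (M ⊗ G).left.Opens, x ∈ O ∧ O.ι ≫ φ.left = O.ι ≫ ψ.left}
  have hUo : IsOpen U := isOpen_iff_forall_mem_open.2 fun x ⟨O, hx, hO⟩ => ⟨O, fun y hy => ⟨O, hy, hO⟩, O.2, hx⟩
  -- the closed fibre lies in the locus
  have hclosed : ∀ x : (M ⊗ G).left, (M ⊗ G).hom x = IsLocalRing.closedPoint A → x ∈ U := by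
    intro x hx
    refine exists_nhd_eq_of_thickenings G.hom φ.left ψ.left ((Over.w φ).trans (Over.w ψ).symm) x fun k => ?_
    let L := (M ⊗ G).left.presheaf.stalk x
    let q : L ⟶ CommRingCat.of (L ⧸ IsLocalRing.maximalIdeal L ^ (k + 1)) :=
      CommRingCat.ofHom (Ideal.Quotient.mk (IsLocalRing.maximalIdeal L ^ (k + 1)))
    let e : Spec (CommRingCat.of (L ⧸ IsLocalRing.maximalIdeal L ^ (k + 1))) ⟶ (M ⊗ G).left :=
      Spec.map q ≫ (M ⊗ G).left.fromSpecStalk x
    let Z : Over (Spec (CommRingCat.of A)) := Over.mk (e ≫ (M ⊗ G).hom)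
    let ez : Z ⟶ M ⊗ G := Over.homMk e rfl
    haveI : IsAffine Z.left := inferInstanceAs (IsAffine (Spec _))
    let χ : CommRingCat.of A ⟶ L := Spec.preimage ((M ⊗ G).left.fromSpecStalk x ≫ (M ⊗ G).hom)
    have hχ : ∀ r ∈ 𝔪, χ r ∈ IsLocalRing.maximalIdeal L := fun r hr => by
      have h1 : (Spec.map χ) (IsLocalRing.closedPoint L) = IsLocalRing.closedPoint A := by
        rw [Spec.map_preimage, Scheme.Hom.comp_apply, Scheme.fromSpecStalk_closedPoint, hx]
      have h2 := congrArg PrimeSpectrum.asIdeal h1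
      exact (SetLike.ext_iff.mp h2 r).mpr hr
    obtain ⟨τ⟩ := exists_toQObj Z ((𝔪 : Ideal A) ^ (k + 1)) fun r hr => by
      have hstr : Z.hom = Spec.map (χ ≫ q) := by
        show (Spec.map q ≫ (M ⊗ G).left.fromSpecStalk x) ≫ (M ⊗ G).hom = _
        rw [Category.assoc, Spec.map_comp, Spec.map_preimage]
      show (Scheme.ΓSpecIso (CommRingCat.of A)).inv ≫ Z.hom.appTop |> fun f => f r = 0
      rw [hstr, ← Scheme.ΓSpecIso_inv_naturality]
      have hmem : χ r ∈ IsLocalRing.maximalIdeal L ^ (k + 1) := by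
        have : (𝔪 ^ (k + 1)).map χ.hom ≤ IsLocalRing.maximalIdeal L ^ (k + 1) := by
          rw [Ideal.map_pow]
          exact Ideal.pow_right_mono (Ideal.map_le_iff_le_comap.mpr hχ) _
        exact this (Ideal.mem_map_of_mem _ hr)
      show (Scheme.ΓSpecIso _).inv (q (χ r)) = 0
      rw [show q (χ r) = 0 from Ideal.Quotient.eq_zero_iff_mem.mpr hmem, map_zero]
    have key : ez ≫ φ = ez ≫ ψ := by
      have h1 := hc k Z (CartesianMonoidalCategory.lift τ (ez ≫ fst M G)) (ez ≫ snd M G)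
      rw [lift_snd_assoc, Category.assoc] at h1
      have h2 : ez ≫ φ = ((ez ≫ fst M G ≫ u) * (ez ≫ snd M G)) * (ez ≫ fst M G ≫ u)⁻¹ := by
        simp only [φ, MonObj.comp_mul, GrpObj.comp_inv]
      rw [h2, h1, mul_inv_cancel_right]
    have hk' := congrArg Over.Hom.left key
    rw [Over.comp_left, Over.comp_left] at hk'
    exact (Category.assoc _ _ _).symm.trans (hk'.trans (Category.assoc _ _ _))
  -- the locus contains the unit section
  have hunit : ∀ t : M.left, (CartesianMonoidalCategory.lift (𝟙 M) (1 : M ⟶ G)).left t ∈ U := by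
    intro t
    have hcl : IsLocalRing.closedPoint A ∈ M.hom '' closure {t} := by
      have h1 : IsClosed (M.hom '' closure {t}) := M.hom.isClosedMap _ isClosed_closure
      exact (IsLocalRing.specializes_closedPoint (M.hom t)).mem_closed h1 ⟨t, subset_closure rfl, rfl⟩
    obtain ⟨t₀, ht₀, hts⟩ := hcl
    refine (((specializes_iff_mem_closure.mpr ht₀).map (CartesianMonoidalCategory.lift (𝟙 M) (1 : M ⟶ G)).left.continuous)).mem_open hUo
      (hclosed _ ?_)
    rw [← Scheme.Hom.comp_apply, Over.w (CartesianMonoidalCategory.lift (𝟙 M) (1 : M ⟶ G))]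
    exact hts
  let U' : (M ⊗ G).left.Opens := ⟨U, hUo⟩
  have hUeq : U'.ι ≫ φ.left = U'.ι ≫ ψ.left := by
    choose O hO hOe using fun y : U' => y.2
    let 𝒰 := (U' : Scheme.{u}).openCoverOfIsOpenCover (fun y => U'.ι ⁻¹ᵁ O y)
      (top_le_iff.1 fun y _ => TopologicalSpace.Opens.mem_iSup.2 ⟨y, hO y⟩)
    refine 𝒰.hom_ext _ _ fun y => ?_
    show (U'.ι ⁻¹ᵁ O y).ι ≫ U'.ι ≫ φ.left = (U'.ι ⁻¹ᵁ O y).ι ≫ U'.ι ≫ ψ.left
    rw [← morphismRestrict_ι_assoc, ← morphismRestrict_ι_assoc, hOe y]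
  have heq : φ = ψ := eq_of_agree_near_unit hconn φ ψ (fun Z t g g' => by
      rw [hφ, hφ, hφ]; group) (fun Z t g g' => by simp only [ψ, lift_snd]) U' hunit hUeq
  intro W a g
  have := congrArg (CartesianMonoidalCategory.lift a g ≫ ·) heq
  simp only [hφ, ψ, lift_snd] at this
  exact mul_inv_eq_iff_eq_mul.mp this

end Groth.Agent.Const38.CLift
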