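import Groth.Agent.Const38.PowCentral
import Groth.Agent.RedPts82.HomFiniteMult
import Groth.Agent.RedPts82.SplitSub
import Groth.Agent.RedPts82.ExtTorsion
import Groth.Agent.RedPts82.HopfCoord
import Groth.Agent.RedPts82.EqLocus
import Groth.Agent.Unr55.Rigid
import Groth.Agent.SpFP87.Reduced

/-!
Central homomorphisms from finite étale groups of multiplicative type lift uniquely along surjective closed
immersions.
-/

set_option autoImplicit false
set_option backward.isDefEq.respectTransparency.types false
set_option linter.style.haveILetI false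
universe u

open CategoryTheory MonoidalCategory CartesianMonoidalCategory MonObj GrpObj AlgebraicGeometry
open CategoryTheory.Limits

noncomputable section

namespace Groth.Agent.Const38.CPow

open RedPts82 RedPts82.HomFF SGA3a

variable {S : Scheme.{u}}

/-- In a reduced group algebra the order of the group is invertible. -/
theorem natCard_ne_zero_of_isReduced {K : Type u} [Field K] (M : Type) [AddCommGroup M] [Finite M]
    [_root_.IsReduced (MonoidAlgebra K (Multiplicative M))] : (Nat.card M : K) ≠ 0 := by
  classical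
  intro h
  obtain ⟨p, hp⟩ := CharP.exists K
  have hdvd : p ∣ Nat.card M := (CharP.cast_eq_zero_iff K p _).mp h
  rcases CharP.char_is_prime_or_zero K p with hpr | rfl
  · haveI := Fact.mk hpr
    have hdvd' : p ∣ Nat.card (Multiplicative M) := hdvd
    obtain ⟨g, hg⟩ := exists_prime_orderOf_dvd_card' p hdvd'
    haveI : CharP (MonoidAlgebra K (Multiplicative M)) p := charP_of_injective_algebraMap
      (FaithfulSMul.algebraMap_injective K (MonoidAlgebra K (Multiplicative M))) p
    have h1 : (MonoidAlgebra.of K (Multiplicative M) g - 1) ^ p = 0 := by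
      rw [sub_pow_char, ← map_pow, ← hg, pow_orderOf_eq_one, map_one, one_pow, sub_self]
    have h2 := IsNilpotent.eq_zero (R := MonoidAlgebra K (Multiplicative M)) ⟨p, h1⟩
    rw [sub_eq_zero] at h2
    have hg1 : g = 1 := MonoidAlgebra.of_injective (h2.trans (map_one _).symm)
    rw [hg1, orderOf_one] at hg
    exact hpr.ne_one hg.symm
  · exact Nat.card_pos.ne' (Nat.eq_zero_of_zero_dvd hdvd)

/-- The group algebra of a finite group of invertible order is unramified. -/
theorem formallyUnramified_monoidAlgebra {K : Type u} [Field K] (M : Type) [AddCommGroup M] [Finite M]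
    (hn : (Nat.card M : K) ≠ 0) : Algebra.FormallyUnramified K (MonoidAlgebra K (Multiplicative M)) := by
  classical
  let D := KaehlerDifferential.D K (MonoidAlgebra K (Multiplicative M))
  have hg : ∀ g : Multiplicative M, D (MonoidAlgebra.of K _ g) = 0 := fun g => by
    have h1 : g ^ Nat.card M = 1 := pow_card_eq_one'
    have h2 := congrArg D ((map_pow (MonoidAlgebra.of K (Multiplicative M)) g (Nat.card M)).symm.trans
      ((congrArg _ h1).trans (map_one _)))
    rw [Derivation.leibniz_pow, Derivation.map_one_eq_zero, ← Nat.cast_smul_eq_nsmul K, smul_eq_zero] at h2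
    rcases h2 with h2 | h2
    · exact absurd h2 hn
    · have hu : IsUnit (MonoidAlgebra.of K (Multiplicative M) g ^ (Nat.card M - 1)) :=
        ((Group.isUnit g).map (MonoidAlgebra.of K (Multiplicative M))).pow _
      exact hu.smul_eq_zero.mp h2
  refine ⟨?_⟩
  rw [← Submodule.subsingleton_iff (MonoidAlgebra K (Multiplicative M)), ← subsingleton_iff_bot_eq_top, eq_comm]
  rw [← KaehlerDifferential.span_range_derivation, Submodule.span_eq_bot]
  rintro _ ⟨x, rfl⟩
  induction x using MonoidAlgebra.induction_on with
  | of g => exact hg g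
  | add a b ha hb => rw [map_add, ha, hb, _root_.add_zero]
  | smul c a ha => rw [Derivation.map_smul, ha, smul_zero]

set_option maxHeartbeats 1000000 in
/-- The fibre of a finite smooth group of multiplicative type after a splitting field extension. -/
theorem exists_split_point {H : Over S} [GrpObj H] [IsFinite H.hom] [Smooth H.hom] (hm : IsMultType H)
    (s : S) : ∃ (K : Type u) (_ : Field K) (p : Spec (CommRingCat.of K) ⟶ S) (n : ℕ),
      (∀ c, p c = s) ∧ (n : K) ≠ 0 ∧ FormallyUnramified (Red.bc p H).hom ∧
        ∀ (Z : Over (Spec (CommRingCat.of K))) (k : Z ⟶ Red.bc p H), k ^ n = 1 := by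
  obtain ⟨S', f, hf, hs, -, hloc⟩ := hm
  obtain ⟨s', rfl⟩ := f.surjective s
  obtain ⟨U, hU, M, _, he⟩ := hloc s'
  let K : Type u := S'.residueField s'
  let q : Spec (CommRingCat.of K) ⟶ (U : Scheme.{u}) := IsOpenImmersion.lift U.ι (S'.fromSpecResidueField s') (by
    rw [U.range_ι, Scheme.range_fromSpecResidueField]
    exact Set.singleton_subset_iff.mpr hU)
  let p : Spec (CommRingCat.of K) ⟶ S := q ≫ U.ι ≫ f
  obtain ⟨e⟩ := split_bc (U.ι ≫ f) q he
  let x : Red.bc p H ≅ Red.DS (Spec (CommRingCat.of K)) M := (Grp.forget _).mapIso e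
  haveI : IsMonHom x.hom := e.hom.hom.isMonHom_hom
  obtain ⟨ψ, _⟩ := Hopf.exists_coord_DS K M
  let w := ψ ≪≫ x.symm
  haveI : IsFinite (Red.bc p H).hom := inferInstanceAs (IsFinite (pullback.snd H.hom p))
  haveI : Smooth (Red.bc p H).hom := inferInstanceAs (Smooth (pullback.snd H.hom p))
  have hw : Spec.map (CommRingCat.ofHom (algebraMap K (MonoidAlgebra K (Multiplicative M)))) =
      w.hom.left ≫ (Red.bc p H).hom := (Over.w w.hom).symm
  haveI : IsFinite (Spec.map (CommRingCat.ofHom (algebraMap K (MonoidAlgebra K (Multiplicative M))))) := by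
    rw [hw]
    exact MorphismProperty.RespectsIso.precomp @IsFinite ((Over.forget _).mapIso w).hom _
      (show IsFinite (Red.bc p H).hom from inferInstance)
  haveI : Smooth (Spec.map (CommRingCat.ofHom (algebraMap K (MonoidAlgebra K (Multiplicative M))))) := by
    rw [hw]
    exact MorphismProperty.RespectsIso.precomp @Smooth ((Over.forget _).mapIso w).hom _
      (show Smooth (Red.bc p H).hom from inferInstance)
  haveI : Module.Finite K (MonoidAlgebra K (Multiplicative M)) := RingHom.finite_algebraMap.mp
    ((IsFinite.SpecMap_iff (f := CommRingCat.ofHom (algebraMap K (MonoidAlgebra K (Multiplicative M))))).mp inferInstance)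
  haveI : Finite M := by
    haveI := Module.Finite.finite_basis (MonoidAlgebra.basis (Multiplicative M) K)
    exact Finite.of_equiv _ Multiplicative.toAdd
  haveI : _root_.IsReduced (MonoidAlgebra K (Multiplicative M)) := by
    haveI : IsReduced (Spec (CommRingCat.of (MonoidAlgebra K (Multiplicative M)))) :=
      SpFP87.isReduced_of_smooth (Spec.map (CommRingCat.ofHom (algebraMap K (MonoidAlgebra K (Multiplicative M)))))
    exact isReduced_of_injective (Scheme.ΓSpecIso (CommRingCat.of (MonoidAlgebra K (Multiplicative M)))).inv.hom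
      (ConcreteCategory.bijective_of_isIso _).injective
  have hn := natCard_ne_zero_of_isReduced (K := K) M
  refine ⟨K, inferInstance, p, Nat.card M, fun c => ?_, hn, ?_, fun Z k => ?_⟩
  · simp only [p, q, ← Category.assoc, IsOpenImmersion.lift_fac]
    rw [Scheme.Hom.comp_apply, Scheme.fromSpecResidueField_apply]
  · haveI := formallyUnramified_monoidAlgebra (K := K) M hn
    haveI : FormallyUnramified (Spec.map (CommRingCat.ofHom (algebraMap K (MonoidAlgebra K (Multiplicative M))))) := by
      rw [HasRingHomProperty.Spec_iff (P := @FormallyUnramified)]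
      exact RingHom.formallyUnramified_algebraMap.mpr inferInstance
    rw [show (Red.bc p H).hom = w.inv.left ≫ Spec.map (CommRingCat.ofHom (algebraMap K (MonoidAlgebra K (Multiplicative M))))
      from (Over.w w.inv).symm]
    exact MorphismProperty.RespectsIso.precomp @FormallyUnramified ((Over.forget _).mapIso w).inv _
      (show FormallyUnramified (Spec.map (CommRingCat.ofHom (algebraMap K (MonoidAlgebra K (Multiplicative M))))) from inferInstance)
  · have h1 : (k ≫ x.hom) ^ Nat.card M = 1 := dsFn_injective fun m => by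
      rw [dsFn_pow_point, ← dsFn_nsmul, dsFn_one]
      have : Nat.card M • m = 0 := by
        haveI := Fintype.ofFinite M
        rw [Nat.card_eq_fintype_card, card_nsmul_eq_zero]
      rw [this, dsFn_zero]
    haveI hxm : IsMonHom x.hom := e.hom.hom.isMonHom_hom
    let F : (Z ⟶ Red.bc p H) →* (Z ⟶ Red.DS (Spec (CommRingCat.of K)) M) :=
      { toFun := fun k => k ≫ x.hom
        map_one' := @MonObj.one_comp _ _ _ _ _ _ _ _ x.hom hxm
        map_mul' := fun a b => @MonObj.mul_comp _ _ _ _ _ _ _ _ a b x.hom hxm }
    have h2 : (k ^ Nat.card M) ≫ x.hom = (1 : Z ⟶ Red.bc p H) ≫ x.hom := by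
      show F (k ^ Nat.card M) = F 1
      rw [map_pow, map_one]
      exact h1
    exact (cancel_mono x.hom).mp h2

set_option maxHeartbeats 1000000 in
/-- Near each point of the base, the group is killed by an invertible exponent. -/
theorem exists_local_exponent {H : Over S} [GrpObj H] [IsFinite H.hom] [Smooth H.hom] (hm : IsMultType H)
    (s : S) : ∃ (W : S.Opens) (n : ℕ), s ∈ W ∧ (∀ t : S, t ∈ W → (n : S.residueField t) ≠ 0) ∧
      ∀ (Z : Over S) (k : Z ⟶ H), Set.range Z.hom ⊆ (W : Set S) → k ^ n = 1 := by
  -- the group is unramified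
  haveI : FormallyUnramified H.hom := NearLocus.of_forall_near _ fun y => by
    obtain ⟨K, _, p, -, hp, -, hu, -⟩ := exists_split_point hm (H.hom y)
    obtain ⟨w, hw, -⟩ := Scheme.Pullback.exists_preimage_pullback (f := H.hom) (g := p) y default (hp default).symm
    rw [← hw]
    exact NearLocus.descPt_formallyUnramified (IsPullback.of_hasPullback H.hom p) trivial
      (inferInstance : LocallyOfFinitePresentation H.hom) w (NearLocus.near_of_prop (P := @FormallyUnramified) hu w)
  obtain ⟨K, _, p, n, hp, hnK, -, hk⟩ := exists_split_point hm s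
  obtain ⟨E, hE, hmax, hcl⟩ := Unr55.exists_eqLocus H.hom ((𝟙 H : H ⟶ H) ^ n).left (1 : H ⟶ H).left
    ((Over.w _).trans (Over.w _).symm)
  have hEc : IsClosed (E : Set H.left) := hcl inferInstance
  -- the complement has closed image
  let B : Set S := H.hom '' (E : Set H.left)ᶜ
  have hBc : IsClosed B := H.hom.isClosedMap _ E.2.isClosed_compl
  have hs : s ∉ B := by
    rintro ⟨y, hy, hys⟩
    obtain ⟨w, hw, -⟩ := Scheme.Pullback.exists_preimage_pullback (f := H.hom) (g := p) y default
      (hys.trans (hp default).symm)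
    refine hy (hmax (pullback.fst H.hom p) ?_ ⟨w, hw⟩)
    have h1 := hk _ (𝟙 (Red.bc p H))
    have h2 : (Over.pullback p).map ((𝟙 H : H ⟶ H) ^ n) = (Over.pullback p).map (1 : H ⟶ H) := by
      have e := map_pow ((Over.pullback p).homMonoidHom (X := H) (M := H)) (𝟙 H) n
      have e' := map_one ((Over.pullback p).homMonoidHom (X := H) (M := H))
      refine (e.trans ?_).trans e'.symm
      exact (congrArg (fun m : Red.bc p H ⟶ Red.bc p H => m ^ n) ((Over.pullback p).map_id H)).trans h1
    have h3 := congrArg (fun m => Over.Hom.left m ≫ pullback.fst H.hom p) h2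
    have e1 : ∀ g : H ⟶ H, ((Over.pullback p).map g).left ≫ pullback.fst H.hom p = pullback.fst H.hom p ≫ g.left :=
      fun g => pullback.lift_fst _ _ _
    exact ((e1 _).symm.trans h3).trans (e1 _)
  refine ⟨⟨Bᶜ, hBc.isOpen_compl⟩ ⊓ ⟨{t | (n : S.residueField t) ≠ 0}, ?_⟩, n, ⟨hs, ?_⟩, fun t ht => ht.2,
    fun Z k hZ => ?_⟩
  · have : {t : S | (n : S.residueField t) ≠ 0} = S.basicOpen (n : Γ(S, ⊤)) := by
      ext t
      rw [Set.mem_setOf_eq, SetLike.mem_coe, ← S.evaluation_ne_zero_iff_mem_basicOpen (U := ⊤) t trivial (n : Γ(S, ⊤)),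
        map_natCast]
    rw [this]; exact (S.basicOpen (n : Γ(S, ⊤))).2
  · intro h0
    refine hnK ?_
    have h := (Scheme.SpecToEquivOfField K S).symm_apply_apply p
    generalize hy : Scheme.SpecToEquivOfField K S p = y at h
    obtain ⟨y, φ⟩ := y
    have hy' : y = s := by
      have := congrArg (fun k : Spec (CommRingCat.of K) ⟶ S => k default) h
      exact ((Scheme.fromSpecResidueField_apply y _).symm.trans this).trans (hp default)
    subst hy'
    rw [← map_natCast φ.hom, h0, map_zero]
  · have hr : Set.range k.left ⊆ (E : Set H.left) := by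
      rintro _ ⟨z, rfl⟩
      by_contra hzE
      refine (hZ ⟨z, rfl⟩).1 ⟨k.left z, hzE, ?_⟩
      rw [← Scheme.Hom.comp_apply, Over.w k]
    let l := IsOpenImmersion.lift E.ι k.left (by rw [E.range_ι]; exact hr)
    have hl : l ≫ E.ι = k.left := IsOpenImmersion.lift_fac _ _ _
    have h1 : k ≫ ((𝟙 H : H ⟶ H) ^ n) = k ≫ (1 : H ⟶ H) := Over.OverMorphism.ext (by
      rw [Over.comp_left, Over.comp_left, ← hl, Category.assoc, Category.assoc, hE])
    rwa [MonObj.comp_pow, Category.comp_id, MonObj.comp_one] at h1

end Groth.Agent.Const38.CPow
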