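import Groth.Agent.Const38.CentralHom

/-!
Central homomorphisms from finite étale groups of multiplicative type into flat groups lift uniquely along
surjective closed immersions of the base.
-/

set_option autoImplicit false
set_option backward.isDefEq.respectTransparency.types false
set_option linter.style.haveILetI false
universe u

open CategoryTheory MonoidalCategory CartesianMonoidalCategory MonObj GrpObj AlgebraicGeometry
open CategoryTheory.Limits

noncomputable section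

namespace Groth.Agent.Const38.CPow

open RedPts82 RedPts82.HomFF

variable {S : Scheme.{u}} {G H : Over S} [GrpObj G] [GrpObj H]

/-- The pullback of a surjective closed immersion over a base, with its universal property. -/
theorem exists_thick_pullback' {Z Z₀ W : Over S} (c : Z₀ ⟶ Z) [IsClosedImmersion c.left] [Surjective c.left]
    (a : W ⟶ Z) :
    ∃ (W₀ : Over S) (d : W₀ ⟶ W) (a₀ : W₀ ⟶ Z₀), IsClosedImmersion d.left ∧ Surjective d.left ∧ a₀ ≫ c = d ≫ a ∧
      ∀ (Q : Over S) (q : Q ⟶ W) (r : Q ⟶ Z₀), r ≫ c = q ≫ a → ∃ t : Q ⟶ W₀, t ≫ d = q ∧ t ≫ a₀ = r := by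
  let W₀ : Over S := Over.mk (pullback.fst a.left c.left ≫ W.hom)
  have hw : pullback.snd a.left c.left ≫ Z₀.hom = W₀.hom := by
    show _ = pullback.fst a.left c.left ≫ W.hom
    rw [← Over.w c, ← Over.w a, pullback.condition_assoc]
  refine ⟨W₀, Over.homMk (pullback.fst a.left c.left) rfl, Over.homMk (pullback.snd a.left c.left) hw,
    inferInstanceAs (IsClosedImmersion (pullback.fst a.left c.left)),
    inferInstanceAs (Surjective (pullback.fst a.left c.left)), Over.OverMorphism.ext pullback.condition.symm,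
    fun Q q r e => ?_⟩
  refine ⟨Over.homMk (pullback.lift q.left r.left (congrArg Over.Hom.left e).symm) ?_,
    Over.OverMorphism.ext (pullback.lift_fst _ _ _), Over.OverMorphism.ext (pullback.lift_snd _ _ _)⟩
  show _ ≫ pullback.fst a.left c.left ≫ W.hom = _
  rw [pullback.lift_fst_assoc, Over.w q]

/-- Torsion with the given exponents over the given opens. -/
def TorsOn {κ : Type u} (W : κ → S.Opens) (n : κ → ℕ) {Z : Over S} (z : Z ⟶ G) : Prop :=
  ∀ (i : κ) (Z' : Over S) (a : Z' ⟶ Z), Set.range Z'.hom ⊆ (W i : Set S) → (a ≫ z) ^ n i = 1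

variable [Flat G.hom] [LocallyOfFinitePresentation G.hom]

/-- Two torsion points with the same central restriction to a thickening agree. -/
theorem eq_of_torsion {Z Z₀ : Over S} (c : Z₀ ⟶ Z) [IsClosedImmersion c.left] [Surjective c.left]
    (N : ℕ) (hN : InvAlong Z N) (z z' : Z ⟶ G) (h : z ^ N = 1) (h' : z' ^ N = 1) (e : c ≫ z = c ≫ z')
    (hc : IsCentralPt (c ≫ z)) : z = z' := by
  obtain ⟨y, -, -, hy⟩ := existsUnique_torsion_lift c N hN (c ≫ z)
    (by rw [← MonObj.comp_pow, h, MonObj.comp_one]) hc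
  rw [hy z rfl h, hy z' e.symm h']

omit [Flat G.hom] [LocallyOfFinitePresentation G.hom] in
theorem invAlong_of_range {Z : Over S} (W : S.Opens) (n : ℕ) (hW : ∀ t : S, t ∈ W → (n : S.residueField t) ≠ 0)
    (h : Set.range Z.hom ⊆ (W : Set S)) : InvAlong Z n := fun a => hW _ (h ⟨a, rfl⟩)

variable {κ : Type u} (W : κ → S.Opens) (n : κ → ℕ) (hW : ∀ s : S, ∃ i, s ∈ W i)
  (hn : ∀ (i : κ) (t : S), t ∈ W i → (n i : S.residueField t) ≠ 0)

include hW hn in
/-- Locally torsion points with the same central restriction to a thickening agree. -/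
theorem eq_of_torsOn {Z Z₀ : Over S} (c : Z₀ ⟶ Z) [IsClosedImmersion c.left] [Surjective c.left]
    (z z' : Z ⟶ G) (h : TorsOn W n z) (h' : TorsOn W n z') (e : c ≫ z = c ≫ z') (hc : IsCentralPt (c ≫ z)) :
    z = z' := by
  refine Over.OverMorphism.ext ((Z.left.openCoverOfIsOpenCover (fun i => Z.hom ⁻¹ᵁ W i) ?_).hom_ext _ _ fun i => ?_)
  · exact top_le_iff.1 fun x _ => TopologicalSpace.Opens.mem_iSup.2 (hW (Z.hom x))
  let P : Over S := Over.mk ((Z.hom ⁻¹ᵁ W i).ι ≫ Z.hom)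
  let a : P ⟶ Z := Over.homMk (Z.hom ⁻¹ᵁ W i).ι rfl
  have hP : Set.range P.hom ⊆ (W i : Set S) := by rintro _ ⟨x, rfl⟩; exact x.2
  obtain ⟨P₀, d, a₀, hd₁, hd₂, hd⟩ := exists_thick_pullback c a
  haveI := hd₁
  haveI := hd₂
  have key : a ≫ z = a ≫ z' := by
    refine eq_of_torsion d (n i) (invAlong_of_range (W i) (n i) (hn i) hP) _ _ (h i P a hP) (h' i P a hP) ?_ ?_
    · rw [← reassoc_of% hd, e, reassoc_of% hd]
    · rw [← reassoc_of% hd]; exact hc.comp a₀
  exact congrArg Over.Hom.left key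

include hW hn in
/-- Central locally torsion points lift along thickenings. -/
theorem exists_torsOn_lift {Z Z₀ : Over S} (c : Z₀ ⟶ Z) [IsClosedImmersion c.left] [Surjective c.left]
    (z₀ : Z₀ ⟶ G) (h₀ : TorsOn W n z₀) (hc : IsCentralPt z₀) :
    ∃ z : Z ⟶ G, c ≫ z = z₀ ∧ TorsOn W n z := by
  let U : κ → Z.left.Opens := fun i => Z.hom ⁻¹ᵁ W i
  have hU : iSup U = ⊤ := top_le_iff.1 fun x _ => TopologicalSpace.Opens.mem_iSup.2 (hW (Z.hom x))
  let 𝒰 := Z.left.openCoverOfIsOpenCover U hU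
  let P : κ → Over S := fun i => Over.mk ((U i).ι ≫ Z.hom)
  let a : ∀ i, P i ⟶ Z := fun i => Over.homMk (U i).ι rfl
  have hP : ∀ i, Set.range (P i).hom ⊆ (W i : Set S) := fun i => by rintro _ ⟨x, rfl⟩; exact x.2
  choose P₀ d a₀ hd₁ hd₂ hd hfac using fun i => exists_thick_pullback' c (a i)
  have hloc : ∀ i, ∃ w : P i ⟶ G, d i ≫ w = a₀ i ≫ z₀ ∧ w ^ n i = 1 := fun i => by
    haveI := hd₁ i
    haveI := hd₂ i
    obtain ⟨w, hw, hw', -⟩ := existsUnique_torsion_lift (d i) (n i) (invAlong_of_range (W i) (n i) (hn i) (hP i))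
      (a₀ i ≫ z₀) (h₀ i _ (a₀ i) (by
        rintro _ ⟨x, rfl⟩
        exact hP i ⟨(d i).left x, by rw [← Scheme.Hom.comp_apply, Over.w (d i)]⟩)) (hc.comp (a₀ i))
    exact ⟨w, hw, hw'⟩
  choose w hw hw' using hloc
  have agree : ∀ (i j : κ) (Q : Over S) (p : Q ⟶ P i) (q : Q ⟶ P j), p ≫ a i = q ≫ a j → p ≫ w i = q ≫ w j := by
    intro i j Q p q hpq
    obtain ⟨Q₀, d', b₀, h₁, h₂, hb⟩ := exists_thick_pullback c (p ≫ a i)
    haveI := h₁
    haveI := h₂
    obtain ⟨t, ht, ht'⟩ := hfac i Q₀ (d' ≫ p) b₀ (by rw [hb, Category.assoc])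
    obtain ⟨r, hr, hr'⟩ := hfac j Q₀ (d' ≫ q) b₀ (by rw [hb, Category.assoc, hpq])
    have e₁ : d' ≫ p ≫ w i = b₀ ≫ z₀ := by
      rw [← Category.assoc, ← ht, Category.assoc, hw i, ← Category.assoc, ht']
    have e₂ : d' ≫ q ≫ w j = b₀ ≫ z₀ := by
      rw [← Category.assoc, ← hr, Category.assoc, hw j, ← Category.assoc, hr']
    refine eq_of_torsion d' (n i * n j) (InvAlong.mul ?_ ?_) _ _ ?_ ?_ (e₁.trans e₂.symm) (by rw [e₁]; exact hc.comp b₀)
    · exact (invAlong_of_range (W i) (n i) (hn i) (hP i)).of_hom p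
    · exact (invAlong_of_range (W j) (n j) (hn j) (hP j)).of_hom q
    · rw [← MonObj.comp_pow, pow_mul, hw' i, one_pow, MonObj.comp_one]
    · rw [← MonObj.comp_pow, _root_.mul_comm (n i), pow_mul, hw' j, one_pow, MonObj.comp_one]
  -- gluing
  have hglue : ∀ i j, pullback.fst (𝒰.f i) (𝒰.f j) ≫ (w i).left = pullback.snd (𝒰.f i) (𝒰.f j) ≫ (w j).left := by
    intro i j
    let Q : Over S := Over.mk (pullback.fst (𝒰.f i) (𝒰.f j) ≫ (P i).hom)
    exact congrArg Over.Hom.left (agree i j Q (Over.homMk (pullback.fst (𝒰.f i) (𝒰.f j)) rfl)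
      (Over.homMk (pullback.snd (𝒰.f i) (𝒰.f j)) (by
        show pullback.snd (𝒰.f i) (𝒰.f j) ≫ 𝒰.f j ≫ Z.hom = pullback.fst (𝒰.f i) (𝒰.f j) ≫ 𝒰.f i ≫ Z.hom
        rw [pullback.condition_assoc]))
      (Over.OverMorphism.ext pullback.condition))
  let zl := Scheme.Cover.glueMorphisms 𝒰 (fun i => (w i).left) hglue
  have hzl : ∀ i, (U i).ι ≫ zl = (w i).left := fun i => Scheme.Cover.ι_glueMorphisms 𝒰 (fun i => (w i).left) hglue i
  let z : Z ⟶ G := Over.homMk zl (𝒰.hom_ext _ _ fun i => by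
    show (U i).ι ≫ zl ≫ G.hom = (U i).ι ≫ Z.hom
    rw [← Category.assoc, hzl i]
    exact Over.w (w i))
  have hz : ∀ i, a i ≫ z = w i := fun i => Over.OverMorphism.ext (hzl i)
  refine ⟨z, ?_, ?_⟩
  · let 𝒱 := Z₀.left.openCoverOfIsOpenCover (fun i => c.left ⁻¹ᵁ U i)
      (top_le_iff.1 fun x _ => TopologicalSpace.Opens.mem_iSup.2 (hW (Z.hom (c.left x))))
    refine Over.OverMorphism.ext (𝒱.hom_ext _ _ fun i => ?_)
    let P' : Over S := Over.mk ((c.left ⁻¹ᵁ U i).ι ≫ Z₀.hom)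
    let v : P' ⟶ Z₀ := Over.homMk (c.left ⁻¹ᵁ U i).ι rfl
    let v' : P' ⟶ P i := Over.homMk (c.left ∣_ U i) (by
      show (c.left ∣_ U i) ≫ (U i).ι ≫ Z.hom = (c.left ⁻¹ᵁ U i).ι ≫ Z₀.hom
      rw [morphismRestrict_ι_assoc, Over.w c])
    obtain ⟨t, ht, ht'⟩ := hfac i P' v' v (Over.OverMorphism.ext (morphismRestrict_ι c.left (U i)).symm)
    have e : v ≫ c ≫ z = v ≫ z₀ := by
      have hc' : v ≫ c = v' ≫ a i := Over.OverMorphism.ext (morphismRestrict_ι c.left (U i)).symm
      rw [reassoc_of% hc', hz i, ← ht, Category.assoc, hw i, ← Category.assoc, ht']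
    exact congrArg Over.Hom.left e
  · intro i Z' b hZ'
    have hb : Set.range b.left ⊆ Set.range (U i).ι := by
      rw [(U i).range_ι]
      rintro _ ⟨x, rfl⟩
      show Z.hom (b.left x) ∈ W i
      rw [← Scheme.Hom.comp_apply, Over.w b]
      exact hZ' ⟨x, rfl⟩
    let b' : Z' ⟶ P i := Over.homMk (IsOpenImmersion.lift (U i).ι b.left hb) (by
      show IsOpenImmersion.lift (U i).ι b.left hb ≫ (U i).ι ≫ Z.hom = Z'.hom
      rw [IsOpenImmersion.lift_fac_assoc, Over.w b])
    have e : b' ≫ a i = b := Over.OverMorphism.ext (IsOpenImmersion.lift_fac _ _ _)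
    rw [← e, Category.assoc, hz i, ← MonObj.comp_pow, hw' i, MonObj.comp_one]

include hW hn in
/-- Locally torsion points with central restriction to a thickening are central. -/
theorem isCentralPt_of_torsOn {Z Z₀ : Over S} (c : Z₀ ⟶ Z) [IsClosedImmersion c.left] [Surjective c.left]
    (z : Z ⟶ G) (h : TorsOn W n z) (hc : IsCentralPt (c ≫ z)) : IsCentralPt z := by
  intro V a g
  refine Over.OverMorphism.ext ((V.left.openCoverOfIsOpenCover (fun i => V.hom ⁻¹ᵁ W i)
    (top_le_iff.1 fun x _ => TopologicalSpace.Opens.mem_iSup.2 (hW (V.hom x)))).hom_ext _ _ fun i => ?_)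
  let P : Over S := Over.mk ((V.hom ⁻¹ᵁ W i).ι ≫ V.hom)
  let b : P ⟶ V := Over.homMk (V.hom ⁻¹ᵁ W i).ι rfl
  have hP : Set.range P.hom ⊆ (W i : Set S) := by rintro _ ⟨x, rfl⟩; exact x.2
  obtain ⟨P₀, d, a₀, hd₁, hd₂, hd⟩ := exists_thick_pullback c (b ≫ a)
  haveI := hd₁
  haveI := hd₂
  have hcz : IsCentralPt (d ≫ (b ≫ a) ≫ z) := by
    rw [← Category.assoc, ← hd, Category.assoc]; exact hc.comp a₀
  have hC : IsCentralPt ((b ≫ a) ≫ z) := isCentralPt_of_lift d (n i)
    (invAlong_of_range (W i) (n i) (hn i) hP) _ (h i P (b ≫ a) hP) hcz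
  have key : b ≫ ((a ≫ z) * g) = b ≫ (g * (a ≫ z)) := by
    rw [MonObj.comp_mul, MonObj.comp_mul]
    have := hC P (𝟙 P) (b ≫ g)
    rwa [Category.id_comp, Category.assoc] at this
  exact congrArg Over.Hom.left key

/-- A central homomorphism from a finite étale group of multiplicative type into a flat group lifts uniquely along
a surjective closed immersion, and the lift is central. -/
theorem existsUnique_central_hom_lift [IsFinite H.hom] [Smooth H.hom] (hm : IsMultType H) {S₀ : Scheme.{u}}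
    (c : S₀ ⟶ S) [IsClosedImmersion c] [Surjective c] (u₀ : Red.bc c H ⟶ Red.bc c G) [IsMonHom u₀]
    (hc₀ : ∀ (X : Over S₀) (x : X ⟶ Red.bc c H) (g : X ⟶ Red.bc c G), (x ≫ u₀) * g = g * (x ≫ u₀)) :
    ∃ u : H ⟶ G, IsMonHom u ∧ (Over.pullback c).map u = u₀ ∧ IsCentralPt u ∧
      ∀ u' : H ⟶ G, IsMonHom u' → (Over.pullback c).map u' = u₀ → u' = u := by
  choose W n hsW hn hk using fun s : S => exists_local_exponent (H := H) hm s
  have hW : ∀ s : S, ∃ i, s ∈ W i := fun s => ⟨s, hsW s⟩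
  let T₀ : Over S := Over.mk c
  let π : H ⊗ T₀ ⟶ H := fst H T₀
  haveI : IsClosedImmersion π.left := inferInstanceAs (IsClosedImmersion (pullback.fst H.hom c))
  haveI : Surjective π.left := inferInstanceAs (Surjective (pullback.fst H.hom c))
  let z₀ : H ⊗ T₀ ⟶ G := famOf c u₀
  have hrest : ∀ u : H ⟶ G, (Over.pullback c).map u = u₀ ↔ π ≫ u = z₀ := by
    intro u
    constructor
    · intro h
      ext1
      show _ = (toBase c u₀).left
      rw [← h, ← Category.id_comp ((Over.pullback c).map u), toBase_comp_map]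
      show pullback.fst H.hom c ≫ u.left = (toBase c (𝟙 (Red.bc c H))).left ≫ u.left
      rw [toBase_left c (𝟙 (Red.bc c H))]
      simp
    · intro h
      suffices key : ∀ (Y : Over S₀) (x : Y ⟶ Red.bc c H), x ≫ (Over.pullback c).map u = x ≫ u₀ by
        simpa using key _ (𝟙 _)
      intro Y x
      refine toBase_injective c ?_
      rw [toBase_comp_map, toBase_comp_eq]
      show _ = lift (toBase c x) (strPt c Y) ≫ z₀
      rw [← h, lift_fst_assoc]
  have hmul₀ : ∀ (Z : Over S) (k k' : Z ⟶ H) (t : Z ⟶ T₀),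
      lift (k * k') t ≫ z₀ = (lift k t ≫ z₀) * (lift k' t ≫ z₀) := fun Z k k' t =>
    isHomFamily_famOf c u₀ Z k k' t
  have hpow : ∀ (i : S) (Z : Over S) (t : Z ⟶ T₀) (k : Z ⟶ H), Set.range Z.hom ⊆ (W i : Set S) →
      (lift k t ≫ z₀) ^ n i = 1 := by
    intro i Z t k hZ
    let F : (Z ⟶ H) →* (Z ⟶ G) := MonoidHom.mk' (fun k => lift k t ≫ z₀) fun a b => hmul₀ Z a b t
    show F k ^ n i = 1
    rw [← map_pow, hk i Z k hZ, map_one]
  have ht₀ : TorsOn W n z₀ := fun i Z a hZ => by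
    have := hpow i Z (a ≫ snd H T₀) (a ≫ fst H T₀) hZ
    rwa [← comp_lift, lift_fst_snd, Category.comp_id] at this
  have hc : IsCentralPt z₀ := fun Z a g => by
    obtain ⟨α, -⟩ := exists_over_iso c (a ≫ snd H T₀).left (Over.w (a ≫ snd H T₀))
    let X : Over S₀ := Over.mk (a ≫ snd H T₀).left
    let x : X ⟶ Red.bc c H := ofBase c (α.hom ≫ a ≫ fst H T₀)
    have h1 := congrArg (toBase c) (hc₀ X x (ofBase c (α.hom ≫ g)))
    rw [toBase_mul, toBase_mul, toBase_comp_eq, toBase_ofBase, toBase_ofBase] at h1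
    have h2 : strPt c X = α.hom ≫ a ≫ snd H T₀ := by
      haveI : Mono (Over.mk c : Over S).hom := inferInstanceAs (Mono c)
      exact Over.OverMorphism.ext ((cancel_mono (Over.mk c : Over S).hom).1 ((Over.w _).trans (Over.w _).symm))
    have h3 : lift (α.hom ≫ a ≫ fst H T₀) (strPt c X) = α.hom ≫ a := by
      rw [h2, ← comp_lift, ← comp_lift, lift_fst_snd, Category.comp_id]
    rw [h3, Category.assoc] at h1
    rw [← cancel_epi α.hom, MonObj.comp_mul, MonObj.comp_mul]
    exact h1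
  obtain ⟨u, hu, hut⟩ := exists_torsOn_lift W n hW hn π z₀ ht₀ hc
  have hcu : IsCentralPt u := isCentralPt_of_torsOn W n hW hn π u hut (by rw [hu]; exact hc)
  haveI : IsMonHom u := by
    refine isMonHom_of_points _ fun Z x y => ?_
    have key : ((fst H H) * (snd H H)) ≫ u = (fst H H ≫ u) * (snd H H ≫ u) := by
      let π' : (H ⊗ H) ⊗ T₀ ⟶ H ⊗ H := fst _ _
      haveI : IsClosedImmersion π'.left := inferInstanceAs (IsClosedImmersion (pullback.fst (H ⊗ H).hom c))
      haveI : Surjective π'.left := inferInstanceAs (Surjective (pullback.fst (H ⊗ H).hom c))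
      have hr : ∀ b : (H ⊗ H) ⊗ T₀ ⟶ H, b ≫ u = lift b (snd (H ⊗ H) T₀) ≫ z₀ := fun b => by
        rw [← hu, lift_fst_assoc]
      refine eq_of_torsOn W n hW hn π' _ _ (fun i Z a hZ => ?_) (fun i Z a hZ => ?_) ?_ ?_
      · rw [← Category.assoc]; exact hut i Z _ hZ
      · rw [MonObj.comp_mul, Commute.mul_pow, ← Category.assoc, ← Category.assoc, hut i Z _ hZ, hut i Z _ hZ,
          _root_.one_mul]
        exact (Category.assoc a (fst H H) u) ▸ hcu Z (a ≫ fst H H) (a ≫ snd H H ≫ u)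
      · rw [MonObj.comp_mul, ← Category.assoc, MonObj.comp_mul, ← Category.assoc, ← Category.assoc, hr, hr, hr]
        exact hmul₀ _ _ _ _
      · rw [← Category.assoc]; exact hcu.comp _
    have := congrArg (CartesianMonoidalCategory.lift x y ≫ ·) key
    simpa only [MonObj.comp_mul, ← Category.assoc, lift_fst, lift_snd] using this
  refine ⟨u, inferInstance, (hrest u).mpr hu, hcu, fun u' _ h' => ?_⟩
  refine eq_of_torsOn W n hW hn π u' u (fun i Z a hZ => ?_) hut ?_ ?_
  · let F : (Z ⟶ H) →* (Z ⟶ G) := MonoidHom.mk' (fun k => k ≫ u') fun a b => MonObj.mul_comp a b u'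
    show F a ^ n i = 1
    rw [← map_pow, hk i Z a hZ, map_one]
  · rw [(hrest u').mp h', hu]
  · rw [(hrest u').mp h']; exact hc

end Groth.Agent.Const38.CPow
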