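import Groth.Agent.Unr55.EtaleComponents
import Groth.Agent.E4O.StalkChart
import Mathlib.AlgebraicGeometry.Morphisms.Smooth
import Mathlib.RingTheory.RingHom.StandardSmooth
import Mathlib.AlgebraicGeometry.Morphisms.UniversallyOpen

/-! Irreducible components of schemes smooth over geometrically unibranch irreducible schemes. -/

set_option autoImplicit false
set_option linter.style.haveILetI false
universe u

open CategoryTheory CategoryTheory.Limits AlgebraicGeometry

namespace Groth.Agent.Const38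

variable {X Y : Scheme.{u}} (f : X ⟶ Y) [Smooth f]

/-- Over a geometrically unibranch point a smooth scheme has a unique branch. -/
theorem subsingleton_minimalPrimes_stalk (x : X) (hY : CAlg2.IsGeomUnibranch (Y.presheaf.stalk (f x))) :
    Subsingleton (minimalPrimes (X.presheaf.stalk x)) := by
  obtain ⟨U, hU, V, hV, hxV, e, hstd⟩ := Smooth.exists_isStandardSmooth f x
  obtain ⟨n, g, hg, het⟩ := hstd.exists_etale_mvPolynomial
  let re := (MvPolynomial.renameEquiv Γ(Y, U) (Equiv.ulift.{u} : ULift.{u} (Fin n) ≃ Fin n)).toRingEquiv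
  let g' : MvPolynomial (ULift.{u} (Fin n)) Γ(Y, U) →+* Γ(X, V) := g.comp re.toRingHom
  have hg' : g'.comp MvPolynomial.C = (f.appLE U V e).hom := by
    rw [← hg]
    refine RingHom.ext fun a => congrArg g ?_
    exact MvPolynomial.rename_C _ _
  have het' : g'.Etale := RingHom.Etale.respectsIso.2 g re het
  let A₀ := MvPolynomial (ULift.{u} (Fin n)) Γ(Y, U)
  let k : Spec Γ(X, V) ⟶ Spec (CommRingCat.of A₀) := Spec.map (CommRingCat.ofHom g')
  have hk : Etale k := (HasRingHomProperty.Spec_iff (P := @Etale)).2 het'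
  obtain ⟨x', hx'⟩ := hV.range_fromSpec.ge hxV
  let P : PrimeSpectrum A₀ := k x'
  let p : PrimeSpectrum Γ(Y, U) := PrimeSpectrum.comap MvPolynomial.C P
  have hp : hU.fromSpec p = f x := by
    rw [← hx']
    have h1 : p = (Spec.map (f.appLE U V e)) x' := by
      refine PrimeSpectrum.ext ?_
      show Ideal.comap MvPolynomial.C (Ideal.comap g' x'.asIdeal) = _
      rw [Ideal.comap_comap, hg']
      rfl
    rw [h1]
    exact congrArg (fun m : Spec Γ(X, V) ⟶ Y => m x') (hU.SpecMap_appLE_fromSpec f hV e)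
  rw [← hp] at hY
  obtain ⟨a, ha⟩ := E4O.exists_isLocalization_stalk (R := Γ(Y, U)) hU.fromSpec p
  obtain ⟨b, hb⟩ := E4O.exists_isLocalization_stalk (R := A₀) (𝟙 _) P
  have hP : CAlg2.IsGeomUnibranch ((Spec (CommRingCat.of A₀)).presheaf.stalk
      ((𝟙 (Spec (CommRingCat.of A₀)) : Spec (CommRingCat.of A₀) ⟶ Spec (CommRingCat.of A₀)) P)) :=
    E4O.isGeomUnibranch_mvPolynomial p.asIdeal (Y.presheaf.stalk (hU.fromSpec p)) hY _ P.asIdeal rfl _
  have h1 : CAlg2.IsGeomUnibranch ((Spec Γ(X, V)).presheaf.stalk x') :=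
    Unr55.EtComp.isGeomUnibranch_stalk k x' ⟨⊤, trivial, inferInstance⟩ hP
  have h2 := Unr55.EtComp.subsingleton_minimalPrimes h1
  let φ : X.presheaf.stalk x ≃+* (Spec Γ(X, V)).presheaf.stalk x' :=
    ((X.presheaf.stalkCongr (.of_eq hx'.symm)) ≪≫ asIso (hV.fromSpec.stalkMap x')).commRingCatIsoToRingEquiv
  refine ⟨fun ⟨a₁, ha₁⟩ ⟨a₂, ha₂⟩ => Subtype.ext ?_⟩
  have hmap : ∀ q ∈ minimalPrimes (X.presheaf.stalk x),
      q.comap φ.symm.toRingHom ∈ minimalPrimes ((Spec Γ(X, V)).presheaf.stalk x') := by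
    intro q hq
    have := hq.1.1
    refine ⟨⟨Ideal.comap_isPrime _ q, bot_le⟩, fun J hJ hle => ?_⟩
    have := hJ.1
    have h3 : q ≤ J.comap φ.toRingHom := hq.2 ⟨Ideal.comap_isPrime _ J, bot_le⟩ fun y hy => by
      have h4 : φ.symm (φ y) ∈ q := hle (show φ y ∈ J from hy)
      rwa [φ.symm_apply_apply] at h4
    intro y hy
    have h4 : φ (φ.symm y) ∈ J := h3 hy
    rwa [φ.apply_symm_apply] at h4
  have := congrArg Subtype.val (h2.elim ⟨_, hmap a₁ ha₁⟩ ⟨_, hmap a₂ ha₂⟩)
  exact Ideal.comap_injective_of_surjective _ φ.symm.surjective this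

section Components

variable [IrreducibleSpace Y]
include f

theorem maximal_over_generic {ξ : X} (hξ : ∀ z, z ⤳ ξ → z = ξ) : f ξ = genericPoint Y := by
  obtain ⟨z, hz, hzη⟩ := Flat.generalizingMap f (genericPoint_specializes (f ξ))
  rw [← hzη, hξ z hz]

theorem finite_maximal_near (x : X) :
    ∃ V : X.Opens, x ∈ V ∧ {ξ : X | (∀ z, z ⤳ ξ → z = ξ) ∧ ξ ∈ V}.Finite := by
  obtain ⟨U, hU, V, hV, hxV, e, -⟩ := Smooth.exists_isStandardSmooth f x
  refine ⟨V, hxV, ?_⟩
  have hη : genericPoint Y ∈ U := ((genericPoint_spec Y).mem_open_set_iff U.2).2 ⟨f x, trivial, e hxV⟩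
  let h : (V : Scheme.{u}) ⟶ (U : Scheme.{u}) := f.resLE U V e
  have : IsAffine (V : Scheme.{u}) := hV
  have : IsAffine (U : Scheme.{u}) := hU
  have hlft : LocallyOfFiniteType h := by
    have : LocallyOfFiniteType (h ≫ U.ι) := by rw [Scheme.Hom.resLE_comp_ι]; infer_instance
    exact locallyOfFiniteType_of_comp h U.ι
  let t := h.fiberToSpecResidueField ⟨genericPoint Y, hη⟩
  have : LocallyOfFiniteType t := MorphismProperty.pullback_snd _ _ hlft
  have : QuasiCompact t := MorphismProperty.pullback_snd _ _ inferInstance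
  let F := h.fiber ⟨genericPoint Y, hη⟩
  have hF : IsNoetherian F :=
    { component_noetherian := (LocallyOfFiniteType.isLocallyNoetherian t).component_noetherian
      toCompactSpace := QuasiCompact.compactSpace_of_compactSpace t }
  have hfin := TopologicalSpace.NoetherianSpace.finite_irreducibleComponents (α := F)
  let G : Set F := {a | closure {a} ∈ irreducibleComponents F}
  have hG : G.Finite := Set.Finite.of_finite_image (hfin.subset (Set.image_subset_iff.2 fun a ha => ha))
    fun a _ b _ hab => by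
      have hab' : closure {a} = closure {b} := hab
      exact ((specializes_iff_mem_closure.2 (hab'.ge (subset_closure rfl))).antisymm
        (specializes_iff_mem_closure.2 (hab'.le (subset_closure rfl)))).eq
  refine (hG.image fun a => V.ι (h.fiberι ⟨genericPoint Y, hη⟩ a)).subset ?_
  rintro ξ ⟨hξ, hξV⟩
  have hhξ : h ⟨ξ, hξV⟩ = ⟨genericPoint Y, hη⟩ := by
    apply U.ι.isOpenEmbedding.injective
    show (h ≫ U.ι) ⟨ξ, hξV⟩ = genericPoint Y
    rw [Scheme.Hom.resLE_comp_ι]
    exact maximal_over_generic f hξ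
  obtain ⟨a, ha⟩ := (h.range_fiberι ⟨genericPoint Y, hη⟩).ge hhξ
  refine ⟨a, ?_, by simp [ha]⟩
  obtain ⟨z, hz⟩ := QuasiSober.sober (isIrreducible_irreducibleComponent (x := a)) isClosed_irreducibleComponent
  have hza : z = a := by
    apply (h.fiberι ⟨genericPoint Y, hη⟩).isEmbedding.injective
    apply V.ι.isOpenEmbedding.injective
    refine (hξ _ ?_).trans (by rw [ha]; rfl)
    have := ((hz.specializes mem_irreducibleComponent).map
      (h.fiberι ⟨genericPoint Y, hη⟩).continuous).map V.ι.continuous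
    rwa [ha] at this
  show closure {a} ∈ irreducibleComponents F
  rw [← hza, hz]
  exact irreducibleComponent_mem_irreducibleComponents a

/-- The set of points whose maximal generization lies in a given set is open. -/
theorem isOpen_setOf_maximal (hY : ∀ y : Y, CAlg2.IsGeomUnibranch (Y.presheaf.stalk y)) (A : Set X) :
    IsOpen {w : X | ∃ ξ ∈ A, (∀ z, z ⤳ ξ → z = ξ) ∧ ξ ⤳ w} := by
  refine isOpen_iff_forall_mem_open.2 fun w ⟨ξ, hξA, hξ, hξw⟩ => ?_
  obtain ⟨V, hwV, hfin⟩ := finite_maximal_near f w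
  let B := {a : X | (∀ z, z ⤳ a → z = a) ∧ a ∈ V} \ A
  have hBc : IsClosed (⋃ a ∈ B, closure {a}) :=
    (hfin.subset fun _ h => h.1).isClosed_biUnion fun _ _ => isClosed_closure
  refine ⟨(V : Set X) \ ⋃ a ∈ B, closure {a}, fun y hy => ?_, V.2.sdiff hBc, hwV, ?_⟩
  · obtain ⟨a, hay, ha, -⟩ := Unr55.EtComp.exists_maximal_generization y
    have haV : a ∈ V := hay.mem_open V.2 hy.1
    by_cases haA : a ∈ A
    · exact ⟨a, haA, ha, hay⟩
    · exact absurd (Set.mem_iUnion₂.mpr ⟨a, ⟨⟨ha, haV⟩, haA⟩, hay.mem_closure⟩) hy.2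
  · simp only [Set.mem_iUnion, not_exists]
    rintro a ⟨⟨ha, -⟩, haA⟩ hwa
    exact haA (Unr55.EtComp.eq_of_maximal w (subsingleton_minimalPrimes_stalk f w (hY _))
      (specializes_iff_mem_closure.2 hwa) hξw ha hξ ▸ hξA)

end Components

end Groth.Agent.Const38
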