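import Groth.Agent.Const38.ConstDesc
import Groth.Agent.Const38.SmoothUnibranch
import Groth.Agent.SGA3a.TwConst
import Groth.Agent.Unr55.UnrQF
import Groth.Agent.FlatMor66.Sep
import Mathlib.AlgebraicGeometry.Morphisms.Etale

/-! Components of quasi-isotrivial twisted constant schemes over geometrically unibranch bases. -/

set_option autoImplicit false
set_option linter.style.haveILetI false
universe u

open CategoryTheory CategoryTheory.Limits MonoidalCategory CartesianMonoidalCategory AlgebraicGeometry

namespace Groth.Agent.Const38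

variable {S : Scheme.{u}} {X : Over S}

/-- Twisted constant schemes for the étale topology are separated and étale. -/
theorem isSeparated_and_etale_of_twConst (hX : TwC.IsTwConst TwC.Topology.etale X) :
    IsSeparated X.hom ∧ Etale X.hom := by
  choose S' g hg hgs I he using hX
  let T : ∐ S' ⟶ S := Sigma.desc g
  have hT1 : Surjective T := ⟨fun s => by
    obtain ⟨y, hy⟩ := hgs s
    exact ⟨Sigma.ι S' s y, by rw [← Scheme.Hom.comp_apply, Sigma.ι_desc, hy]⟩⟩
  have hT2 : Etale T := IsZariskiLocalAtSource.sigmaDesc hg
  have key : ∀ (P : MorphismProperty Scheme.{u}) [P.IsStableUnderBaseChange] [IsZariskiLocalAtTarget P]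
      [P.DescendsAlong (@Surjective ⊓ @Flat ⊓ @LocallyOfFinitePresentation)]
      (_ : ∀ s, P (Red.bc (g s) X).hom), P X.hom := by
    intro P _ _ _ hP
    refine MorphismProperty.of_isPullback_of_descendsAlong (P := P)
      (Q := @Surjective ⊓ @Flat ⊓ @LocallyOfFinitePresentation) (IsPullback.of_hasPullback X.hom T).flip
      ⟨⟨hT1, inferInstance⟩, inferInstance⟩ ?_
    refine IsZariskiLocalAtTarget.of_openCover (sigmaOpenCover S') fun s => ?_
    let sq := (IsPullback.of_hasPullback (pullback.snd X.hom T) (Sigma.ι S' s)).paste_horiz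
      (IsPullback.of_hasPullback X.hom T)
    show P (pullback.snd (pullback.snd X.hom T) (Sigma.ι S' s))
    rw [← (IsPullback.of_hasPullback X.hom (g s)).isoIsPullback_inv_snd _ _
        (show IsPullback _ (pullback.snd (pullback.snd X.hom T) (Sigma.ι S' s)) X.hom (g s) by
          simpa [T] using sq), P.cancel_left_of_respectsIso]
    exact hP s
  have : MorphismProperty.DescendsAlong @IsSeparated
      (@Surjective ⊓ @Flat ⊓ @QuasiCompact : MorphismProperty Scheme.{u}) := Unr55.isSeparated
  exact ⟨key @IsSeparated fun s => isSeparated_const (he s).some, key @Etale fun s => etale_const (he s).some⟩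

section Irreducible

variable [IrreducibleSpace S] (hS : ∀ s : S, CAlg2.IsGeomUnibranch (S.presheaf.stalk s))
  (hX : TwC.IsTwConst TwC.Topology.etale X)
include hS hX

/-- Each point lies in the closure of exactly one point over the generic point. -/
theorem existsUnique_generic (x : X.left) :
    ∃! l : X.left, X.hom l = genericPoint S ∧ x ∈ closure ({l} : Set X.left) := by
  obtain ⟨-, het⟩ := isSeparated_and_etale_of_twConst hX
  have : LocallyQuasiFinite X.hom := Unr55.locallyQuasiFinite_of_formallyUnramified X.hom
  have hmax : ∀ l, X.hom l = genericPoint S → ∀ z, z ⤳ l → z = l := fun l hl z hz =>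
    Unr55.EtComp.maximal_of_over_generic X.hom hl hz
  obtain ⟨ξ, hξx, hξ, -⟩ := Unr55.EtComp.exists_maximal_generization x
  refine ⟨ξ, ⟨maximal_over_generic X.hom hξ, hξx.mem_closure⟩, fun l hl => ?_⟩
  exact Unr55.EtComp.eq_of_maximal x (subsingleton_minimalPrimes_stalk X.hom x (hS _))
    (specializes_iff_mem_closure.2 hl.2) hξx (hmax l hl.1) hξ

/-- The closure of a point over the generic point is open. -/
theorem isOpen_closure_generic (l : X.left) (hl : X.hom l = genericPoint S) :
    IsOpen (closure ({l} : Set X.left)) := by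
  obtain ⟨-, het⟩ := isSeparated_and_etale_of_twConst hX
  have : LocallyQuasiFinite X.hom := Unr55.locallyQuasiFinite_of_formallyUnramified X.hom
  have hmax : ∀ z, z ⤳ l → z = l := fun z hz => Unr55.EtComp.maximal_of_over_generic X.hom hl hz
  convert isOpen_setOf_maximal X.hom (fun y => hS y) {l} using 1
  ext w
  rw [← specializes_iff_mem_closure]
  exact ⟨fun h => ⟨l, rfl, hmax, h⟩, by rintro ⟨_, rfl, -, h⟩; exact h⟩

/-- The closure of a point over the generic point is finite étale surjective over the base. -/
theorem finite_component (l : X.left) (hl : X.hom l = genericPoint S) (U : X.left.Opens)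
    (hU : (U : Set X.left) = closure {l}) :
    IsFinite (U.ι ≫ X.hom) ∧ Etale (U.ι ≫ X.hom) ∧ Surjective (U.ι ≫ X.hom) := by
  obtain ⟨hsep, het⟩ := isSeparated_and_etale_of_twConst hX
  have : LocallyQuasiFinite X.hom := Unr55.locallyQuasiFinite_of_formallyUnramified X.hom
  have hUc : IsClosedImmersion U.ι := IsClosedImmersion.of_isPreimmersion _ (by
    rw [Scheme.Opens.range_ι, hU]; exact isClosed_closure)
  let q := U.ι ≫ X.hom
  choose S' g hg hgs I he using hX
  -- irreducible trivialising charts
  have hchart : ∀ s : S, ∃ (T : Scheme.{u}) (t : T ⟶ S), Etale t ∧ s ∈ Set.range t ∧ IrreducibleSpace T ∧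
      Nonempty (Red.bc t X ≅ TwC.const T (I s)) := by
    intro s
    obtain ⟨y, hy⟩ := hgs s
    have := hg s
    obtain ⟨ζ, hζy, hζ, hcomp⟩ := Unr55.EtComp.exists_maximal_generization y
    have hopen : IsOpen (closure ({ζ} : Set (S' s))) := by
      convert isOpen_setOf_maximal (g s) (fun w => hS w) {ζ} using 1
      ext w
      rw [← specializes_iff_mem_closure]
      exact ⟨fun h => ⟨ζ, rfl, hζ, h⟩, by rintro ⟨_, rfl, -, h⟩; exact h⟩
    let O : (S' s).Opens := ⟨closure {ζ}, hopen⟩
    have hirr : IrreducibleSpace (O : Scheme.{u}) :=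
      have : IrreducibleSpace ↥(closure ({ζ} : Set (S' s))) :=
        Subtype.irreducibleSpace (isIrreducible_singleton.closure)
      inferInstanceAs (IrreducibleSpace ↥(closure ({ζ} : Set (S' s))))
    obtain ⟨e', -⟩ := exists_triv (a := 𝟙 (O : Scheme.{u})) (b := O.ι ≫ g s) (c := O.ι) (d := g s)
      (Category.id_comp _) (he s).some
    refine ⟨O, O.ι ≫ g s, inferInstance, ⟨⟨y, hζy.mem_closure⟩, hy⟩, hirr, ⟨?_⟩⟩
    let f1 : Red.bc (𝟙 (O : Scheme.{u})) (Red.bc (O.ι ≫ g s) X) ⟶ Red.bc (O.ι ≫ g s) X :=
      Over.homMk (pullback.fst _ _) (by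
        show pullback.fst _ _ ≫ _ = pullback.snd _ _
        exact pullback.condition.trans (Category.comp_id _))
    have : IsIso f1.left := inferInstanceAs (IsIso (pullback.fst (Red.bc (O.ι ≫ g s) X).hom (𝟙 (O : Scheme.{u}))))
    have : IsIso ((Over.forget _).map f1) := this
    have : IsIso f1 := isIso_of_reflects_iso f1 (Over.forget _)
    exact (asIso f1).symm ≪≫ e'
  choose T t ht hts hirr hT using hchart
  have hfin : ∀ s, IsFinite (pullback.snd q (t s)) := by
    intro s
    have := ht s
    have := hirr s
    obtain ⟨e⟩ := hT s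
    let d : (∐ fun _ : I s => T s) ⟶ T s := Sigma.desc fun _ => 𝟙 (T s)
    have : IsIso e.hom.left := inferInstanceAs (IsIso ((Over.forget _).mapIso e).hom)
    let z0 : pullback q (t s) ⟶ (Red.bc (t s) X).left :=
      pullback.lift (pullback.fst q (t s) ≫ U.ι) (pullback.snd q (t s)) (by rw [Category.assoc]; exact pullback.condition)
    have hz0 : IsPullback (pullback.fst q (t s)) z0 U.ι (pullback.fst X.hom (t s)) := by
      refine IsPullback.of_bot ?_ (pullback.lift_fst _ _ _).symm (IsPullback.of_hasPullback X.hom (t s))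
      rw [show z0 ≫ pullback.snd X.hom (t s) = pullback.snd q (t s) from pullback.lift_snd _ _ _]
      exact IsPullback.of_hasPullback q (t s)
    have : IsClosedImmersion z0 := MorphismProperty.of_isPullback hz0 hUc
    have : IsOpenImmersion z0 := MorphismProperty.of_isPullback hz0 inferInstance
    let z : pullback q (t s) ⟶ ∐ fun _ : I s => T s := z0 ≫ e.hom.left
    have hzd : z ≫ d = pullback.snd q (t s) := by
      rw [Category.assoc]
      exact (congrArg (z0 ≫ ·) (Over.w e.hom)).trans (pullback.lift_snd _ _ _)
    let ζ := genericPoint (T s)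
    have hζ : t s ζ = genericPoint S := maximal_over_generic (t s) fun w hw =>
      (hw.antisymm (genericPoint_specializes _)).eq
    -- only finitely many sheets are met
    have hF : {w : ↥(pullback q (t s)) | pullback.snd q (t s) w = ζ}.Finite := by
      have hlU : l ∈ U := by show l ∈ (U : Set X.left); rw [hU]; exact subset_closure rfl
      obtain ⟨W, hW, hlW, -⟩ := exists_isAffineOpen_mem_and_subset (U := (⊤ : S.Opens)) (x := genericPoint S) trivial
      obtain ⟨V, hV, hlV, eV⟩ := exists_isAffineOpen_mem_and_subset (U := q ⁻¹ᵁ W) (x := (⟨l, hlU⟩ : U.toScheme))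
        (show X.hom l ∈ W by rw [hl]; exact hlW)
      obtain ⟨A, hA, hζA, eA⟩ := exists_isAffineOpen_mem_and_subset (U := (t s) ⁻¹ᵁ W) (x := ζ)
        (show t s ζ ∈ W by rw [hζ]; exact hlW)
      have : IsAffine (W : Scheme.{u}) := hW
      have : IsAffine (V : Scheme.{u}) := hV
      have : IsAffine (A : Scheme.{u}) := hA
      let qV := q.resLE W V eV
      let tA := (t s).resLE W A eA
      have hqV : qV ≫ W.ι = V.ι ≫ q := Scheme.Hom.resLE_comp_ι _ _
      have htA : tA ≫ W.ι = A.ι ≫ t s := Scheme.Hom.resLE_comp_ι _ _
      have : LocallyQuasiFinite qV := by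
        have : LocallyQuasiFinite (qV ≫ W.ι) := by rw [hqV]; infer_instance
        exact LocallyQuasiFinite.of_comp _ W.ι
      let m := pullback.map qV tA q (t s) V.ι A.ι W.ι hqV htA
      refine (((pullback.snd qV tA).finite_preimage_singleton ⟨ζ, hζA⟩).image m).subset fun w hw => ?_
      have hfst : pullback.fst q (t s) w = ⟨l, hlU⟩ := by
        have h1 : X.hom (pullback.fst q (t s) w).1 = genericPoint S := by
          show ((pullback.fst q (t s)) ≫ q) w = genericPoint S
          rw [pullback.condition, Scheme.Hom.comp_apply, hw, hζ]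
        have h2 : (pullback.fst q (t s) w).1 ∈ closure {l} := hU.le (pullback.fst q (t s) w).2
        exact Subtype.ext ((Unr55.EtComp.maximal_of_over_generic X.hom h1 (specializes_iff_mem_closure.2 h2)).symm)
      obtain ⟨d', rfl⟩ : w ∈ Set.range m := by
        rw [Scheme.Pullback.range_map, Scheme.Opens.range_ι, Scheme.Opens.range_ι]
        exact ⟨show _ ∈ V by rw [hfst]; exact hlV, show _ ∈ A by rw [hw]; exact hζA⟩
      refine ⟨d', ?_, rfl⟩
      apply A.ι.isOpenEmbedding.injective
      rw [← Scheme.Hom.comp_apply, show pullback.snd qV tA ≫ A.ι = m ≫ pullback.snd q (t s) from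
        (pullback.lift_snd _ _ _).symm, Scheme.Hom.comp_apply, hw]
      rfl
    let J : Set (I s) := {i | Sigma.ι (fun _ : I s => T s) i ζ ∈ Set.range z}
    have hJ : J.Finite := by
      refine (hF.image fun w => ((sigmaMk fun _ : I s => T s).symm (z w)).1).subset fun i hi => ?_
      obtain ⟨w, hw⟩ := hi
      refine ⟨w, ?_, ?_⟩
      · show pullback.snd q (t s) w = ζ
        rw [← hzd, Scheme.Hom.comp_apply, hw, ← Scheme.Hom.comp_apply, Sigma.ι_desc]
        rfl
      · show ((sigmaMk fun _ : I s => T s).symm (z w)).1 = i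
        rw [hw, ← sigmaMk_mk, Homeomorph.symm_apply_apply]
    have hsheet : ∀ i y, Sigma.ι (fun _ : I s => T s) i y ∈ Set.range z → i ∈ J := fun i y hy => by
      refine ((genericPoint_specializes y).map (Sigma.ι (fun _ : I s => T s) i).continuous).mem_open ?_ hy
      exact z.isOpenEmbedding.isOpen_range
    have : QuasiCompact (z ≫ d) := by
      refine quasiCompact_iff_forall_isAffineOpen.2 fun V hV => ?_
      have hc : IsCompact (Set.range z ∩ ⋃ i ∈ J, Sigma.ι (fun _ : I s => T s) i '' (V : Set (T s))) :=
        (hJ.isCompact_biUnion fun i _ => hV.isCompact.image (Sigma.ι (fun _ : I s => T s) i).continuous).inter_left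
          z.isClosedEmbedding.isClosed_range
      convert z.isClosedEmbedding.isCompact_preimage hc using 1
      ext w
      simp only [Set.preimage_inter, Set.mem_inter_iff, Set.mem_preimage, Set.mem_range_self, true_and,
        Set.mem_iUnion, Set.mem_image, exists_prop]
      obtain ⟨⟨i, y⟩, hy⟩ := (sigmaMk fun _ : I s => T s).surjective (z w)
      rw [sigmaMk_mk] at hy
      have hdy : (z ≫ d) w = y := by
        rw [Scheme.Hom.comp_apply, ← hy, ← Scheme.Hom.comp_apply, Sigma.ι_desc]; rfl
      constructor
      · intro hw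
        exact ⟨i, hsheet i y ⟨w, hy.symm⟩, y, by rw [← hdy]; exact hw, hy⟩
      · rintro ⟨i', -, y', hy'V, hy'⟩
        show (z ≫ d) w ∈ V
        rw [Scheme.Hom.comp_apply, ← hy', ← Scheme.Hom.comp_apply, Sigma.ι_desc]
        exact hy'V
    have h := SGA3a.TwConst.isFinite_const z
    rwa [hzd] at h
  let Tall : ∐ T ⟶ S := Sigma.desc t
  have hT1 : Surjective Tall := ⟨fun s => by
    obtain ⟨y, hy⟩ := hts s
    exact ⟨Sigma.ι T s y, by rw [← Scheme.Hom.comp_apply, Sigma.ι_desc, hy]⟩⟩
  have hT2 : Etale Tall := IsZariskiLocalAtSource.sigmaDesc ht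
  have : MorphismProperty.DescendsAlong @IsFinite
      (@Surjective ⊓ @Flat ⊓ @QuasiCompact : MorphismProperty Scheme.{u}) := Unr55.isFinite
  have hqfin : IsFinite q := by
    refine MorphismProperty.of_isPullback_of_descendsAlong (P := @IsFinite)
      (Q := @Surjective ⊓ @Flat ⊓ @LocallyOfFinitePresentation) (IsPullback.of_hasPullback q Tall).flip
      ⟨⟨hT1, inferInstance⟩, inferInstance⟩ ?_
    refine IsZariskiLocalAtTarget.of_openCover (P := @IsFinite) (sigmaOpenCover T) fun s => ?_
    let sq := (IsPullback.of_hasPullback (pullback.snd q Tall) (Sigma.ι T s)).paste_horiz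
      (IsPullback.of_hasPullback q Tall)
    show IsFinite (pullback.snd (pullback.snd q Tall) (Sigma.ι T s))
    rw [← (IsPullback.of_hasPullback q (t s)).isoIsPullback_inv_snd _ _
        (show IsPullback _ (pullback.snd (pullback.snd q Tall) (Sigma.ι T s)) q (t s) by simpa [Tall] using sq),
      MorphismProperty.cancel_left_of_respectsIso @IsFinite]
    exact hfin s
  refine ⟨hqfin, inferInstance, ⟨fun s => ?_⟩⟩
  have hlU : l ∈ U := by show l ∈ (U : Set X.left); rw [hU]; exact subset_closure rfl
  exact (genericPoint_specializes s).mem_closed q.isClosedMap.isClosed_range ⟨⟨l, hlU⟩, hl⟩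

omit hS in
/-- Sections are determined by their value at the generic point. -/
theorem section_ext (σ₁ σ₂ : S ⟶ X.left) (h₁ : σ₁ ≫ X.hom = 𝟙 S) (h₂ : σ₂ ≫ X.hom = 𝟙 S)
    (h : S.fromSpecResidueField (genericPoint S) ≫ σ₁ = S.fromSpecResidueField (genericPoint S) ≫ σ₂) : σ₁ = σ₂ := by
  obtain ⟨hsep, het⟩ := isSeparated_and_etale_of_twConst hX
  exact Unr55.eq_of_comp_eq X.hom σ₁ σ₂ (h₁.trans h₂.symm) _ h

open Groth.Agent.FlatMor66 in
/-- A point over the generic point with trivial residue extension spreads out to a section. -/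
theorem exists_section_of_generic (τ : Spec (S.residueField (genericPoint S)) ⟶ X.left)
    (hτ : τ ≫ X.hom = S.fromSpecResidueField (genericPoint S)) :
    ∃ σ : S ⟶ X.left, σ ≫ X.hom = 𝟙 S ∧ S.fromSpecResidueField (genericPoint S) ≫ σ = τ := by
  obtain ⟨hsep, het⟩ := isSeparated_and_etale_of_twConst hX
  let K := S.residueField (genericPoint S)
  let o : ↥(Spec K) := IsLocalRing.closedPoint _
  let l := τ o
  have hl : X.hom l = genericPoint S := by
    show X.hom (τ o) = _
    rw [← Scheme.Hom.comp_apply, hτ, Scheme.fromSpecResidueField_apply]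
  let U : X.left.Opens := ⟨closure {l}, isOpen_closure_generic hS hX l hl⟩
  obtain ⟨hfin, hqet, hsurj⟩ := finite_component hS hX l hl U rfl
  let q := U.ι ≫ X.hom
  have hrτ : Set.range τ ⊆ Set.range U.ι := by
    rintro _ ⟨o', rfl⟩
    rw [Subsingleton.elim (α := PrimeSpectrum K) o' o, Scheme.Opens.range_ι]
    exact subset_closure rfl
  let τ' := IsOpenImmersion.lift U.ι τ hrτ
  have hτ' : τ' ≫ q = S.fromSpecResidueField (genericPoint S) := by
    rw [IsOpenImmersion.lift_fac_assoc, hτ]
  -- the generic fibre of the component is a single rational point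
  let F := pullback q (S.fromSpecResidueField (genericPoint S))
  let τF : Spec K ⟶ F := pullback.lift τ' (𝟙 _) (by rw [hτ', Category.id_comp])
  have : Etale τF := by
    have : Etale (τF ≫ pullback.snd _ _) := by rw [pullback.lift_snd]; infer_instance
    exact Etale.of_comp τF (pullback.snd _ _)
  have : IsSplitMono τF := IsSplitMono.mk' ⟨_, pullback.lift_snd _ _ _⟩
  have : IsOpenImmersion τF := IsOpenImmersion.of_flat_of_mono τF
  have : Subsingleton ↥F := ⟨fun a b => by
    have hpt : ∀ c : ↥F, pullback.fst q (S.fromSpecResidueField (genericPoint S)) c = τ' o := fun c => by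
      have h1 : q (pullback.fst q (S.fromSpecResidueField (genericPoint S)) c) = genericPoint S := by
        rw [← Scheme.Hom.comp_apply, pullback.condition, Scheme.Hom.comp_apply]
        exact (Scheme.range_fromSpecResidueField (genericPoint S)).le ⟨_, rfl⟩
      apply U.ι.isOpenEmbedding.injective
      rw [show U.ι (τ' o) = l from congrArg (fun m : Spec K ⟶ X.left => m o) (IsOpenImmersion.lift_fac U.ι τ hrτ)]
      have : LocallyQuasiFinite X.hom := Unr55.locallyQuasiFinite_of_formallyUnramified X.hom
      exact (Unr55.EtComp.maximal_of_over_generic X.hom h1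
        (specializes_iff_mem_closure.2 (pullback.fst q (S.fromSpecResidueField (genericPoint S)) c).2)).symm
    exact (q.fiberι (genericPoint S)).isEmbedding.injective ((hpt a).trans (hpt b).symm)⟩
  have : IsIso τF := (isIso_iff_isOpenImmersion_and_epi_base _).2 ⟨inferInstance, by
    rw [TopCat.epi_iff_surjective]; exact fun c => ⟨o, Subsingleton.elim _ _⟩⟩
  have : Mono (pullback.snd q (S.fromSpecResidueField (genericPoint S))) := by
    have : IsIso (pullback.snd q (S.fromSpecResidueField (genericPoint S))) := by
      rw [show pullback.snd q (S.fromSpecResidueField (genericPoint S)) = inv τF by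
        rw [eq_comm, IsIso.inv_eq_of_hom_inv_id]; exact pullback.lift_snd _ _ _]
      infer_instance
    infer_instance
  -- hence the component maps isomorphically
  have : IsSeparated q := inferInstance
  have hdiag : Surjective (pullback.diagonal q) := ⟨fun c => by
    let P2 := pullback.fst q q ≫ q
    have : Etale P2 := inferInstance
    obtain ⟨c0, hc0, hmax, -⟩ := Unr55.EtComp.exists_maximal_generization c
    have hc0η : P2 c0 = genericPoint S := maximal_over_generic P2 hmax
    let R := AlgebraicClosure ((pullback q q).residueField c0)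
    let j : Spec (CommRingCat.of R) ⟶ pullback q q :=
      Spec.map (CommRingCat.ofHom (algebraMap ((pullback q q).residueField c0) R)) ≫
        (pullback q q).fromSpecResidueField c0
    have hjc : gpt j = c0 := (gpt_comp _ _).trans ((pullback q q).fromSpecResidueField_apply c0 _)
    obtain ⟨θ, hθ⟩ := exists_map_fromSpec (j ≫ P2) (x := genericPoint S) (by rw [gpt_comp, hjc]; exact hc0η)
    have hl1 : pullback.lift (j ≫ pullback.fst q q) (Spec.map θ) (by rw [Category.assoc]; exact hθ) =
        pullback.lift (j ≫ pullback.snd q q) (Spec.map θ) (by rw [Category.assoc, ← pullback.condition]; exact hθ) := by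
      rw [← cancel_mono (pullback.snd q (S.fromSpecResidueField (genericPoint S))), pullback.lift_snd, pullback.lift_snd]
    have h12 : j ≫ pullback.fst q q = j ≫ pullback.snd q q := by
      have := congrArg (· ≫ pullback.fst q (S.fromSpecResidueField (genericPoint S))) hl1
      simpa only [pullback.lift_fst] using this
    have hc0mem : c0 ∈ Set.range (pullback.diagonal q) := by
      refine ⟨gpt (j ≫ pullback.fst q q), ?_⟩
      rw [← gpt_comp, show (j ≫ pullback.fst q q) ≫ pullback.diagonal q = j by
        apply pullback.hom_ext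
        · simp
        · simpa using h12]
      exact hjc
    exact hc0.mem_closed (pullback.diagonal q).isClosedMap.isClosed_range hc0mem⟩
  have hIso : IsIso (pullback.diagonal q) :=
    (isIso_iff_isOpenImmersion_and_epi_base _).2 ⟨inferInstance, by
      rw [TopCat.epi_iff_surjective]; exact (pullback.diagonal q).surjective⟩
  have : Mono q := (pullback.isIso_diagonal_iff q).1 hIso
  have : IsOpenImmersion q := IsOpenImmersion.of_flat_of_mono q
  have : IsIso q := (isIso_iff_isOpenImmersion_and_epi_base _).2 ⟨inferInstance, by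
    rw [TopCat.epi_iff_surjective]; exact q.surjective⟩
  refine ⟨inv q ≫ U.ι, by simp [q], ?_⟩
  rw [← hτ', Category.assoc, IsIso.hom_inv_id_assoc, IsOpenImmersion.lift_fac]

end Irreducible

end Groth.Agent.Const38
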