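import Groth.Agent.Const38.TwLattice
import Groth.Agent.Unr55.Rigid
import Mathlib.AlgebraicGeometry.Sites.Fpqc

/-! Descent of trivialisations of twisted constant schemes along finite flat covers. -/

set_option autoImplicit false
set_option linter.style.haveILetI false
universe u

open CategoryTheory CategoryTheory.Limits MonoidalCategory CartesianMonoidalCategory AlgebraicGeometry

namespace Groth.Agent.Const38

variable {S : Scheme.{u}} {I : Type u}

/-- The point of given index of a trivialised scheme, as a morphism to its total space. -/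
noncomputable def trivSec {T : Scheme.{u}} {d : T ⟶ S} {X : Over S} (e : Red.bc d X ≅ TwC.const T I) (i : I) :
    T ⟶ X.left :=
  (TwC.pt T I i).left ≫ e.inv.left ≫ pullback.fst X.hom d

theorem trivSec_hom {T : Scheme.{u}} {d : T ⟶ S} {X : Over S} (e : Red.bc d X ≅ TwC.const T I) (i : I) :
    trivSec e i ≫ X.hom = d := by
  have h : (TwC.pt T I i).left ≫ e.inv.left ≫ pullback.snd X.hom d = 𝟙 T := by
    rw [show e.inv.left ≫ pullback.snd X.hom d = (TwC.const T I).hom from Over.w e.inv]
    exact Over.w (TwC.pt T I i)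
  rw [trivSec, Category.assoc, Category.assoc, pullback.condition, ← Category.assoc, ← Category.assoc,
    Category.assoc (TwC.pt T I i).left, h]
  exact Category.id_comp d

/-- Trivialisations pull back along commutative squares. -/
theorem exists_triv {T T' S' : Scheme.{u}} {a : T' ⟶ S'} {b : S' ⟶ S} {c : T' ⟶ T} {d : T ⟶ S}
    (w : a ≫ b = c ≫ d) {X : Over S} (e : Red.bc d X ≅ TwC.const T I) :
    ∃ e' : Red.bc a (Red.bc b X) ≅ TwC.const T' I,
      ∀ i, trivSec e' i ≫ pullback.fst X.hom b = c ≫ trivSec e i := by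
  obtain ⟨k, hk⟩ := exists_constBC c (Z := I)
  let j : pullback (pullback.snd X.hom b) a ≅ pullback (pullback.snd X.hom d) c :=
    pullbackLeftPullbackSndIso X.hom b a ≪≫ pullback.congrHom rfl w ≪≫ (pullbackLeftPullbackSndIso X.hom d c).symm
  let J : Red.bc a (Red.bc b X) ≅ Red.bc c (Red.bc d X) :=
    Over.isoMk (f := Red.bc a (Red.bc b X)) (g := Red.bc c (Red.bc d X)) j (by
      show j.hom ≫ pullback.snd _ c = pullback.snd _ a
      simp only [j, Iso.trans_hom, Iso.symm_hom, pullback.congrHom_hom, pullback.map, Category.assoc, Category.comp_id,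
        pullbackLeftPullbackSndIso_inv_snd_snd]
      rw [pullback.lift_snd]
      exact pullbackLeftPullbackSndIso_hom_snd _ _ _)
  have hJ : J.inv.left ≫ pullback.fst (Red.bc b X).hom a ≫ pullback.fst X.hom b =
      pullback.fst (Red.bc d X).hom c ≫ pullback.fst X.hom d := by
    show j.inv ≫ pullback.fst (pullback.snd X.hom b) a ≫ pullback.fst X.hom b = _
    simp only [j, Iso.trans_inv, Iso.symm_inv, pullback.congrHom_inv, pullback.map, Category.assoc, Category.comp_id,
      pullbackLeftPullbackSndIso_inv_fst]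
    rw [pullback.lift_fst]
    exact pullbackLeftPullbackSndIso_hom_fst _ _ _
  refine ⟨J ≪≫ (Over.pullback c).mapIso e ≪≫ k, fun i => ?_⟩
  have h := congrArg (fun m : 𝟙_ (Over T') ⟶ Red.bc c (TwC.const T I) => m.left) (hk i)
  have hw := (isPullback_bc_map c e.inv).w
  have hw' := (isPullback_bc_map c (TwC.pt T I i)).w
  simp only [trivSec, Iso.trans_inv, Over.comp_left, Functor.mapIso_inv, Category.assoc] at h ⊢
  rw [hJ, ← reassoc_of% hw, ← reassoc_of% h, ← reassoc_of% hw']
  have hε : (Functor.LaxMonoidal.ε (Over.pullback c)).left ≫ pullback.fst (𝟙_ (Over T)).hom c = c := by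
    have h1 : (Functor.LaxMonoidal.ε (Over.pullback c)).left ≫ pullback.snd (𝟙_ (Over T)).hom c = 𝟙 T' :=
      Over.w (Functor.LaxMonoidal.ε (Over.pullback c))
    have h2 := congrArg ((Functor.LaxMonoidal.ε (Over.pullback c)).left ≫ ·)
      (pullback.condition (f := (𝟙_ (Over T)).hom) (g := c))
    simp only [reassoc_of% h1] at h2
    exact (congrArg (_ ≫ ·) (Category.comp_id (pullback.fst (𝟙_ (Over T)).hom c))).symm.trans h2
  exact (reassoc_of% hε) _

/-- A twisted form trivialised by a finite flat cover is constant when the trivialising sections descend. -/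
theorem nonempty_iso_const {T : Scheme.{u}} (π : T ⟶ S) [Flat π] [Surjective π] [QuasiCompact π] {X : Over S}
    (e : Red.bc π X ≅ TwC.const T I)
    (h : ∀ i, pullback.fst π π ≫ trivSec e i = pullback.snd π π ≫ trivSec e i) :
    Nonempty (X ≅ TwC.const S I) := by
  have hdesc : ∀ i, ∃ τ : S ⟶ X.left, π ≫ τ = trivSec e i := fun i =>
    ⟨EffectiveEpi.desc π (trivSec e i) fun g₁ g₂ hg => by
      rw [← pullback.lift_fst g₁ g₂ hg, Category.assoc, h, pullback.lift_snd_assoc],
      EffectiveEpi.fac π _ _⟩
  choose τ hτ using hdesc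
  have hτw : ∀ i, τ i ≫ X.hom = 𝟙 S := fun i => by
    rw [← cancel_epi π, reassoc_of% hτ i, trivSec_hom, Category.comp_id]
  let ψ : TwC.const S I ⟶ X := Over.homMk (Sigma.desc τ) (Sigma.hom_ext _ _ fun i => by
    simp [hτw])
  obtain ⟨k, hk⟩ := exists_constBC π (Z := I)
  have hFψ : k.inv ≫ (Over.pullback π).map ψ = e.inv := by
    refine Over.OverMorphism.ext (Sigma.hom_ext _ _ fun i => ?_)
    have h1 := congrArg (fun m : 𝟙_ (Over T) ⟶ Red.bc π (TwC.const S I) => m.left) (hk i)
    change (Functor.LaxMonoidal.ε (Over.pullback π)).left ≫ ((Over.pullback π).map (TwC.pt S I i)).left =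
      (TwC.pt T I i).left ≫ k.inv.left at h1
    show (TwC.pt T I i).left ≫ k.inv.left ≫ ((Over.pullback π).map ψ).left = (TwC.pt T I i).left ≫ e.inv.left
    apply pullback.hom_ext
    · simp only [Category.assoc]
      refine Eq.trans ?_ (hτ i)
      rw [← (isPullback_bc_map π ψ).w, ← reassoc_of% h1, ← reassoc_of% (isPullback_bc_map π (TwC.pt S I i)).w]
      have h2 : (TwC.pt S I i).left ≫ ψ.left = τ i := Sigma.ι_desc _ _
      rw [h2, ← Category.assoc]
      congr 1
      have h3 : (Functor.LaxMonoidal.ε (Over.pullback π)).left ≫ pullback.snd (𝟙_ (Over S)).hom π = 𝟙 T :=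
        Over.w (Functor.LaxMonoidal.ε (Over.pullback π))
      have h4 := congrArg ((Functor.LaxMonoidal.ε (Over.pullback π)).left ≫ ·)
        (pullback.condition (f := (𝟙_ (Over S)).hom) (g := π))
      simp only [reassoc_of% h3] at h4
      exact (congrArg (_ ≫ ·) (Category.comp_id (pullback.fst (𝟙_ (Over S)).hom π))).symm.trans h4
    · simp only [Category.assoc]
      exact ((congrArg (fun m => (TwC.pt T I i).left ≫ k.inv.left ≫ m) (Over.w ((Over.pullback π).map ψ))).trans
        (congrArg ((TwC.pt T I i).left ≫ ·) (Over.w k.inv))).trans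
        (congrArg ((TwC.pt T I i).left ≫ ·) (Over.w e.inv)).symm
  have : IsIso ((Over.pullback π).map ψ) := by
    rw [show (Over.pullback π).map ψ = k.hom ≫ e.inv by rw [← hFψ, Iso.hom_inv_id_assoc]]
    infer_instance
  have hiso : IsIso ((Over.pullback π).map ψ).left :=
    inferInstanceAs (IsIso ((Over.forget T).map ((Over.pullback π).map ψ)))
  have : IsIso ψ.left :=
    MorphismProperty.of_isPullback_of_descendsAlong (P := MorphismProperty.isomorphisms Scheme.{u})
      (Q := @Surjective ⊓ @Flat ⊓ @QuasiCompact) (isPullback_bc_map π ψ).flip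
      (MorphismProperty.pullback_fst (P := @Surjective ⊓ @Flat ⊓ @QuasiCompact) X.hom π ⟨⟨inferInstance, inferInstance⟩, inferInstance⟩) hiso
  have : IsIso ((Over.forget S).map ψ) := this
  have : IsIso ψ := isIso_of_reflects_iso ψ (Over.forget S)
  exact ⟨(asIso ψ).symm⟩

end Groth.Agent.Const38
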