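import Groth.Agent.Const38.SmoothUnibranch
import Groth.Agent.Const38.BaseChange

/-! Morphisms into constant schemes are determined by, and extend from, the generic fibre. -/

set_option autoImplicit false
set_option linter.style.haveILetI false
universe u

open CategoryTheory CategoryTheory.Limits MonoidalCategory CartesianMonoidalCategory MonObj AlgebraicGeometry

namespace Groth.Agent.Const38

variable {S : Scheme.{u}} {Z : Type u} {G : Over S} (eG : G ≅ TwC.const S Z)

/-- A morphism into a constant scheme is determined by its index. -/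
theorem hom_ext_index {T : Over S} (f f' : T ⟶ G) (h : ∀ x, index eG (f.left x) = index eG (f'.left x)) : f = f' := by
  refine Over.OverMorphism.ext ?_
  let U : Z → T.left.Opens := fun m =>
    ⟨(fun x => index eG (f.left x)) ⁻¹' {m}, ((isLocallyConstant_index eG).comp_continuous f.left.continuous).isOpen_fiber m⟩
  refine (Scheme.openCoverOfIsOpenCover T.left U
    (TopologicalSpace.IsOpenCover.mk (top_le_iff.1 fun x _ => TopologicalSpace.Opens.mem_iSup.2 ⟨_, rfl⟩))).hom_ext _ _ fun m => ?_
  let T' : Over S := Over.mk ((U m).ι ≫ T.hom)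
  let i : T' ⟶ T := Over.homMk (U m).ι rfl
  have h1 : i ≫ f = cpt eG T' m := eq_cpt eG _ m fun x => x.2
  have h2 : i ≫ f' = cpt eG T' m := eq_cpt eG _ m fun x => (h x.1).symm.trans x.2
  exact congrArg (fun g : T' ⟶ G => g.left) (h1.trans h2.symm)

/-- A locally constant function is the index of a morphism into a constant scheme. -/
theorem exists_hom_of_index (T : Over S) (g : T.left → Z) (hg : IsLocallyConstant g) :
    ∃ f : T ⟶ G, ∀ x, index eG (f.left x) = g x := by
  classical
  let U : Z → T.left.Opens := fun m => ⟨g ⁻¹' {m}, hg.isOpen_fiber m⟩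
  have hdisj : Pairwise (Function.onFun Disjoint fun m => (U m).ι.opensRange) := fun i j hij => by
    simp only [Function.onFun, Scheme.Opens.opensRange_ι]
    rw [disjoint_iff]
    exact TopologicalSpace.Opens.ext (Set.eq_empty_of_forall_notMem fun x hx => hij (hx.1.symm.trans hx.2))
  obtain ⟨hc⟩ := nonempty_isColimit_cofanMk_of (fun m => (U m).ι)
    (top_le_iff.1 fun x _ => TopologicalSpace.Opens.mem_iSup.2 ⟨g x, by rw [Scheme.Opens.opensRange_ι]; exact rfl⟩) hdisj
  let l : T.left ⟶ G.left := Cofan.IsColimit.desc hc fun m => (cpt eG (Over.mk ((U m).ι ≫ T.hom)) m).left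
  have hl : ∀ m, (U m).ι ≫ l = (cpt eG (Over.mk ((U m).ι ≫ T.hom)) m).left :=
    fun m => Cofan.IsColimit.fac hc _ m
  refine ⟨Over.homMk l (Cofan.IsColimit.hom_ext hc _ _ fun m => ?_), fun x => ?_⟩
  · show (U m).ι ≫ l ≫ G.hom = (U m).ι ≫ T.hom
    rw [← Category.assoc, hl, Over.w]
    rfl
  · have hx : x ∈ U (g x) := rfl
    show index eG (l ((U (g x)).ι ⟨x, hx⟩)) = g x
    rw [← Scheme.Hom.comp_apply, hl]
    exact index_cpt eG _ _ _

variable [IrreducibleSpace S] {ξ : S}

/-- Over an irreducible geometrically unibranch base, morphisms from a smooth scheme to a constant one restrict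
bijectively to the generic fibre. -/
theorem bijective_restrict (hS : ∀ s : S, CAlg2.IsGeomUnibranch (S.presheaf.stalk s))
    (hξ : IsGenericPoint ξ (Set.univ : Set S)) (eG : G ≅ TwC.const S Z) (X : Over S) (hX : Smooth X.hom) :
    Function.Bijective (fun a : X ⟶ G => (Over.pullback (S.fromSpecResidueField ξ)).map a) := by
  let t := S.fromSpecResidueField ξ
  let fX := pullback.fst X.hom t
  have hr : Set.range fX = X.hom ⁻¹' {ξ} := X.hom.range_fiberι ξ
  have hfX : Topology.IsEmbedding fX := (X.hom.fiberι ξ).isEmbedding
  have hgen : genericPoint S = ξ := (genericPoint_spec S).eq hξ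
  have hover : ∀ w : X.left, (∀ z, z ⤳ w → z = w) → w ∈ Set.range fX := fun w hw => by
    rw [hr]; exact (maximal_over_generic X.hom hw).trans hgen
  have hmap : ∀ (a : X ⟶ G) (p : ↥(pullback X.hom t)),
      pullback.fst G.hom t (((Over.pullback t).map a).left p) = a.left (fX p) := fun a p => by
    rw [← Scheme.Hom.comp_apply, ← Scheme.Hom.comp_apply, ← (isPullback_bc_map t a).w]
  refine ⟨fun a b hab => hom_ext_index eG a b fun w => ?_, fun h => ?_⟩
  · obtain ⟨ζ, hζw, hζ, -⟩ := Unr55.EtComp.exists_maximal_generization w
    obtain ⟨p, hp⟩ := hover ζ hζ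
    have hconst : ∀ c : X ⟶ G, index eG (c.left w) = index eG (c.left ζ) := fun c =>
      (((isLocallyConstant_index eG).comp_continuous c.left.continuous).apply_eq_of_isPreconnected
        (isIrreducible_singleton (x := ζ)).closure.isPreirreducible.isPreconnected
        (subset_closure rfl) hζw.mem_closure).symm
    rw [hconst a, hconst b, ← hp, ← hmap, ← hmap]
    exact congrArg (fun c : (Over.pullback t).obj X ⟶ (Over.pullback t).obj G => index eG (pullback.fst G.hom t (c.left p))) hab
  · let gη : ↥(pullback X.hom t) → Z := fun p => index eG (pullback.fst G.hom t (h.left p))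
    have hgη : IsLocallyConstant gη :=
      (isLocallyConstant_index eG).comp_continuous ((pullback.fst G.hom t).continuous.comp h.left.continuous)
    choose mx hmxw hmx _ using fun w : X.left => Unr55.EtComp.exists_maximal_generization w
    choose p hp using fun w => hover (mx w) (hmx w)
    let g : X.left → Z := fun w => gη (p w)
    have hg : IsLocallyConstant g := IsLocallyConstant.iff_isOpen_fiber.2 fun m => by
      have := isOpen_setOf_maximal X.hom (fun y => hS y) (fX '' (gη ⁻¹' {m}))
      convert this using 1
      ext w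
      constructor
      · intro hw; exact ⟨mx w, ⟨p w, hw, hp w⟩, hmx w, hmxw w⟩
      · rintro ⟨ζ, ⟨q, hq, rfl⟩, hζ, hζw⟩
        have h1 : mx w = fX q := Unr55.EtComp.eq_of_maximal w
          (subsingleton_minimalPrimes_stalk X.hom w (hS _)) (hmxw w) hζw (hmx w) hζ
        have h2 : p w = q := hfX.injective ((hp w).trans h1)
        show gη (p w) = m
        rw [h2]; exact hq
    obtain ⟨a, ha⟩ := exists_hom_of_index eG X g hg
    refine ⟨a, Over.OverMorphism.ext (pullback.hom_ext ?_ ((Over.w _).trans (Over.w h).symm))⟩
    let T' : Over S := Over.mk (pullback.fst X.hom t ≫ X.hom)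
    let c1 : T' ⟶ G := Over.homMk (((Over.pullback t).map a).left ≫ pullback.fst G.hom t) (by
      rw [← (isPullback_bc_map t a).w, Category.assoc, Over.w a]; rfl)
    let c2 : T' ⟶ G := Over.homMk (h.left ≫ pullback.fst G.hom t) (by
      show (h.left ≫ _) ≫ _ = pullback.fst X.hom t ≫ X.hom
      rw [Category.assoc, pullback.condition, pullback.condition, ← Category.assoc]
      exact congrArg (· ≫ t) (Over.w h))
    refine congrArg (fun c : T' ⟶ G => c.left) (hom_ext_index eG c1 c2 fun q => ?_)
    show index eG (pullback.fst G.hom t (((Over.pullback t).map a).left q)) = gη q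
    rw [hmap, ha]
    show gη (p (fX q)) = gη q
    refine hgη.apply_eq_of_isPreconnected (s := closure {p (fX q)})
      (isIrreducible_singleton.closure).isPreirreducible.isPreconnected (subset_closure rfl) ?_
    rw [← specializes_iff_mem_closure, ← hfX.isInducing.specializes_iff, hp]
    exact hmxw _

end Groth.Agent.Const38
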