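import Groth.Agent.RedPts82.DSHomLoc
import Groth.Agent.RedPts82.DSImage
import Groth.Agent.Const38.Restrict
import Groth.Prelude.Def_AutFam

/-! Families of homomorphisms of diagonalisable groups are parametrised by a constant scheme. -/

set_option autoImplicit false
set_option linter.style.haveILetI false
universe u

open CategoryTheory CategoryTheory.Limits MonoidalCategory CartesianMonoidalCategory MonObj AlgebraicGeometry

namespace Groth.Agent.Const38

open Groth.Agent.RedPts82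

variable {S : Scheme.{u}} {M N : Type} [AddCommGroup M] [AddCommGroup N]

theorem isMonHom_DSmap (φ : N →+ M) : IsMonHom (Red.DSmap S φ) :=
  isMonHom_of_points _ fun X x y => dsFn_injective fun n => by
    rw [dsFn_DSmap, dsFn_mul, dsFn_mul, dsFn_DSmap, dsFn_DSmap]

/-- Addition of homomorphisms of character groups is multiplication of homomorphisms. -/
theorem comp_DSmap_add {X : Over S} (h : X ⟶ Red.DS S M) (φ ψ : N →+ M) :
    (h ≫ Red.DSmap S φ) * (h ≫ Red.DSmap S ψ) = h ≫ Red.DSmap S (φ + ψ) :=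
  dsFn_injective fun n => by
    rw [dsFn_mul, dsFn_DSmap, dsFn_DSmap, dsFn_DSmap, AddMonoidHom.add_apply, dsFn_add]

/-- A homomorphism of character groups is determined by its effect on points over a nonempty scheme. -/
theorem eq_of_DSmap_eq (T : Over S) [Nonempty ↥T.left] (φ ψ : N →+ M)
    (h : ∀ (X : Over S) (_ : X ⟶ T) (t : X ⟶ Red.DS S M), t ≫ Red.DSmap S φ = t ≫ Red.DSmap S ψ) :
    φ = ψ := by
  obtain ⟨x⟩ := (inferInstance : Nonempty ↥T.left)
  obtain ⟨V, hV, hxV, -⟩ := exists_isAffineOpen_mem_and_subset (U := (⊤ : T.left.Opens)) (x := x) trivial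
  let Y : Over S := Over.mk (V.ι ≫ T.hom)
  have : IsAffine Y.left := hV
  have : Nonempty ↥(Y.left) := ⟨⟨x, hxV⟩⟩
  have : Nonempty ↥((⊤ : Y.left.Opens) : Scheme.{u}) := ⟨⟨⟨x, hxV⟩, trivial⟩⟩
  have : Nontrivial (Gam Y) := Scheme.component_nontrivial Y.left ⊤
  ext n
  have h1 := congrArg (fun t => dsFn t n) (h (polyDS Y M) (polyProj Y M ≫ Over.homMk V.ι rfl) (polyTu Y M))
  simp only [dsFn_DSmap, dsFn_polyTu] at h1
  rcases MonoidAlgebra.single_inj.mp ((polyCoord_bijective Y M).1 h1) with ⟨h2, -⟩ | ⟨h2, -⟩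
  · exact Multiplicative.ofAdd.injective h2
  · exact absurd h2 one_ne_zero

/-- A family of homomorphisms of diagonalisable groups is, near each point of the parameter, given by a
homomorphism of character groups. -/
theorem exists_nhd_fam (hN : AddGroup.FG N) {T : Over S} (φ : Red.DS S M ⊗ T ⟶ Red.DS S N)
    (hφ : AutFam.IsHomFamily (Red.DS S M) (Red.DS S N) φ) (x : T.left) :
    ∃ (D : T.left.Opens) (ψ : N →+ M), x ∈ D ∧ ∀ (X : Over S) (t : X ⟶ T), (∀ p, t.left p ∈ D) →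
      ∀ h : X ⟶ Red.DS S M, lift h t ≫ φ = h ≫ Red.DSmap S ψ := by
  obtain ⟨V, hV, hxV, -⟩ := exists_isAffineOpen_mem_and_subset (U := (⊤ : T.left.Opens)) (x := x) trivial
  have : IsAffine (V : Scheme.{u}) := hV
  let W : Scheme.{u} := (V : Scheme.{u})
  let v : W ⟶ S := V.ι ≫ T.hom
  let X0 : Over S := (Over.map v).obj (Red.DS W M)
  obtain ⟨h0, hh0⟩ := dsFn_surjective (S := S) (M := M) (X := X0)
    { toFun := fun m => dsFn (S := W) (X := Red.DS W M) (𝟙 (Red.DS W M)) (Multiplicative.toAdd m)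
      map_one' := dsFn_zero _
      map_mul' := fun a b => dsFn_add _ _ _ }
  let par : ∀ X : Over W, (Over.map v).obj X ⟶ T := fun X =>
    Over.homMk (X.hom ≫ V.ι) (Category.assoc _ _ _)
  let p0 : X0 ⟶ Red.DS S N := lift h0 (par _) ≫ φ
  obtain ⟨q, hq⟩ := dsFn_surjective (S := W) (M := N) (X := Red.DS W M)
    { toFun := fun n => dsFn (S := S) (X := X0) p0 (Multiplicative.toAdd n)
      map_one' := dsFn_zero _
      map_mul' := fun a b => dsFn_add _ _ _ }
  have key : ∀ (X : Over W) (t : X ⟶ Red.DS W M) (h : (Over.map v).obj X ⟶ Red.DS S M)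
      (_ : ∀ m, dsFn h m = dsFn t m) (n : N),
      dsFn (t ≫ q) n = dsFn (lift h (par X) ≫ φ) n := by
    intro X t h hh n
    have e1 : (Over.map v).map t ≫ h0 = h := dsFn_injective fun m => by
      rw [dsFn_comp, hh0, hh]
      have e := dsFn_comp (S := W) t (𝟙 (Red.DS W M)) m
      rw [Category.comp_id] at e
      exact e.symm
    have e2 : (Over.map v).map t ≫ par (Red.DS W M) = par X := Over.OverMorphism.ext (by
      show t.left ≫ (Red.DS W M).hom ≫ V.ι = X.hom ≫ V.ι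
      rw [← Category.assoc, Over.w t])
    rw [dsFn_comp, hq, ← e1, ← e2, ← comp_lift, Category.assoc, dsFn_comp]
    rfl
  have hpt : ∀ (X : Over W) (t : X ⟶ Red.DS W M), ∃ h : (Over.map v).obj X ⟶ Red.DS S M,
      ∀ m, dsFn h m = dsFn t m := fun X t => by
    obtain ⟨h, hh⟩ := dsFn_surjective (S := S) (M := M) (X := (Over.map v).obj X)
      { toFun := fun m => dsFn (S := W) (X := X) t (Multiplicative.toAdd m)
        map_one' := dsFn_zero _
        map_mul' := fun a b => dsFn_add _ _ _ }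
    exact ⟨h, fun m => hh m⟩
  have : IsMonHom q := isMonHom_of_points _ fun X a b => dsFn_injective fun n => by
    obtain ⟨ha, hha⟩ := hpt X a
    obtain ⟨hb, hhb⟩ := hpt X b
    rw [dsFn_mul, key X (a * b) (ha * hb) (fun m => by rw [dsFn_mul, dsFn_mul, hha, hhb]),
      key X a ha hha, key X b hb hhb, hφ, dsFn_mul]
  obtain ⟨D, ψ, hxD, hD⟩ := exists_ds_hom_loc hN q (⟨x, hxV⟩ : W)
  refine ⟨V.ι ''ᵁ D, ψ, ⟨⟨x, hxV⟩, hxD, rfl⟩, fun X t ht h => dsFn_injective fun n => ?_⟩
  have hr : Set.range t.left ⊆ Set.range V.ι := by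
    rintro _ ⟨p, rfl⟩
    obtain ⟨y, -, hy⟩ := ht p
    exact ⟨y, hy⟩
  let l := IsOpenImmersion.lift V.ι t.left hr
  have hl : l ≫ V.ι = t.left := IsOpenImmersion.lift_fac _ _ _
  let X' : Over W := Over.mk l
  let e : (Over.map v).obj X' ⟶ X := Over.homMk (𝟙 X.left) (by
    show 𝟙 _ ≫ X.hom = l ≫ V.ι ≫ T.hom
    rw [Category.id_comp, ← Category.assoc, hl, Over.w t])
  have he : ∀ {K : Type} [AddCommGroup K] (z : X ⟶ Red.DS S K) (k : K), dsFn (e ≫ z) k = dsFn z k := by
    intro K _ z k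
    rw [dsFn_comp]
    show (Scheme.Hom.appTop (𝟙 X.left)) (dsFn z k) = dsFn z k
    simp
  obtain ⟨t', ht'⟩ := dsFn_surjective (S := W) (M := M) (X := X')
    { toFun := fun m => dsFn (S := S) (X := X) h (Multiplicative.toAdd m)
      map_one' := dsFn_zero _
      map_mul' := fun a b => dsFn_add _ _ _ }
  have hD' := congrArg (fun z => dsFn z n) (hD X' (fun p => by
    obtain ⟨y, hy, hy'⟩ := ht p
    have : l p = y := V.ι.isOpenEmbedding.injective (by
      rw [← Scheme.Hom.comp_apply, hl]; exact hy'.symm)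
    show l p ∈ D
    rw [this]; exact hy) t')
  simp only [dsFn_DSmap] at hD'
  rw [key X' t' (e ≫ h) (fun m => (he h m).trans (ht' m).symm)] at hD'
  rw [show par X' = e ≫ t from Over.OverMorphism.ext (hl.trans (Category.id_comp _).symm),
    ← comp_lift, Category.assoc, he] at hD'
  rw [hD', dsFn_DSmap]
  exact ht' _

/-- Families of homomorphisms between diagonalisable groups, the target of finite type, are parametrised by
the constant scheme of homomorphisms of character groups. -/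
theorem exists_ds_rep (hN : AddGroup.FG N) {I : Type u} (ψ : I ≃ (N →+ M)) :
    ∃ υ : Red.DS S M ⊗ TwC.const S I ⟶ Red.DS S N, AutFam.IsHomFamily (Red.DS S M) (Red.DS S N) υ ∧
      (∀ (X : Over S) (h : X ⟶ Red.DS S M) (t : X ⟶ TwC.const S I) (i : I),
        (∀ p, index (Iso.refl (TwC.const S I)) (t.left p) = i) → lift h t ≫ υ = h ≫ Red.DSmap S (ψ i)) ∧
      ∀ (T : Over S) (φ : Red.DS S M ⊗ T ⟶ Red.DS S N), AutFam.IsHomFamily (Red.DS S M) (Red.DS S N) φ →
        ∃! a : T ⟶ TwC.const S I, (Red.DS S M ◁ a) ≫ υ = φ := by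
  let C := TwC.const S I
  let ix : C.left → I := index (Iso.refl C)
  have hix : IsLocallyConstant ix := isLocallyConstant_index _
  have hcov : ∀ {X : Over S} (t : X ⟶ C) {P : Over S} (a b : X ⟶ P), (∀ (i : I) (Y : Over S) (c : Y ⟶ X),
      (∀ p, ix ((c ≫ t).left p) = i) → c ≫ a = c ≫ b) → a = b := by
    intro X t P a b hab
    let U : I → X.left.Opens := fun i =>
      ⟨(fun p => ix (t.left p)) ⁻¹' {i}, (hix.comp_continuous t.left.continuous).isOpen_fiber i⟩
    refine Over.OverMorphism.ext ((Scheme.openCoverOfIsOpenCover X.left U (TopologicalSpace.IsOpenCover.mk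
      (top_le_iff.1 fun p _ => TopologicalSpace.Opens.mem_iSup.2 ⟨_, rfl⟩))).hom_ext _ _ fun i => ?_)
    exact congrArg (fun g : Over.mk ((U i).ι ≫ X.hom) ⟶ P => g.left)
      (hab i (Over.mk ((U i).ι ≫ X.hom)) (Over.homMk (U i).ι rfl) fun p => p.2)
  -- the universal family, glued over the components
  let X0 : Over S := Red.DS S M ⊗ C
  let U0 : I → X0.left.Opens := fun i =>
    ⟨(fun p => ix ((snd (Red.DS S M) C).left p)) ⁻¹' {i},
      (hix.comp_continuous (snd (Red.DS S M) C).left.continuous).isOpen_fiber i⟩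
  have hdisj : Pairwise (Function.onFun Disjoint fun i => (U0 i).ι.opensRange) := fun i j hij => by
    simp only [Function.onFun, Scheme.Opens.opensRange_ι]
    rw [disjoint_iff]
    exact TopologicalSpace.Opens.ext (Set.eq_empty_of_forall_notMem fun p hp => hij (hp.1.symm.trans hp.2))
  obtain ⟨hc⟩ := nonempty_isColimit_cofanMk_of (fun i => (U0 i).ι)
    (top_le_iff.1 fun p _ => TopologicalSpace.Opens.mem_iSup.2
      ⟨ix ((snd (Red.DS S M) C).left p), by rw [Scheme.Opens.opensRange_ι]; exact rfl⟩) hdisj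
  let j0 : ∀ i, Over.mk ((U0 i).ι ≫ X0.hom) ⟶ X0 := fun i => Over.homMk (U0 i).ι rfl
  let υl : X0.left ⟶ (Red.DS S N).left :=
    Cofan.IsColimit.desc hc fun i => (j0 i ≫ fst _ _ ≫ Red.DSmap S (ψ i)).left
  have hυl : ∀ i, (U0 i).ι ≫ υl = (j0 i ≫ fst _ _ ≫ Red.DSmap S (ψ i)).left := fun i =>
    Cofan.IsColimit.fac hc _ i
  let υ : X0 ⟶ Red.DS S N := Over.homMk υl (Cofan.IsColimit.hom_ext hc _ _ fun i => by
    show (U0 i).ι ≫ υl ≫ (Red.DS S N).hom = (U0 i).ι ≫ X0.hom
    rw [← Category.assoc, hυl, Over.w]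
    rfl)
  have hυ : ∀ (X : Over S) (h : X ⟶ Red.DS S M) (t : X ⟶ C) (i : I),
      (∀ p, ix (t.left p) = i) → lift h t ≫ υ = h ≫ Red.DSmap S (ψ i) := by
    intro X h t i hi
    have hr : Set.range (lift h t).left ⊆ Set.range (U0 i).ι := by
      rintro _ ⟨p, rfl⟩
      rw [Scheme.Opens.range_ι]
      show ix ((snd (Red.DS S M) C).left ((lift h t).left p)) = i
      rw [← Scheme.Hom.comp_apply, ← Over.comp_left, lift_snd]
      exact hi p
    let r : X ⟶ Over.mk ((U0 i).ι ≫ X0.hom) := Over.homMk (IsOpenImmersion.lift (U0 i).ι (lift h t).left hr) (by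
      show _ ≫ (U0 i).ι ≫ X0.hom = X.hom
      rw [← Category.assoc, IsOpenImmersion.lift_fac, Over.w])
    have e : r ≫ j0 i = lift h t := Over.OverMorphism.ext (IsOpenImmersion.lift_fac _ _ hr)
    have e' : j0 i ≫ υ = j0 i ≫ fst _ _ ≫ Red.DSmap S (ψ i) := Over.OverMorphism.ext (hυl i)
    rw [← e, Category.assoc, e', ← Category.assoc, e, lift_fst_assoc]
  have hfam : AutFam.IsHomFamily (Red.DS S M) (Red.DS S N) υ := fun X g₁ g₂ t => by
    refine hcov t _ _ fun i Y c hc => ?_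
    rw [MonObj.comp_mul, comp_lift_assoc, comp_lift_assoc, comp_lift_assoc, MonObj.comp_mul,
      hυ _ _ _ i hc, hυ _ _ _ i hc, hυ _ _ _ i hc]
    exact dsFn_injective fun n => by rw [dsFn_DSmap, dsFn_mul, dsFn_mul, dsFn_DSmap, dsFn_DSmap]
  refine ⟨υ, hfam, hυ, fun T φ hφ => ?_⟩
  choose D ξ hxD hD using exists_nhd_fam hN φ hφ
  -- the homomorphism at a point is unique
  have huni : ∀ (p : T.left) (Dp : T.left.Opens) (χ : N →+ M), p ∈ Dp →
      (∀ (X : Over S) (t : X ⟶ T), (∀ q, t.left q ∈ Dp) → ∀ h : X ⟶ Red.DS S M,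
        lift h t ≫ φ = h ≫ Red.DSmap S χ) → χ = ξ p := by
    intro p Dp χ hp hDp
    let O : T.left.Opens := Dp ⊓ D p
    have : Nonempty ↥(Over.mk (O.ι ≫ T.hom)).left := ⟨⟨p, hp, hxD p⟩⟩
    refine eq_of_DSmap_eq (Over.mk (O.ι ≫ T.hom)) _ _ fun X t h => ?_
    let io : Over.mk (O.ι ≫ T.hom) ⟶ T := Over.homMk O.ι rfl
    rw [← hDp X (t ≫ io) (fun q => (t.left q).2.1) h, hD p X (t ≫ io) (fun q => (t.left q).2.2) h]
  have hloc : IsLocallyConstant fun p => ψ.symm (ξ p) := by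
    refine (IsLocallyConstant.iff_exists_open _).2 fun p => ⟨D p, (D p).2, hxD p, fun p' hp' => ?_⟩
    exact congrArg ψ.symm (huni p' (D p) (ξ p) hp' (hD p)).symm
  obtain ⟨a, ha⟩ := exists_hom_of_index (Iso.refl C) T _ hloc
  refine ⟨a, ?_, fun b hb => hom_ext_index (Iso.refl C) b a fun p => ?_⟩
  · show (Red.DS S M ◁ a) ≫ υ = φ
    refine Over.OverMorphism.ext ((Scheme.openCoverOfIsOpenCover (Red.DS S M ⊗ T).left
      (fun p => (snd (Red.DS S M) T).left ⁻¹ᵁ D p) (TopologicalSpace.IsOpenCover.mk (top_le_iff.1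
        fun q _ => TopologicalSpace.Opens.mem_iSup.2 ⟨(snd (Red.DS S M) T).left q, hxD _⟩))).hom_ext _ _
      fun p => ?_)
    let O := (snd (Red.DS S M) T).left ⁻¹ᵁ D p
    let c : Over.mk (O.ι ≫ (Red.DS S M ⊗ T).hom) ⟶ Red.DS S M ⊗ T := Over.homMk O.ι rfl
    have hc : ∀ q, (c ≫ snd _ _).left q ∈ D p := fun q => q.2
    refine congrArg (fun g : Over.mk (O.ι ≫ (Red.DS S M ⊗ T).hom) ⟶ Red.DS S N => g.left)
      (show c ≫ (Red.DS S M ◁ a) ≫ υ = c ≫ φ from ?_)
    have e : c = lift (c ≫ fst _ _) (c ≫ snd _ _) := (lift_comp_fst_snd c).symm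
    rw [e, lift_whiskerLeft_assoc, hD p _ _ hc, hυ _ _ _ (ψ.symm (ξ p)), Equiv.apply_symm_apply]
    intro q
    show ix (a.left ((c ≫ snd _ _).left q)) = _
    exact (ha _).trans (congrArg ψ.symm (huni _ (D p) (ξ p) (hc q) (hD p)).symm)
  · rw [ha]
    show ix (b.left p) = ψ.symm (ξ p)
    refine ψ.eq_symm_apply.2 (huni p (b.left ⁻¹ᵁ ⟨ix ⁻¹' {ix (b.left p)}, hix.isOpen_fiber _⟩) _ rfl
      fun X t ht h => ?_)
    rw [← hb, lift_whiskerLeft_assoc]
    exact hυ X h (t ≫ b) _ ht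

/-- Addition of homomorphisms of character groups is multiplication of universal points. -/
theorem fam_pt_mul {I : Type u} (ψ : I ≃ (N →+ M)) {υ : Red.DS S M ⊗ TwC.const S I ⟶ Red.DS S N}
    (hυ : ∀ (X : Over S) (h : X ⟶ Red.DS S M) (t : X ⟶ TwC.const S I) (i : I),
      (∀ p, index (Iso.refl (TwC.const S I)) (t.left p) = i) → lift h t ≫ υ = h ≫ Red.DSmap S (ψ i))
    {X : Over S} (h : X ⟶ Red.DS S M) (i j : I) :
    (lift h (toUnit X ≫ TwC.pt S I i) ≫ υ) * (lift h (toUnit X ≫ TwC.pt S I j) ≫ υ) =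
      lift h (toUnit X ≫ TwC.pt S I (ψ.symm (ψ i + ψ j))) ≫ υ := by
  have key : ∀ k : I, lift h (toUnit X ≫ TwC.pt S I k) ≫ υ = h ≫ Red.DSmap S (ψ k) := fun k => by
    refine hυ _ _ _ k fun p => index_eq (Iso.refl _) (s := (toUnit X).left p) ?_
    rfl
  rw [key, key, key, Equiv.apply_symm_apply, comp_DSmap_add]

end Groth.Agent.Const38
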