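import Groth.Agent.Const38.HomRep
import Groth.Agent.RedPts82.SplitSub
import Mathlib.CategoryTheory.Monoidal.Cartesian.Grp

/-! The Cartier dual of a quasi-isotrivial group of multiplicative type. -/

set_option autoImplicit false
set_option linter.style.haveILetI false
universe u

open CategoryTheory CategoryTheory.Limits MonoidalCategory CartesianMonoidalCategory MonObj AlgebraicGeometry
open Opposite

namespace Groth.Agent.Const38

open Groth.Agent.RedPts82

variable {S : Scheme.{u}} (H G : Over S) [GrpObj H] [GrpObj G]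
  (hcomm : ∀ (X : Over S) (a b : X ⟶ G), a * b = b * a)

/-- Families of homomorphisms to a commutative group form a group. -/
noncomputable def famGrp (T : Over S) : Subgroup (H ⊗ T ⟶ G) where
  carrier := {φ | AutFam.IsHomFamily H G φ}
  one_mem' := fun X g₁ g₂ t => by
    simp only [MonObj.comp_one, _root_.mul_one]
  mul_mem' := fun {φ ψ} hφ hψ X g₁ g₂ t => by
    simp only [MonObj.comp_mul]
    rw [hφ, hψ, _root_.mul_assoc, _root_.mul_assoc, ← _root_.mul_assoc (lift g₂ t ≫ φ),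
      hcomm X (lift g₂ t ≫ φ) (lift g₁ t ≫ ψ), _root_.mul_assoc]
  inv_mem' := fun {φ} hφ X g₁ g₂ t => by
    simp only [GrpObj.comp_inv]
    rw [hφ, mul_inv_rev, hcomm]

/-- The presheaf of groups of families of homomorphisms. -/
noncomputable def famFunctor : (Over S)ᵒᵖ ⥤ GrpCat.{u} where
  obj T := GrpCat.of (famGrp H G hcomm T.unop)
  map {T T'} f := GrpCat.ofHom
    { toFun := fun φ => ⟨(H ◁ f.unop) ≫ φ.1, isHomFamily_precomp H G f.unop φ.2⟩
      map_one' := Subtype.ext (MonObj.comp_one _)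
      map_mul' := fun φ ψ => Subtype.ext (MonObj.comp_mul _ _ _) }
  map_id T := by
    apply ConcreteCategory.hom_ext
    intro φ
    refine Subtype.ext ?_
    show (H ◁ 𝟙 _) ≫ φ.1 = φ.1
    rw [MonoidalCategory.whiskerLeft_id, Category.id_comp]
  map_comp f f' := by
    apply ConcreteCategory.hom_ext
    intro φ
    refine Subtype.ext ?_
    show (H ◁ (f'.unop ≫ f.unop)) ≫ φ.1 = (H ◁ f'.unop) ≫ (H ◁ f.unop) ≫ φ.1
    rw [MonoidalCategory.whiskerLeft_comp, Category.assoc]

include hcomm in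
/-- A representing object for homomorphisms to a commutative group is a group for the pointwise product. -/
theorem exists_grpObj {D : Over S} {υ : H ⊗ D ⟶ G} (hD : AutFam.RepresentsHom H G D υ) :
    ∃ (_ : GrpObj D), ∀ (X : Over S) (h : X ⟶ H) (a b : X ⟶ D),
      lift h (a * b) ≫ υ = (lift h a ≫ υ) * (lift h b ≫ υ) := by
  let α : (famFunctor H G hcomm ⋙ forget _).RepresentableBy D :=
    { homEquiv := fun {X} => Equiv.ofBijective
        (fun a => (⟨(H ◁ a) ≫ υ, isHomFamily_precomp H G a hD.1⟩ : famGrp H G hcomm X))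
        ⟨fun a b hab => (hD.2 X _ (isHomFamily_precomp H G b hD.1)).unique (congrArg Subtype.val hab) rfl,
          fun φ => (hD.2 X φ.1 φ.2).exists.imp fun a ha => Subtype.ext ha⟩
      homEquiv_comp := fun {X X'} f a => Subtype.ext (by
        show (H ◁ (f ≫ a)) ≫ υ = (H ◁ f) ≫ (H ◁ a) ≫ υ
        rw [MonoidalCategory.whiskerLeft_comp, Category.assoc]) }
  let i : GrpObj D := GrpObj.ofRepresentableBy D (famFunctor H G hcomm) α
  refine ⟨i, fun X h a b => ?_⟩
  have e : (H ◁ (a * b)) ≫ υ = ((H ◁ a) ≫ υ) * ((H ◁ b) ≫ υ) :=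
    congrArg Subtype.val (map_mul ((yonedaGrpObjIsoOfRepresentableBy D (famFunctor H G hcomm) α).hom.app (op X)).hom a b)
  have e' := congrArg (lift h (𝟙 X) ≫ ·) e
  simpa only [MonObj.comp_mul, lift_whiskerLeft_assoc, Category.id_comp] using e'

/-- The Cartier dual of a quasi-isotrivial group of multiplicative type is a twisted constant group. -/
theorem exists_dual {S : Scheme.{u}} (H : Over S) [GrpObj H]
    (hH : ∀ s : S, ∃ (S' : Scheme.{u}) (g : S' ⟶ S), Etale g ∧ s ∈ Set.range g ∧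
      ∃ (M : Type) (_ : AddCommGroup M), Nonempty (Grp.mk (Red.bc g H) ≅ Grp.mk (Red.DS S' M))) :
    ∃ (D : Over S) (_ : GrpObj D) (υ : H ⊗ D ⟶ Red.Gm S), AutFam.RepresentsHom H (Red.Gm S) D υ ∧
      (∀ (X : Over S) (h : X ⟶ H) (a b : X ⟶ D), lift h (a * b) ≫ υ = (lift h a ≫ υ) * (lift h b ≫ υ)) ∧
      TwC.IsTwConstGrp TwC.Topology.etale D := by
  obtain ⟨D, υ, hD, hloc⟩ := exists_hom_rep H (Red.Gm S) fun s => by
    obtain ⟨S', g, hg, hs, M, iM, hM⟩ := hH s
    exact ⟨S', g, hg, hs, M, ℤ, iM, inferInstance, inferInstance, hM, grpIso_bc_DS g ℤ⟩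
  obtain ⟨iD, hmul⟩ := exists_grpObj H (Red.Gm S) (fun X a b => gm_comm a b) hD
  refine ⟨D, iD, υ, hD, hmul, fun s => ?_⟩
  obtain ⟨S', g, hg, hs, M, N, iM, iN, eH, eG, e, he⟩ := hloc s
  refine ⟨S', g, hg, hs, Multiplicative (ULift.{u} (N →+ M)), inferInstance, e, fun m n => toBase_injective g ?_⟩
  rw [toBase_mul]
  let Z := (Over.map g).obj (𝟙_ (Over S'))
  refine (hD.2 Z _ (isHomFamily_precomp H (Red.Gm S) _ hD.1)).unique ?_ rfl
  -- test on the universal point
  let Y : Over S' := Over.mk ((snd H Z).left ≫ (𝟙_ (Over S')).hom)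
  let c : (Over.map g).obj Y ⟶ H ⊗ Z := Over.homMk (𝟙 _) (by
    show 𝟙 _ ≫ (H ⊗ Z).hom = ((snd H Z).left ≫ (𝟙_ (Over S')).hom) ≫ g
    rw [Category.id_comp, Category.assoc]
    exact (Over.w (snd H Z)).symm)
  have : IsIso c := by
    have : IsIso ((Over.forget S).map c) := inferInstanceAs (IsIso (𝟙 (H ⊗ Z).left))
    exact isIso_of_reflects_iso c (Over.forget S)
  let t : Y ⟶ 𝟙_ (Over S') := Over.homMk (snd H Z).left rfl
  have hc : ∀ x : 𝟙_ (Over S') ⟶ Red.bc g D,
      c ≫ (H ◁ toBase g x) ≫ υ = lift (c ≫ fst _ _) (toBase g (toUnit Y ≫ x)) ≫ υ := by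
    intro x
    have e1 : c ≫ snd H Z = (Over.map g).map t := Over.OverMorphism.ext (Category.id_comp _)
    rw [show toUnit Y = t from toUnit_unique _ _, toBase_comp, ← e1, Category.assoc, ← Category.assoc c]
    congr 1
  let h : Y ⟶ Red.DS S' M := ofBase g (c ≫ fst _ _) ≫ eH.hom.hom.hom
  have hh : toBase g (h ≫ eH.inv.hom.hom) = c ≫ fst _ _ := by
    have e2 : eH.hom.hom.hom ≫ eH.inv.hom.hom = 𝟙 _ := congrArg (fun k => k.hom.hom) eH.hom_inv_id
    simp only [h, Category.assoc, e2, Category.comp_id, toBase_ofBase]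
  rw [← cancel_epi c, ← toBase_mul, hc, hc, MonObj.comp_mul, toBase_mul, hmul, ← hh]
  have he' : ∀ i : Multiplicative (ULift.{u} (N →+ M)),
      lift (toBase g (h ≫ eH.inv.hom.hom)) (toBase g (toUnit Y ≫ TwC.pt S' (Multiplicative (ULift.{u} (N →+ M))) i ≫ e.inv)) ≫ υ =
        toBase g (h ≫ Red.DSmap S' (Multiplicative.toAdd i).down ≫ eG.inv.hom.hom) := fun i => he Y h i
  rw [he' m, he' n, ← toBase_mul, ← Category.assoc, ← Category.assoc, ← MonObj.mul_comp, comp_DSmap_add,
    Category.assoc]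
  exact (he' (m * n)).symm

end Groth.Agent.Const38
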