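import Groth.Agent.Const38.Index

/-! The projection of an extension by a constant group is étale and surjective. -/

set_option autoImplicit false
universe u

open CategoryTheory CategoryTheory.Limits MonoidalCategory CartesianMonoidalCategory MonObj AlgebraicGeometry

namespace Groth.Agent.Const38

variable {S : Scheme.{u}} {P E G : Over S}

/-- A morphism which fppf-locally on the target is a base change of an étale `G → S` is étale and surjective. -/
theorem etale_of_exact [GrpObj P] [GrpObj E] [GrpObj G] {u : G ⟶ E} {v : E ⟶ P}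
    (hex : NonAbH1.IsExactSeq Scheme.fppfPrecoverage u v) [Etale G.hom] : Etale v.left ∧ Surjective v.left := by
  obtain ⟨R, hR, hsec⟩ := hex.2.2.2.2
  have hR' := hR
  change R ∈ Scheme.fppfPrecoverage P.left at hR'
  rw [Scheme.fppfPrecoverage_eq_inf] at hR'
  obtain ⟨hflat, hlfp⟩ := hR'
  have hcov : ∀ x : P.left, ∃ (W : Scheme.{u}) (f : W ⟶ P.left), R f ∧ x ∈ Set.range f := by
    intro x
    obtain ⟨W, f, hf, hx⟩ := Types.mem_jointlySurjectivePrecoverage_iff.1 hflat.1 x
    obtain ⟨hf⟩ := hf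
    exact ⟨_, _, hf, hx⟩
  choose W f hRf hx using hcov
  choose s hs using fun x => hsec (f x) (hRf x)
  let b : ∐ W ⟶ P.left := Sigma.desc f
  let t : ∐ W ⟶ E.left := Sigma.desc s
  have htb : t ≫ v.left = b := by
    refine Sigma.hom_ext _ _ fun x => ?_
    simp only [b, t, Sigma.ι_desc_assoc, Sigma.ι_desc]
    exact hs x
  have hb1 : Surjective b := ⟨fun x => by
    obtain ⟨w, hw⟩ := hx x
    exact ⟨Sigma.ι W x w, by rw [← Scheme.Hom.comp_apply, Sigma.ι_desc, hw]⟩⟩
  have hb2 : Flat b := IsZariskiLocalAtSource.sigmaDesc fun x => hflat.2 (hRf x)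
  have hb3 : LocallyOfFinitePresentation b := IsZariskiLocalAtSource.sigmaDesc fun x => hlfp.2 (hRf x)
  let T : Over S := Over.mk (b ≫ P.hom)
  let tT : T ⟶ E := Over.homMk t (by show t ≫ E.hom = b ≫ P.hom; rw [← Over.w v, reassoc_of% htb])
  let bT : T ⟶ P := Over.homMk b rfl
  have hbT : tT ≫ v = bT := Over.OverMorphism.ext htb
  have h1 : IsPullback (tT ▷ G) (fst T G) (fst E G) tT :=
    ⟨⟨by simp⟩, ⟨PullbackCone.IsLimit.mk _ (fun c => lift c.snd (c.fst ≫ snd E G))
      (fun c => by ext <;> simp [c.condition])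
      (fun c => by simp)
      (fun c m e1 e2 => by
        refine CartesianMonoidalCategory.hom_ext _ _ ?_ ?_
        · simpa using e2
        · simpa using congrArg (· ≫ snd E G) e1)⟩⟩
  have h2 := IsPullback.paste_horiz h1 hex.2.2.2.1.flip
  rw [hbT] at h2
  have h3 : IsPullback (((tT ▷ G) ≫ (E ◁ u) ≫ μ[E]).left) (fst T G).left v.left bT.left :=
    h2.map (Over.forget S)
  have h4 : Etale (fst T G).left := MorphismProperty.pullback_fst (P := @Etale) T.hom G.hom inferInstance
  have he : Etale v.left :=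
    MorphismProperty.of_isPullback_of_descendsAlong
      (Q := @Surjective ⊓ @Flat ⊓ @LocallyOfFinitePresentation) h3.flip ⟨⟨hb1, hb2⟩, hb3⟩ h4
  exact ⟨he, ⟨fun x => by
    obtain ⟨w, hw⟩ := hb1.surj x
    exact ⟨t w, by rw [← Scheme.Hom.comp_apply, htb, hw]⟩⟩⟩

theorem etale_const {S : Scheme.{u}} {Z : Type u} {G : Over S} (eG : G ≅ TwC.const S Z) : Etale G.hom := by
  rw [← Over.w eG.hom]
  have : Etale (TwC.const S Z).hom :=
    IsZariskiLocalAtSource.sigmaDesc (P := @Etale) fun _ => (inferInstance : Etale (𝟙 S))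
  infer_instance

end Groth.Agent.Const38
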