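import Groth.Agent.Const38.CentralLift
import Groth.Agent.RedPts82.MultHopf
import Groth.Agent.RedPts82.Comm
import Groth.Agent.SGA3b53.QuasiIso
import Groth.Agent.SGA3b53.FPres
import Groth.Agent.SGA3b53.DensityApply
import Groth.Agent.SGA3b53.FlatLift
import Groth.Agent.S2979

/-!
Finite étale groups of multiplicative type lift along locally nilpotent ideals; so do central subgroups of this
kind in flat groups.
-/

set_option autoImplicit false
set_option backward.isDefEq.respectTransparency.types false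
set_option linter.style.haveILetI false
universe u

open CategoryTheory MonoidalCategory CartesianMonoidalCategory MonObj GrpObj AlgebraicGeometry
open CategoryTheory.Limits
open scoped TensorProduct

noncomputable section

namespace Groth.Agent.Const38.EGLift

open RedPts82

variable {R : Type u} [CommRing R]

/-- An algebra with group algebra after a cover, finite modulo a nil ideal, is finite. -/
theorem moduleFinite_of_mod_nil {A : Type u} [CommRing A] [HopfAlgebra R A] (J : Ideal R)
    (hJ : ∀ x ∈ J, IsNilpotent x) [Module.Finite (R ⧸ J) ((R ⧸ J) ⊗[R] A)] (hA : SGA3b.IsMultType R A) :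
    Module.Finite R A := by
  classical
  obtain ⟨ι', hι', T, _, _, hT, hd⟩ := SGA3b53.exists_finite_cover hA
  haveI := hι'
  -- finitely many elements generating modulo the ideal
  have hsurj : ∀ z : (R ⧸ J) ⊗[R] A, ∃ a : A, (1 : R ⧸ J) ⊗ₜ[R] a = z := fun z => by
    induction z using TensorProduct.induction_on with
    | zero => exact ⟨0, TensorProduct.tmul_zero _ _⟩
    | tmul x a =>
      obtain ⟨r, rfl⟩ := Ideal.Quotient.mk_surjective x
      refine ⟨r • a, ?_⟩
      rw [TensorProduct.tmul_smul, TensorProduct.smul_tmul', Algebra.smul_def, _root_.mul_one]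
      rfl
    | add x y hx hy =>
      obtain ⟨a, rfl⟩ := hx
      obtain ⟨b, rfl⟩ := hy
      exact ⟨a + b, TensorProduct.tmul_add _ _ _⟩
  obtain ⟨t, ht⟩ := (Module.Finite.fg_top : (⊤ : Submodule (R ⧸ J) ((R ⧸ J) ⊗[R] A)).FG)
  choose g hg using hsurj
  let N₀ : Submodule R A := Submodule.span R ((t.image g : Finset A) : Set A)
  have hN₀ : ∀ a : A, ∃ b ∈ N₀, a - b ∈ J • (⊤ : Submodule R A) := fun a => by
    have : ((1 : R ⧸ J) ⊗ₜ[R] a) ∈ Submodule.span (R ⧸ J) (t : Set ((R ⧸ J) ⊗[R] A)) := by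
      rw [ht]; trivial
    obtain ⟨c, -, hc⟩ := Submodule.mem_span_finset.mp this
    choose r hr using fun x => Ideal.Quotient.mk_surjective (c x)
    refine ⟨∑ x ∈ t, r x • g x, Submodule.sum_mem _ fun x hx => Submodule.smul_mem _ _
      (Submodule.subset_span (Finset.mem_coe.mpr (Finset.mem_image_of_mem g hx))), ?_⟩
    rw [← FlatCrit65.one_tmul_eq_zero_iff', TensorProduct.tmul_sub, TensorProduct.tmul_sum, sub_eq_zero, ← hc]
    refine Finset.sum_congr rfl fun x _ => ?_
    rw [TensorProduct.tmul_smul, hg, ← hr x]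
    exact (IsScalarTower.algebraMap_smul (R ⧸ J) (r x) x)
  -- each chart is finite
  have hfin : ∀ i, Module.Finite (T i) (T i ⊗[R] A) := fun i => by
    obtain ⟨M, _, ⟨ρ⟩⟩ := hd i
    rcases subsingleton_or_nontrivial (T i) with hs | hs
    · haveI := hs
      haveI : Subsingleton (T i ⊗[R] A) := Module.subsingleton (T i) _
      exact Module.Finite.of_finite
    obtain ⟨q⟩ := (inferInstance : Nonempty (PrimeSpectrum (T i)))
    let K := q.asIdeal.ResidueField
    let θ : MonoidAlgebra (T i) M →+* MonoidAlgebra K M := MonoidAlgebra.mapRingHom M (algebraMap (T i) K)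
    let ψ : A →+* MonoidAlgebra K M :=
      θ.comp ((ρ : T i ⊗[R] A ≃ₐ[T i] MonoidAlgebra (T i) M).toRingEquiv.toRingHom.comp
        (Algebra.TensorProduct.includeRight : A →ₐ[R] T i ⊗[R] A).toRingHom)
    have hψR : ∀ r : R, ψ (algebraMap R A r) = algebraMap K (MonoidAlgebra K M) (algebraMap (T i) K (algebraMap R (T i) r)) := by
      intro r
      simp only [ψ, RingHom.comp_apply, AlgHom.toRingHom_eq_coe, RingHom.coe_coe, AlgHom.commutes]
      rw [Algebra.TensorProduct.algebraMap_apply]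
      show θ (ρ (algebraMap (T i) (T i ⊗[R] A) (algebraMap R (T i) r))) = _
      erw [AlgEquiv.commutes (ρ : T i ⊗[R] A ≃ₐ[T i] MonoidAlgebra (T i) M)]
      simp [θ, MonoidAlgebra.coe_algebraMap, MonoidAlgebra.mapRingHom_single]
    have hJK : ∀ r ∈ J, algebraMap (T i) K (algebraMap R (T i) r) = 0 := fun r hr =>
      IsNilpotent.eq_zero ((hJ r hr).map ((algebraMap (T i) K).comp (algebraMap R (T i))))
    let S₀ : Submodule K (MonoidAlgebra K M) := Submodule.span K ((t.image g).image ψ : Finset (MonoidAlgebra K M))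
    have hψsmul : ∀ (r : R) (a : A), ψ (r • a) = algebraMap (T i) K (algebraMap R (T i) r) • ψ a := fun r a => by
      rw [Algebra.smul_def, map_mul, hψR, ← Algebra.smul_def]
    have hψmem : ∀ a : A, ψ a ∈ S₀ := fun a => by
      obtain ⟨b, hb, hab⟩ := hN₀ a
      have h1 : ψ b ∈ S₀ := by
        clear hab
        induction hb using Submodule.span_induction with
        | mem x hx => exact Submodule.subset_span (Finset.mem_coe.mpr (Finset.mem_image_of_mem ψ (Finset.mem_coe.mp hx)))
        | zero => rw [map_zero]; exact zero_mem _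
        | add x y _ _ hx hy => rw [map_add]; exact add_mem hx hy
        | smul r x _ hx => rw [hψsmul]; exact Submodule.smul_mem _ _ hx
      have h2 : ψ (a - b) = 0 := by
        refine Submodule.smul_induction_on hab (fun r hr x _ => ?_) fun x y hx hy => by rw [map_add, hx, hy, _root_.add_zero]
        rw [hψsmul, hJK r hr, zero_smul]
      rw [map_sub, sub_eq_zero] at h2
      rwa [h2]
    have hall : ∀ z : T i ⊗[R] A, θ (ρ z) ∈ S₀ := fun z => by
      induction z using TensorProduct.induction_on with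
      | zero => rw [map_zero, map_zero]; exact zero_mem _
      | tmul x a =>
        have hxa : x ⊗ₜ[R] a = algebraMap (T i) (T i ⊗[R] A) x * ((1 : T i) ⊗ₜ[R] a) := by
          rw [Algebra.TensorProduct.algebraMap_apply, Algebra.TensorProduct.tmul_mul_tmul, _root_.mul_one, _root_.one_mul]
          rfl
        rw [hxa, map_mul, map_mul]
        erw [AlgEquiv.commutes (ρ : T i ⊗[R] A ≃ₐ[T i] MonoidAlgebra (T i) M)]
        rw [show θ (algebraMap (T i) (MonoidAlgebra (T i) M) x) = algebraMap K (MonoidAlgebra K M) (algebraMap (T i) K x) by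
          simp [θ, MonoidAlgebra.coe_algebraMap, MonoidAlgebra.mapRingHom_single], ← Algebra.smul_def]
        exact Submodule.smul_mem _ _ (hψmem a)
      | add x y hx hy => rw [map_add, map_add]; exact add_mem hx hy
    have htop : S₀ = ⊤ := by
      rw [eq_top_iff]
      intro x _
      induction x using MonoidAlgebra.induction_on with
      | of m =>
        have := hall ((ρ : T i ⊗[R] A ≃ₐ[T i] MonoidAlgebra (T i) M).symm (MonoidAlgebra.of (T i) M m))
        rw [show ρ ((ρ : T i ⊗[R] A ≃ₐ[T i] MonoidAlgebra (T i) M).symm (MonoidAlgebra.of (T i) M m)) = MonoidAlgebra.of (T i) M m from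
          (ρ : T i ⊗[R] A ≃ₐ[T i] MonoidAlgebra (T i) M).apply_symm_apply _] at this
        simpa [θ, MonoidAlgebra.mapRingHom_single] using this
      | add a b ha hb => exact add_mem (ha trivial) (hb trivial)
      | smul c a ha => exact Submodule.smul_mem _ _ (ha trivial)
    haveI : Module.Finite K (MonoidAlgebra K M) := ⟨⟨_, htop⟩⟩
    haveI : Finite M := Module.Finite.finite_basis (MonoidAlgebra.basis M K)
    haveI : Module.Finite (T i) (MonoidAlgebra (T i) M) := Module.Finite.of_basis (MonoidAlgebra.basis M (T i))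
    exact Module.Finite.equiv (ρ : T i ⊗[R] A ≃ₐ[T i] MonoidAlgebra (T i) M).symm.toLinearEquiv
  -- descent
  have hex : ∀ i, ∃ u : Finset A, Submodule.span (T i) ((fun a => (1 : T i) ⊗ₜ[R] a) '' (u : Set A)) = ⊤ := fun i => by
    haveI := hfin i
    have hspan : Submodule.span (T i) (Set.range fun a : A => (1 : T i) ⊗ₜ[R] a) = ⊤ := by
      rw [eq_top_iff]
      intro z _
      induction z using TensorProduct.induction_on with
      | zero => exact zero_mem _
      | tmul x a =>
        have : x ⊗ₜ[R] a = x • ((1 : T i) ⊗ₜ[R] a) := by rw [TensorProduct.smul_tmul', smul_eq_mul, _root_.mul_one]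
        rw [this]
        exact Submodule.smul_mem _ _ (Submodule.subset_span ⟨a, rfl⟩)
      | add x y hx hy => exact add_mem (hx trivial) (hy trivial)
    have hfg : (Submodule.span (T i) (Set.range fun a : A => (1 : T i) ⊗ₜ[R] a)).FG := by
      rw [hspan]; exact Module.Finite.fg_top
    obtain ⟨v, hv, hveq⟩ := (Submodule.fg_span_iff_fg_span_finset_subset _).mp hfg
    obtain ⟨u, -, rfl⟩ := Finset.subset_set_image_iff.mp (show (v : Set (T i ⊗[R] A)) ⊆ (fun a : A => (1 : T i) ⊗ₜ[R] a) '' Set.univ by rw [Set.image_univ]; exact hv)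
    exact ⟨u, by rw [← hspan, hveq, Finset.coe_image]⟩
  choose u hu using hex
  haveI := Fintype.ofFinite ι'
  let N : Submodule R A := Submodule.span R ((Finset.univ.biUnion u : Finset A) : Set A)
  refine ⟨⟨Finset.univ.biUnion u, ?_⟩⟩
  show N = ⊤
  rw [eq_top_iff]
  intro a _
  by_contra ha
  let x : A ⧸ N := Submodule.Quotient.mk a
  let I : Ideal R := LinearMap.ker (LinearMap.toSpanSingleton R (A ⧸ N) x)
  have hI : I ≠ ⊤ := by
    rw [Ideal.ne_top_iff_one]
    intro h
    rw [LinearMap.mem_ker, LinearMap.toSpanSingleton_apply, one_smul, Submodule.Quotient.mk_eq_zero] at h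
    exact ha h
  obtain ⟨m, hm, hIm⟩ := Ideal.exists_le_maximal I hI
  obtain ⟨i, q, hq⟩ := hT.exists_lift ⟨m, hm.isPrime⟩
  haveI := hT.flat i
  let φ : R ⧸ I →ₗ[R] A ⧸ N := Submodule.liftQ I (LinearMap.toSpanSingleton R (A ⧸ N) x) le_rfl
  have hφ : Function.Injective φ := LinearMap.ker_eq_bot.mp (Submodule.ker_liftQ_eq_bot _ _ _ le_rfl)
  have hzero : ∀ z : T i ⊗[R] (A ⧸ N), z = 0 := by
    intro z
    obtain ⟨y, rfl⟩ := LinearMap.lTensor_surjective (T i) N.mkQ_surjective z
    let Q : T i ⊗[R] A →ₗ[T i] T i ⊗[R] (A ⧸ N) := N.mkQ.baseChange (T i)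
    have : Q y = 0 := by
      have hy : y ∈ Submodule.span (T i) ((fun a => (1 : T i) ⊗ₜ[R] a) '' (u i : Set A)) := by rw [hu i]; trivial
      induction hy using Submodule.span_induction with
      | mem w hw =>
        obtain ⟨b, hb, rfl⟩ := hw
        show (1 : T i) ⊗ₜ[R] N.mkQ b = 0
        rw [Submodule.mkQ_apply, (Submodule.Quotient.mk_eq_zero N).mpr (Submodule.subset_span
          (Finset.mem_coe.mpr (Finset.mem_biUnion.mpr ⟨i, Finset.mem_univ i, hb⟩))), TensorProduct.tmul_zero]
      | zero => exact map_zero _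
      | add v w _ _ hv hw => rw [map_add, hv, hw, _root_.add_zero]
      | smul c w _ hw => rw [map_smul, hw, smul_zero]
    exact this
  have h1 : (1 : T i) ⊗ₜ[R] (Submodule.Quotient.mk 1 : R ⧸ I) = 0 :=
    Module.Flat.lTensor_preserves_injective_linearMap (M := T i) φ hφ (by rw [map_zero]; exact hzero _)
  have h2 := congrArg (fun z => (Algebra.TensorProduct.lift (Algebra.ofId (T i) (T i ⧸ I.map (algebraMap R (T i))))
      (Ideal.Quotient.liftₐ I ((Algebra.ofId R (T i ⧸ I.map (algebraMap R (T i))))) fun r hr => by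
        rw [Algebra.ofId_apply, IsScalarTower.algebraMap_apply R (T i) (T i ⧸ I.map (algebraMap R (T i)))]
        exact Ideal.Quotient.eq_zero_iff_mem.mpr (Ideal.mem_map_of_mem _ hr)) (fun _ _ => Commute.all _ _)) z) h1
  simp only [map_zero] at h2
  rw [Algebra.TensorProduct.lift_tmul, map_one] at h2
  have h3 : (1 : T i ⧸ I.map (algebraMap R (T i))) = 0 := by
    rwa [show (Submodule.Quotient.mk 1 : R ⧸ I) = 1 from rfl, map_one, _root_.mul_one] at h2
  rw [← map_one (Ideal.Quotient.mk _), Ideal.Quotient.eq_zero_iff_mem] at h3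
  have h4 : I.map (algebraMap R (T i)) ≤ q.asIdeal := by
    rw [Ideal.map_le_iff_le_comap]
    have : q.asIdeal.comap (algebraMap R (T i)) = m := congrArg PrimeSpectrum.asIdeal hq
    rwa [this]
  exact q.isPrime.ne_top ((Ideal.eq_top_iff_one _).mpr (h4 h3))

variable (J : Ideal R) (hJ : ∀ x ∈ J, IsNilpotent x)

/-- The inclusion of the closed subscheme. -/
local notation "π₀" => Spec.map (CommRingCat.ofHom (Ideal.Quotient.mk J))

include hJ in
theorem surjective_mk : Surjective π₀ := ⟨fun x => by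
  have hx : x ∈ Set.range (PrimeSpectrum.comap (Ideal.Quotient.mk J)) := by
    rw [range_comap_of_surjective _ _ Ideal.Quotient.mk_surjective, Ideal.mk_ker]
    intro a ha
    obtain ⟨n, hn⟩ := hJ a ha
    exact x.isPrime.mem_of_pow_mem n (by rw [hn]; exact zero_mem _)
  exact hx⟩

include hJ in
set_option maxHeartbeats 1000000 in
/-- A group of multiplicative type which is finite and smooth modulo a nil ideal is finite and smooth. -/
theorem finite_smooth_of_bc {A : Type u} [CommRing A] [HopfAlgebra R A] (hA : SGA3b.IsMultType R A)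
    {H : Over (Spec (CommRingCat.of R))} [GrpObj H] (ψ : Hopf.sp R A ≅ H) [IsMonHom ψ.hom]
    (hf : IsFinite (Red.bc π₀ H).hom) (hs : Smooth (Red.bc π₀ H).hom) :
    IsFinite H.hom ∧ Smooth H.hom ∧ SGA3x.IsMultTypeFT H := by
  obtain ⟨ψ₀, -⟩ := Hopf.exists_coord_bc (R ⧸ J) ψ
  haveI : Module.Finite (R ⧸ J) ((R ⧸ J) ⊗[R] A) := by
    haveI : IsFinite (Spec.map (CommRingCat.ofHom (algebraMap (R ⧸ J) ((R ⧸ J) ⊗[R] A)))) := by
      rw [show Spec.map (CommRingCat.ofHom (algebraMap (R ⧸ J) ((R ⧸ J) ⊗[R] A))) =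
        ψ₀.hom.left ≫ (Red.bc π₀ H).hom from (Over.w ψ₀.hom).symm]
      exact MorphismProperty.RespectsIso.precomp @IsFinite ((Over.forget _).mapIso ψ₀).hom _ hf
    exact RingHom.finite_algebraMap.mp ((IsFinite.SpecMap_iff
      (f := CommRingCat.ofHom (algebraMap (R ⧸ J) ((R ⧸ J) ⊗[R] A)))).mp inferInstance)
  haveI : Module.Finite R A := moduleFinite_of_mod_nil J hJ hA
  haveI : Algebra.FiniteType R A := inferInstance
  have hw : H.hom = ψ.inv.left ≫ Spec.map (CommRingCat.ofHom (algebraMap R A)) := (Over.w ψ.inv).symm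
  have hfin : IsFinite H.hom := by
    rw [hw]
    exact MorphismProperty.RespectsIso.precomp @IsFinite ((Over.forget _).mapIso ψ).inv _
      ((IsFinite.SpecMap_iff (f := CommRingCat.ofHom (algebraMap R A))).mpr (RingHom.finite_algebraMap.mpr inferInstance))
  haveI : Flat H.hom := by
    rw [hw]
    refine MorphismProperty.RespectsIso.precomp @Flat ((Over.forget _).mapIso ψ).inv _ ?_
    show Flat (X := Spec (CommRingCat.of A)) (Spec.map (CommRingCat.ofHom (algebraMap R A)))
    rw [HasRingHomProperty.Spec_iff (P := @Flat)]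
    exact RingHom.flat_algebraMap_iff.mpr (SGA3b53.flat_of_isMultType_global hA)
  haveI : LocallyOfFinitePresentation H.hom := by
    rw [hw]
    refine MorphismProperty.RespectsIso.precomp @LocallyOfFinitePresentation ((Over.forget _).mapIso ψ).inv _ ?_
    show LocallyOfFinitePresentation (X := Spec (CommRingCat.of A)) (Spec.map (CommRingCat.ofHom (algebraMap R A)))
    rw [HasRingHomProperty.Spec_iff (P := @LocallyOfFinitePresentation)]
    exact RingHom.finitePresentation_algebraMap.mpr (SGA3b53.finitePresentation_of_isMultType inferInstance hA)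
  refine ⟨hfin, Smooth.of_smooth_fiberToSpecResidueField H.hom fun s => ?_, isMultTypeFT_of_isMultType ψ hA⟩
  obtain ⟨g, hg⟩ := Spec.map_surjective ((Spec (CommRingCat.of R)).fromSpecResidueField s)
  let gl : R ⧸ J →+* (Spec (CommRingCat.of R)).residueField s :=
    Ideal.Quotient.lift J g.hom fun x hx => ((hJ x hx).map g.hom).eq_zero
  let q : Spec ((Spec (CommRingCat.of R)).residueField s) ⟶ Spec (CommRingCat.of (R ⧸ J)) :=
    Spec.map (CommRingCat.ofHom gl)
  have hq : q ≫ π₀ = (Spec (CommRingCat.of R)).fromSpecResidueField s := by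
    rw [← hg]
    refine (Spec.map_comp _ _).symm.trans ?_
    congr 1
  show Smooth (pullback.snd H.hom ((Spec (CommRingCat.of R)).fromSpecResidueField s))
  rw [← hq, ← pullbackLeftPullbackSndIso_inv_snd_snd H.hom π₀ q]
  haveI : Smooth (pullback.snd H.hom π₀) := hs
  infer_instance

set_option maxHeartbeats 1000000 in
include hJ in
/-- Finite smooth groups of multiplicative type lift along nil ideals. -/
theorem exists_lift (H₀ : Over (Spec (CommRingCat.of (R ⧸ J)))) [GrpObj H₀] [Smooth H₀.hom] [IsFinite H₀.hom]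
    (hm₀ : SGA3x.IsMultTypeFT H₀) :
    ∃ (H : Over (Spec (CommRingCat.of R))) (_ : GrpObj H), IsFinite H.hom ∧ Smooth H.hom ∧ SGA3x.IsMultTypeFT H ∧
      ∃ e : Red.bc π₀ H ≅ H₀, IsMonHom e.hom := by
  haveI : IsAffine H₀.left := isAffine_of_isAffineHom H₀.hom
  obtain ⟨A₀, _, _, ψ₀, _⟩ := Hopf.exists_coord (k := R ⧸ J) H₀
  have hft₀ : Algebra.FiniteType (R ⧸ J) A₀ := by
    have : LocallyOfFiniteType (Spec.map (CommRingCat.ofHom (algebraMap (R ⧸ J) A₀))) := by
      rw [show Spec.map (CommRingCat.ofHom (algebraMap (R ⧸ J) A₀)) = ψ₀.hom.left ≫ H₀.hom from (Over.w ψ₀.hom).symm]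
      exact MorphismProperty.RespectsIso.precomp @LocallyOfFiniteType ((Over.forget _).mapIso ψ₀).hom _
        (show LocallyOfFiniteType H₀.hom from inferInstance)
    rw [HasRingHomProperty.Spec_iff (P := @LocallyOfFiniteType)] at this
    exact RingHom.finiteType_algebraMap.mp this
  obtain ⟨A, _, _, hA, ⟨E⟩⟩ := S2979.result R J hJ A₀
    (SGA3b53.isQuasiIsotrivial_of_finiteType hft₀ (isMultType_of_isMultTypeFT_affine ψ₀ hm₀))
  let H : Over (Spec (CommRingCat.of R)) := Hopf.sp R A
  letI : IsMonHom (Iso.refl H).hom := inferInstanceAs (IsMonHom (𝟙 H))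
  obtain ⟨ψ', _⟩ := Hopf.exists_coord_bc (R ⧸ J) (Iso.refl H)
  obtain ⟨φG⟩ := Hopf.nonempty_grpIso ψ' ψ₀ E
  let φ : Red.bc π₀ H ≅ H₀ := ((Grp.forget _).mapIso φG).symm
  have hfin : IsFinite (Red.bc π₀ H).hom := by
    rw [← Over.w φ.hom]
    exact MorphismProperty.RespectsIso.precomp @IsFinite ((Over.forget _).mapIso φ).hom _
      (show IsFinite H₀.hom from inferInstance)
  have hsm : Smooth (Red.bc π₀ H).hom := by
    rw [← Over.w φ.hom]
    exact MorphismProperty.RespectsIso.precomp @Smooth ((Over.forget _).mapIso φ).hom _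
      (show Smooth H₀.hom from inferInstance)
  obtain ⟨h₁, h₂, h₃⟩ := finite_smooth_of_bc J hJ (SGA3b53.isMultType_of_isQuasiIsotrivial hA) (Iso.refl H) hfin hsm
  exact ⟨H, inferInstance, h₁, h₂, h₃, φ, φG.inv.hom.isMonHom_hom⟩

set_option maxHeartbeats 1000000 in
include hJ in
/-- A central subgroup of multiplicative type, finite and smooth, lifts uniquely along a nil ideal. -/
theorem existsUnique_subgroup_lift (G : Over (Spec (CommRingCat.of R))) [GrpObj G] [Flat G.hom]
    [LocallyOfFinitePresentation G.hom]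
    (H₀ : Over (Spec (CommRingCat.of (R ⧸ J)))) [GrpObj H₀] (j₀ : H₀ ⟶ Red.bc π₀ G) [IsMonHom j₀] [Mono j₀]
    [Smooth H₀.hom] [IsFinite H₀.hom] (hm₀ : SGA3x.IsMultTypeFT H₀)
    (hc₀ : ∀ (X : Over _) (x : X ⟶ _) (g : X ⟶ Red.bc π₀ G), (x ≫ j₀) * g = g * (x ≫ j₀)) :
    ∃ (H : Over (Spec (CommRingCat.of R))) (_ : GrpObj H) (j : H ⟶ G), IsMonHom j ∧ Mono j ∧ SGA3x.IsMultTypeFT H ∧
      (∃ e : Red.bc π₀ H ≅ H₀, e.hom ≫ j₀ = (Over.pullback π₀).map j) ∧
      (∀ (X : Over _) (x : X ⟶ _) (g : X ⟶ G), (x ≫ j) * g = g * (x ≫ j)) ∧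
      ∀ (H' : Over (Spec (CommRingCat.of R))) [GrpObj H'] (j' : H' ⟶ G) [IsMonHom j'] [Mono j'],
        SGA3x.IsMultTypeFT H' → (∃ e' : Red.bc π₀ H' ≅ H₀, e'.hom ≫ j₀ = (Over.pullback π₀).map j') →
        ∃ φ : H' ≅ H, φ.hom ≫ j = j' := by
  haveI : IsClosedImmersion π₀ := IsClosedImmersion.spec_of_surjective _ Ideal.Quotient.mk_surjective
  haveI := surjective_mk J hJ
  obtain ⟨H, _, hfin, hsm, hm, e, he⟩ := exists_lift J hJ H₀ hm₀
  haveI := hfin
  haveI := hsm
  haveI := he
  have hc : ∀ (X : Over _) (x : X ⟶ Red.bc π₀ H) (g : X ⟶ Red.bc π₀ G),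
      (x ≫ e.hom ≫ j₀) * g = g * (x ≫ e.hom ≫ j₀) := fun X x g => by
    rw [← Category.assoc]; exact hc₀ X _ g
  obtain ⟨j, hj, hj₀, hjc, -⟩ := CPow.existsUnique_central_hom_lift (G := G) (isMultType_of_isMultTypeFT hm) π₀
    (e.hom ≫ j₀) hc
  haveI := hj
  refine ⟨H, inferInstance, j, inferInstance, ⟨fun {X} a b hab => ?_⟩, hm, ⟨e, hj₀.symm⟩, fun X x g => hjc X x g, ?_⟩
  · -- a monomorphism, as it is one on the closed subscheme and the group is unramified
    choose W n hsW hn hk using fun s : (Spec (CommRingCat.of R) : Scheme.{u}) =>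
      CPow.exists_local_exponent (H := H) (isMultType_of_isMultTypeFT hm) s
    let d : X ⊗ Over.mk π₀ ⟶ X := fst _ _
    haveI : IsClosedImmersion d.left := inferInstanceAs (IsClosedImmersion (pullback.fst X.hom π₀))
    haveI : Surjective d.left := inferInstanceAs (Surjective (pullback.fst X.hom π₀))
    obtain ⟨α, -⟩ := exists_over_iso π₀ (snd X (Over.mk π₀)).left (Over.w (snd X (Over.mk π₀)))
    let Y : Over (Spec (CommRingCat.of (R ⧸ J))) := Over.mk (snd X (Over.mk π₀)).left
    have hda : d ≫ a = d ≫ b := by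
      rw [← cancel_epi α.hom]
      have h1 : (ofBase π₀ (α.hom ≫ d ≫ a) : Y ⟶ Red.bc π₀ H) ≫ e.hom ≫ j₀ = ofBase π₀ (α.hom ≫ d ≫ b) ≫ e.hom ≫ j₀ := by
        refine toBase_injective π₀ ?_
        rw [← hj₀, toBase_comp_map, toBase_comp_map, toBase_ofBase, toBase_ofBase]
        simp only [Category.assoc, hab]
      rw [← Category.assoc _ e.hom, ← Category.assoc _ e.hom, cancel_mono, cancel_mono] at h1
      rw [← toBase_ofBase π₀ (α.hom ≫ d ≫ a), h1, toBase_ofBase]
    haveI : Flat H.hom := inferInstance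
    refine CPow.eq_of_torsOn W n (fun s => ⟨s, hsW s⟩) hn d a b (fun i Z z hZ => hk i Z _ hZ)
      (fun i Z z hZ => hk i Z _ hZ) hda fun Z z g => ?_
    exact isMultTypeFT_points_comm hm _ _
  intro H' _ j' _ _ hm' he'
  obtain ⟨e', he'⟩ := he'
  haveI : IsMonHom e'.hom := by
    refine isMonHom_of_points _ fun X x y => ?_
    rw [← cancel_mono j₀, MonObj.mul_comp _ _ j₀, Category.assoc, Category.assoc, Category.assoc, he']
    exact MonObj.mul_comp x y _
  haveI : IsAffineHom H'.hom := isMultType_isAffineHom (isMultType_of_isMultTypeFT hm')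
  haveI : IsAffine H'.left := isAffine_of_isAffineHom H'.hom
  obtain ⟨A', _, _, ψ', _⟩ := Hopf.exists_coord (k := R) H'
  obtain ⟨hfin', hsm', -⟩ := finite_smooth_of_bc J hJ (isMultType_of_isMultTypeFT_affine ψ' hm') ψ'
    (by rw [← Over.w e'.hom]
        exact MorphismProperty.RespectsIso.precomp @IsFinite ((Over.forget _).mapIso e').hom _
          (show IsFinite H₀.hom from inferInstance))
    (by rw [← Over.w e'.hom]
        exact MorphismProperty.RespectsIso.precomp @Smooth ((Over.forget _).mapIso e').hom _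
          (show Smooth H₀.hom from inferInstance))
  haveI := hfin'
  haveI := hsm'
  have hcomm : ∀ (K : Over (Spec (CommRingCat.of R))) [GrpObj K] (_ : SGA3x.IsMultTypeFT K)
      (X : Over (Spec (CommRingCat.of (R ⧸ J)))) (x g : X ⟶ Red.bc π₀ K), x * g = g * x := fun K _ hK X x g => by
    refine toBase_injective π₀ ?_
    rw [toBase_mul, toBase_mul]
    exact isMultTypeFT_points_comm hK _ _
  haveI : IsMonHom e.inv := by
    refine isMonHom_of_points _ fun X x y => ?_
    rw [← cancel_mono e.hom, MonObj.mul_comp _ _ e.hom]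
    simp only [Category.assoc, Iso.inv_hom_id, Category.comp_id]
  haveI : IsMonHom e'.inv := by
    refine isMonHom_of_points _ fun X x y => ?_
    rw [← cancel_mono e'.hom, MonObj.mul_comp _ _ e'.hom]
    simp only [Category.assoc, Iso.inv_hom_id, Category.comp_id]
  obtain ⟨φ, hφ, hφ₀, -, -⟩ := CPow.existsUnique_central_hom_lift (G := H) (H := H') (isMultType_of_isMultTypeFT hm') π₀
    (e'.hom ≫ e.inv) fun X x g => hcomm H hm X _ _
  obtain ⟨χ, hχ, hχ₀, -, -⟩ := CPow.existsUnique_central_hom_lift (G := H') (H := H) (isMultType_of_isMultTypeFT hm) π₀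
    (e.hom ≫ e'.inv) fun X x g => hcomm H' hm' X _ _
  haveI := hφ
  haveI := hχ
  obtain ⟨i₁, -, -, -, u₁⟩ := CPow.existsUnique_central_hom_lift (G := H') (H := H') (isMultType_of_isMultTypeFT hm') π₀
    (𝟙 (Red.bc π₀ H')) fun X x g => hcomm H' hm' X _ _
  obtain ⟨i₂, -, -, -, u₂⟩ := CPow.existsUnique_central_hom_lift (G := H) (H := H) (isMultType_of_isMultTypeFT hm) π₀
    (𝟙 (Red.bc π₀ H)) fun X x g => hcomm H hm X _ _
  have k₁ : φ ≫ χ = 𝟙 H' := by
    rw [u₁ (φ ≫ χ) inferInstance (by rw [Functor.map_comp, hφ₀, hχ₀]; simp),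
      u₁ (𝟙 H') inferInstance (CategoryTheory.Functor.map_id _ _)]
  have k₂ : χ ≫ φ = 𝟙 H := by
    rw [u₂ (χ ≫ φ) inferInstance (by rw [Functor.map_comp, hφ₀, hχ₀]; simp),
      u₂ (𝟙 H) inferInstance (CategoryTheory.Functor.map_id _ _)]
  refine ⟨⟨φ, χ, k₁, k₂⟩, ?_⟩
  obtain ⟨i₃, -, -, -, u₃⟩ := CPow.existsUnique_central_hom_lift (G := G) (H := H') (isMultType_of_isMultTypeFT hm') π₀
    (e'.hom ≫ j₀) fun X x g => by rw [← Category.assoc]; exact hc₀ X _ g
  show φ ≫ j = j'
  rw [u₃ (φ ≫ j) inferInstance (by rw [Functor.map_comp, hφ₀, hj₀]; simp), u₃ j' inferInstance he'.symm]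

end Groth.Agent.Const38.EGLift
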