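import Mathlib.AlgebraicGeometry.Morphisms.FlatMono
import Mathlib.AlgebraicGeometry.Morphisms.Etale
import Mathlib.AlgebraicGeometry.Morphisms.UniversallyInjective
import Groth.Agent.ConsProp93.Basic

/-!
Sections of étale morphisms extend uniquely along surjective closed immersions.
-/

set_option autoImplicit false
set_option backward.isDefEq.respectTransparency.types false
universe u

open CategoryTheory CategoryTheory.Limits AlgebraicGeometry

noncomputable section

namespace Groth.Agent.Const38

/-- A section of an étale morphism over a surjective closed subscheme extends uniquely. -/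
theorem exists_section_of_etale {E Z Z₀ : Scheme.{u}} (p : E ⟶ Z) [Etale p] (c : Z₀ ⟶ Z) [IsClosedImmersion c]
    [Surjective c] (s₀ : Z₀ ⟶ E) (h : s₀ ≫ p = c) :
    ∃ s : Z ⟶ E, s ≫ p = 𝟙 Z ∧ c ≫ s = s₀ ∧
      ∀ s' : Z ⟶ E, s' ≫ p = 𝟙 Z → (∀ z, s' (c z) = s₀ z) → s' = s := by
  let σ : Z₀ ⟶ pullback p c := pullback.lift s₀ (𝟙 _) (by rw [h, Category.id_comp])
  have hσ1 : σ ≫ pullback.fst p c = s₀ := pullback.lift_fst _ _ _
  have hσ2 : σ ≫ pullback.snd p c = 𝟙 _ := pullback.lift_snd _ _ _
  haveI : Etale (σ ≫ pullback.snd p c) := by rw [hσ2]; infer_instance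
  haveI : Etale σ := Etale.of_comp σ (pullback.snd p c)
  haveI : Mono σ := mono_of_mono_fac hσ2
  haveI : IsOpenImmersion σ := IsOpenImmersion.of_flat_of_mono σ
  -- the extension of the section is an open subscheme
  let F := pullback.fst p c
  have hF : IsHomeomorph F := isHomeomorph_iff_isEmbedding_surjective.mpr
    ⟨F.isClosedEmbedding.isEmbedding, F.surjective⟩
  let V : E.Opens := ⟨F '' Set.range σ, hF.isOpenMap _ σ.isOpenEmbedding.isOpen_range⟩
  let q := V.ι ≫ p
  haveI : Etale q := inferInstanceAs (Etale (V.ι ≫ p))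
  let k : pullback q c ⟶ pullback p c := pullback.lift (pullback.fst q c ≫ V.ι) (pullback.snd q c)
    (by rw [Category.assoc]; exact pullback.condition)
  have hk1 : k ≫ pullback.fst p c = pullback.fst q c ≫ V.ι := pullback.lift_fst _ _ _
  have hk2 : k ≫ pullback.snd p c = pullback.snd q c := pullback.lift_snd _ _ _
  haveI : Mono k := ⟨fun a b e => pullback.hom_ext
    ((cancel_mono V.ι).mp (by simp only [Category.assoc, ← hk1, reassoc_of% e]))
    (by simp only [← hk2, reassoc_of% e])⟩
  have hk : Set.range k ⊆ Set.range σ := by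
    rintro _ ⟨y, rfl⟩
    obtain ⟨x, hx, e⟩ := (pullback.fst q c y).2
    have : F (k y) = F x := by
      rw [e, ← Scheme.Hom.comp_apply, pullback.lift_fst]; rfl
    rwa [hF.injective this]
  have hg : IsOpenImmersion.lift σ k hk = pullback.snd q c := by
    have e := IsOpenImmersion.lift_fac σ k hk
    have := congrArg (· ≫ pullback.snd p c) e
    simp only [Category.assoc, hσ2, hk2] at this
    exact (Category.comp_id _).symm.trans this
  haveI : Mono (pullback.snd q c) := by
    rw [← hg]
    exact mono_of_mono_fac (IsOpenImmersion.lift_fac σ k hk)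
  haveI : IsOpenImmersion (pullback.snd q c) := IsOpenImmersion.of_flat_of_mono _
  have hr : ∀ z : Z₀, s₀ z ∈ V := fun z => ⟨σ z, ⟨z, rfl⟩, by
    rw [← Scheme.Hom.comp_apply, hσ1]⟩
  have hqs : Function.Surjective q := fun z => by
    obtain ⟨z₀, rfl⟩ := c.surjective z
    exact ⟨⟨s₀ z₀, hr z₀⟩, by show p (s₀ z₀) = _; rw [← Scheme.Hom.comp_apply, h]⟩
  haveI : Surjective q := ⟨hqs⟩
  -- radicial
  haveI : UniversallyInjective q :=
    (ConsProp93.universallyInjective_iff_of_isPullback (IsPullback.of_hasPullback q c)).mpr inferInstance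
  haveI : Mono q := by
    have : Surjective (pullback.diagonal q) := (UniversallyInjective.iff_diagonal q).mp ‹_›
    have : Epi (pullback.diagonal q).base := (TopCat.epi_iff_surjective _).mpr (pullback.diagonal q).surjective
    have : IsIso (pullback.diagonal q) := IsOpenImmersion.isIso _
    exact (pullback.isIso_diagonal_iff q).mp this
  haveI : IsOpenImmersion q := IsOpenImmersion.of_flat_of_mono q
  haveI : Epi q.base := (TopCat.epi_iff_surjective _).mpr hqs
  haveI : IsIso q := IsOpenImmersion.isIso q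
  refine ⟨inv q ≫ V.ι, ?_, ?_, fun s' hs' hs'' => ?_⟩
  · rw [Category.assoc]; exact IsIso.inv_hom_id q
  · have hl : Set.range s₀ ⊆ Set.range V.ι := by
      rw [V.range_ι]; rintro _ ⟨z, rfl⟩; exact hr z
    let l := IsOpenImmersion.lift V.ι s₀ hl
    have hlf : l ≫ V.ι = s₀ := IsOpenImmersion.lift_fac _ _ _
    have : l ≫ q = c := by rw [← Category.assoc, hlf, h]
    rw [← this, Category.assoc, IsIso.hom_inv_id_assoc, hlf]
  · have hl : Set.range s' ⊆ Set.range V.ι := by
      rw [V.range_ι]; rintro _ ⟨z, rfl⟩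
      obtain ⟨z₀, rfl⟩ := c.surjective z
      rw [hs'']; exact hr z₀
    let l := IsOpenImmersion.lift V.ι s' hl
    have hlf : l ≫ V.ι = s' := IsOpenImmersion.lift_fac _ _ _
    have : l ≫ q = 𝟙 Z := by rw [← Category.assoc, hlf, hs']
    rw [← IsIso.eq_comp_inv q, Category.id_comp] at this
    rw [← hlf, this]

end Groth.Agent.Const38
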