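import Groth.Agent.Const38.ConstDesc
import Groth.Agent.LimTop61.QfSplit
import Groth.Agent.Alg80.QuasiSection
import Mathlib.Topology.NoetherianSpace

/-! Twisted constant schemes trivial for the fppf topology are trivial for the étale topology. -/

set_option autoImplicit false
set_option linter.style.haveILetI false
universe u

open CategoryTheory CategoryTheory.Limits MonoidalCategory CartesianMonoidalCategory AlgebraicGeometry

namespace Groth.Agent.Const38

open Groth.Agent.FlatMor66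

variable {S : Scheme.{u}} {I : Type u}

theorem isSeparated_and_etale_of_triv {T : Scheme.{u}} (π : T ⟶ S) [Flat π] [Surjective π] [QuasiCompact π]
    {X : Over S} (e : Red.bc π X ≅ TwC.const T I) : IsSeparated X.hom ∧ Etale X.hom := by
  have hQ : (@Surjective ⊓ @Flat ⊓ @QuasiCompact : MorphismProperty Scheme.{u}) π :=
    ⟨⟨inferInstance, inferInstance⟩, inferInstance⟩
  have : MorphismProperty.DescendsAlong @IsSeparated
      (@Surjective ⊓ @Flat ⊓ @QuasiCompact : MorphismProperty Scheme.{u}) := Unr55.isSeparated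
  exact ⟨MorphismProperty.of_isPullback_of_descendsAlong (P := @IsSeparated)
      (IsPullback.of_hasPullback X.hom π).flip hQ (isSeparated_const e),
    MorphismProperty.of_isPullback_of_descendsAlong (P := @Etale)
      (IsPullback.of_hasPullback X.hom π).flip hQ (etale_const e)⟩

/-- A trivialisation along a finite flat cover which is radicial over a point descends to a neighbourhood of it. -/
theorem exists_const_nhd [IsNoetherian S] {T : Scheme.{u}} (π : T ⟶ S) [IsFinite π] [Flat π] [Surjective π]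
    {X : Over S} (e : Red.bc π X ≅ TwC.const T I) (u : S) (v : T) (huniq : ∀ w, π w = u → w = v)
    (hPI : PIAt π v) :
    ∃ V : S.Opens, u ∈ V ∧ Nonempty (Red.bc V.ι X ≅ TwC.const (V : Scheme.{u}) I) := by
  obtain ⟨hsep, het⟩ := isSeparated_and_etale_of_triv π e
  let p : pullback π π ⟶ S := pullback.fst π π ≫ π
  have : LocallyOfFiniteType p := inferInstance
  have : IsNoetherian (pullback π π) :=
    { component_noetherian := (LocallyOfFiniteType.isLocallyNoetherian p).component_noetherian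
      toCompactSpace := QuasiCompact.compactSpace_of_compactSpace p }
  -- the part whose connected components miss the fibre
  let C : Set ↥(pullback π π) := {c | ∀ d ∈ connectedComponent c, p d ≠ u}
  have hC : C = ⋃ Z ∈ {Z ∈ irreducibleComponents ↥(pullback π π) | Z ⊆ C}, Z := by
    ext c
    simp only [Set.mem_iUnion, exists_prop]
    refine ⟨fun hc => ⟨irreducibleComponent c, ⟨irreducibleComponent_mem_irreducibleComponents c, fun d hd e' he' => ?_⟩,
      mem_irreducibleComponent⟩, fun ⟨Z, ⟨_, hZ⟩, hcZ⟩ => hZ hcZ⟩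
    have hdc : connectedComponent d = connectedComponent c := connectedComponent_eq
      (isIrreducible_irreducibleComponent.isPreirreducible.isPreconnected.subset_connectedComponent hd
        mem_irreducibleComponent) |>.symm ▸ rfl
    exact hc e' (hdc ▸ he')
  have hCcl : IsClosed C := by
    rw [hC]
    exact (TopologicalSpace.NoetherianSpace.finite_irreducibleComponents.subset fun Z hZ => hZ.1).isClosed_biUnion
      fun Z hZ => isClosed_of_mem_irreducibleComponents Z hZ.1
  let V : S.Opens := ⟨(p '' C)ᶜ, (p.isClosedMap C hCcl).isOpen_compl⟩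
  have huV : u ∈ V := by
    rintro ⟨c, hc, hcu⟩
    exact hc c mem_connectedComponent hcu
  refine ⟨V, huV, ?_⟩
  have hagree : ∀ i (c : ↥(pullback π π)), p c ∈ V → ∀ {W : (pullback π π).Opens},
      W.ι ≫ pullback.fst π π ≫ trivSec e i = W.ι ≫ pullback.snd π π ≫ trivSec e i →
      (∀ {R : Scheme.{u}} (t : R ⟶ pullback π π), t ≫ pullback.fst π π ≫ trivSec e i =
        t ≫ pullback.snd π π ≫ trivSec e i → Set.range t ⊆ W) →
      IsClosed (W : Set ↥(pullback π π)) → c ∈ W := by
    intro i c hc W _ hmem hcl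
    have hcC : c ∉ C := fun h => hc ⟨c, h, rfl⟩
    simp only [C, Set.mem_ofPred_eq, not_forall, not_not] at hcC
    obtain ⟨d, hd, hdu⟩ := hcC
    refine (IsClopen.connectedComponent_subset (x := d) ⟨hcl, W.2⟩ ?_) (connectedComponent_eq hd ▸ mem_connectedComponent)
    -- a geometric point over the fibre has equal projections
    let K := AlgebraicClosure ((pullback π π).residueField d)
    let t : Spec (CommRingCat.of K) ⟶ pullback π π :=
      Spec.map (CommRingCat.ofHom (algebraMap ((pullback π π).residueField d) K)) ≫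
        (pullback π π).fromSpecResidueField d
    have htd : gpt t = d := (gpt_comp _ _).trans ((pullback π π).fromSpecResidueField_apply d _)
    have h1 : π (pullback.fst π π d) = u := hdu
    have h2 : π (pullback.snd π π d) = u := by
      rw [← Scheme.Hom.comp_apply, ← pullback.condition]; exact hdu
    have heq : t ≫ pullback.fst π π = t ≫ pullback.snd π π :=
      hPI K _ _ (by rw [gpt_comp, htd]; exact huniq _ h1) (by rw [gpt_comp, htd]; exact huniq _ h2)
        (by rw [Category.assoc, Category.assoc]; exact congrArg (t ≫ ·) pullback.condition)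
    have hr := hmem t (by rw [reassoc_of% heq])
    exact hr ⟨_, htd⟩
  let T' := (π ⁻¹ᵁ V).toScheme
  obtain ⟨e', he'⟩ := exists_triv (a := π ∣_ V) (b := V.ι) (c := (π ⁻¹ᵁ V).ι) (d := π)
    (morphismRestrict_ι π V) e
  have : Surjective (π ∣_ V) := IsZariskiLocalAtTarget.restrict (P := @Surjective) inferInstance V
  have : Flat (π ∣_ V) := IsZariskiLocalAtTarget.restrict (P := @Flat) inferInstance V
  refine nonempty_iso_const (π ∣_ V) e' fun i => ?_
  refine pullback.hom_ext ?_ ?_
  · rw [Category.assoc, Category.assoc, he']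
    let m : pullback (π ∣_ V) (π ∣_ V) ⟶ pullback π π :=
      pullback.map _ _ _ _ (π ⁻¹ᵁ V).ι (π ⁻¹ᵁ V).ι V.ι (morphismRestrict_ι π V) (morphismRestrict_ι π V)
    have hm1 : m ≫ pullback.fst π π = pullback.fst _ _ ≫ (π ⁻¹ᵁ V).ι := pullback.lift_fst _ _ _
    have hm2 : m ≫ pullback.snd π π = pullback.snd _ _ ≫ (π ⁻¹ᵁ V).ι := pullback.lift_snd _ _ _
    obtain ⟨W, hW, hmem, hcl⟩ := Unr55.exists_eqLocus X.hom (pullback.fst π π ≫ trivSec e i)
      (pullback.snd π π ≫ trivSec e i) (by rw [Category.assoc, Category.assoc, trivSec_hom, pullback.condition])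
    have hrange : Set.range m ⊆ Set.range W.ι := by
      rintro _ ⟨z, rfl⟩
      rw [Scheme.Opens.range_ι]
      refine hagree i _ ?_ hW hmem (hcl hsep)
      show π ((m ≫ pullback.fst π π) z) ∈ V
      rw [hm1, Scheme.Hom.comp_apply]
      exact (pullback.fst (π ∣_ V) (π ∣_ V) z).2
    rw [← reassoc_of% hm1, ← reassoc_of% hm2, ← IsOpenImmersion.lift_fac W.ι m hrange, Category.assoc,
      Category.assoc, hW]
  · rw [Category.assoc, Category.assoc]
    have hs : trivSec e' i ≫ (Red.bc V.ι X).hom = π ∣_ V := trivSec_hom e' i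
    exact (congrArg (pullback.fst (π ∣_ V) (π ∣_ V) ≫ ·) hs).trans
      (pullback.condition.trans (congrArg (pullback.snd (π ∣_ V) (π ∣_ V) ≫ ·) hs).symm)

/-- Trivialisation for the fppf topology implies trivialisation for the étale topology. -/
theorem exists_etale_triv [IsLocallyNoetherian S] (X : Over S) {S' : Scheme.{u}} (f : S' ⟶ S) [Flat f]
    [LocallyOfFinitePresentation f] (e : Red.bc f X ≅ TwC.const S' I) (s' : S') :
    ∃ (U : Scheme.{u}) (g : U ⟶ S), Etale g ∧ f s' ∈ Set.range g ∧ Nonempty (Red.bc g X ≅ TwC.const U I) := by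
  obtain ⟨W, hW, hsW, -⟩ := exists_isAffineOpen_mem_and_subset (U := (⊤ : S.Opens)) (x := f s') trivial
  obtain ⟨W', hW', hsW', hle⟩ := exists_isAffineOpen_mem_and_subset (U := f ⁻¹ᵁ W) (x := s') hsW
  have hle' : W' ≤ f ⁻¹ᵁ W := hle
  algebraize [(f.appLE W W' hle').hom]
  have hfp : Algebra.FinitePresentation Γ(S, W) Γ(S', W') :=
    HasRingHomProperty.appLE @LocallyOfFinitePresentation f inferInstance ⟨W, hW⟩ ⟨W', hW'⟩ hle'
  have hfl : Module.Flat Γ(S, W) Γ(S', W') :=
    HasRingHomProperty.appLE @Flat f inferInstance ⟨W, hW⟩ ⟨W', hW'⟩ hle'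
  obtain ⟨x', hx'⟩ := hW'.range_fromSpec.ge hsW'
  let pS : PrimeSpectrum Γ(S, W) := PrimeSpectrum.comap (algebraMap Γ(S, W) Γ(S', W')) x'
  have hpS : hW.fromSpec pS = f s' := by
    rw [← hx']
    exact congrArg (fun m : Spec Γ(S', W') ⟶ S => m x') (hW.SpecMap_appLE_fromSpec f hW' hle')
  obtain ⟨B, _, _, ψ, hBfp, hBfl, hBqf, ⟨y, hy⟩⟩ := Alg80.QuasiSection.exists_quasiSection (R := Γ(S, W)) (A := Γ(S', W')) pS ⟨x', rfl⟩
  let β := CommRingCat.ofHom (algebraMap Γ(S, W) B)
  let b : Spec (CommRingCat.of B) ⟶ S := Spec.map β ≫ hW.fromSpec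
  let h : Spec (CommRingCat.of B) ⟶ S' := Spec.map (CommRingCat.ofHom ψ.toRingHom) ≫ hW'.fromSpec
  have hh : h ≫ f = b := by
    show (Spec.map _ ≫ hW'.fromSpec) ≫ f = _
    rw [Category.assoc, ← hW.SpecMap_appLE_fromSpec f hW' hle', ← Spec.map_comp_assoc]
    congr 2
    exact CommRingCat.hom_ext (RingHom.ext fun r => ψ.commutes r)
  have : IsOpenImmersion hW.fromSpec := hW.isOpenImmersion_fromSpec
  have : Flat (Spec.map β) := (HasRingHomProperty.Spec_iff (P := @Flat)).2 (RingHom.flat_algebraMap_iff.2 hBfl)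
  have : LocallyOfFinitePresentation (Spec.map β) :=
    (HasRingHomProperty.Spec_iff (P := @LocallyOfFinitePresentation)).2 (RingHom.finitePresentation_algebraMap.2 hBfp)
  have : LocallyQuasiFinite (Spec.map β) :=
    (HasRingHomProperty.Spec_iff (P := @LocallyQuasiFinite)).2 (RingHom.quasiFinite_algebraMap.2 hBqf)
  have : LocallyQuasiFinite b := inferInstance
  have hby : b y = f s' := by
    rw [← hpS]
    exact congrArg (fun z => hW.fromSpec z) hy
  obtain ⟨U₀, g, u, hg, hgu, J, _, Vs, vs, h1, -, h3⟩ := LimTop61.exists_qf_splitting_PI b (f s')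
    (ι := Unit) (fun _ => y) (fun _ _ _ => rfl) (fun _ => hby) (fun _ => b.quasiFiniteAt y)
  obtain ⟨w, hw1, hw2⟩ := Scheme.Pullback.exists_preimage_pullback (f := b) (g := g) y u (hby.trans hgu.symm)
  obtain ⟨j, -⟩ := h3 w () hw2 hw1
  obtain ⟨hv, hfin, hvu, huniq, hPI, -⟩ := h1 () j
  let T := (Vs () j).toScheme
  let π : T ⟶ U₀ := (Vs () j).ι ≫ pullback.snd b g
  have : IsFinite π := hfin
  have : Flat π := inferInstance
  have : LocallyOfFinitePresentation π := inferInstance
  obtain ⟨e1, -⟩ := exists_triv (a := π) (b := g) (c := (Vs () j).ι ≫ pullback.fst b g ≫ h) (d := f)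
    (by simp only [π, Category.assoc, hh]; exact congrArg ((Vs () j).ι ≫ ·) pullback.condition.symm) e
  -- shrink to an affine neighbourhood inside the image
  have : UniversallyOpen π := UniversallyOpen.of_flat π
  obtain ⟨W₀, hW₀, huW₀, hW₀r⟩ := exists_isAffineOpen_mem_and_subset
    (U := (⟨Set.range π, π.isOpenMap.isOpen_range⟩ : U₀.Opens)) (x := u) ⟨⟨vs () j, hv⟩, hvu⟩
  have : IsLocallyNoetherian U₀ := LocallyOfFiniteType.isLocallyNoetherian g
  have : IsNoetherianRing Γ(U₀, W₀) := IsLocallyNoetherian.component_noetherian ⟨W₀, hW₀⟩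
  have : IsNoetherian (W₀ : Scheme.{u}) :=
    { component_noetherian := (isLocallyNoetherian_of_isOpenImmersion W₀.ι).component_noetherian
      toCompactSpace := isCompact_iff_compactSpace.mp hW₀.isCompact }
  let π0 := π ∣_ W₀
  have : Surjective π0 := ⟨fun x => by
    obtain ⟨z, hz⟩ := hW₀r x.2
    refine ⟨⟨z, ?_⟩, Subtype.ext ((congrArg (fun m : _ ⟶ U₀ => m _) (morphismRestrict_ι π W₀)).trans hz)⟩
    show π z ∈ W₀
    rw [hz]; exact x.2⟩
  have : IsFinite π0 := IsZariskiLocalAtTarget.restrict (P := @IsFinite) inferInstance W₀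
  have : Flat π0 := IsZariskiLocalAtTarget.restrict (P := @Flat) inferInstance W₀
  obtain ⟨e2, -⟩ := exists_triv (a := π0) (b := W₀.ι) (c := (π ⁻¹ᵁ W₀).ι) (d := π) (morphismRestrict_ι π W₀) e1
  let v0 : (π ⁻¹ᵁ W₀).toScheme := ⟨⟨vs () j, hv⟩, by show π _ ∈ W₀; exact hvu.symm ▸ huW₀⟩
  have huniq0 : ∀ z, π0 z = ⟨u, huW₀⟩ → z = v0 := fun z hz => by
    refine Subtype.ext (Subtype.ext ?_)
    refine huniq _ z.1.2 ?_
    exact (congrArg (fun m : _ ⟶ U₀ => m z) (morphismRestrict_ι π W₀)).symm.trans (congrArg Subtype.val hz)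
  have hPI0 : PIAt π0 v0 := by
    intro K' _ _ q₁ q₂ e₁ e₂ he
    have hm : Mono ((π ⁻¹ᵁ W₀).ι ≫ (Vs () j).ι) := inferInstance
    refine (cancel_mono ((π ⁻¹ᵁ W₀).ι ≫ (Vs () j).ι)).1 (hPI K' _ _ ?_ ?_ ?_)
    · rw [gpt_comp, e₁]; rfl
    · rw [gpt_comp, e₂]; rfl
    · simp only [Category.assoc]
      have h' := congrArg (· ≫ W₀.ι) he
      simp only [Category.assoc] at h'
      rw [show π0 ≫ W₀.ι = (π ⁻¹ᵁ W₀).ι ≫ π from morphismRestrict_ι π W₀] at h'
      exact h'
  obtain ⟨V, huV, ⟨e3⟩⟩ := exists_const_nhd π0 e2 ⟨u, huW₀⟩ v0 huniq0 hPI0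
  let g0 := W₀.ι ≫ g
  have hcomp : V.ι ≫ W₀.ι ≫ g = 𝟙 (V : Scheme.{u}) ≫ (V.ι ≫ g0) := by rw [Category.id_comp]
  refine ⟨V, V.ι ≫ W₀.ι ≫ g, inferInstance, ⟨⟨⟨u, huW₀⟩, huV⟩, hgu⟩, ⟨?_⟩⟩
  exact (Over.pullbackComp V.ι (W₀.ι ≫ g)).app X ≪≫ (Over.pullback V.ι).mapIso ((Over.pullbackComp W₀.ι g).app X) ≪≫ e3

end Groth.Agent.Const38
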