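import Groth.Agent.Const38.SmoothUnibranch
import Groth.Agent.Const38.Etale
import Groth.Agent.ExtGrp38.Kernel

/-! Sections of étale schemes with a free transitive action of a torsion-free group. -/

set_option autoImplicit false
set_option linter.style.haveILetI false
universe u

open CategoryTheory CategoryTheory.Limits MonoidalCategory CartesianMonoidalCategory MonObj AlgebraicGeometry

namespace Groth.Agent.Const38

/-- An étale surjection with a transitive action of a torsion-free group with finite stabilisers over a scheme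
smooth over an irreducible geometrically unibranch one has a section. -/
theorem exists_section_of_free {S P E : Scheme.{u}} [IrreducibleSpace S]
    (hS : ∀ s : S, CAlg2.IsGeomUnibranch (S.presheaf.stalk s)) (f : P ⟶ S) [Smooth f]
    (q : E ⟶ P) [Etale q] [Surjective q] {Z : Type u} [Group Z] (hZ : ∀ z : Z, IsOfFinOrder z → z = 1)
    (τ : Z → (E ⟶ E)) (hτq : ∀ z, τ z ≫ q = q) (hτ1 : τ 1 = 𝟙 E) (hτm : ∀ z z', τ z' ≫ τ z = τ (z' * z))
    (htrans : ∀ (T : Scheme.{u}) [ConnectedSpace T] (p1 p2 : T ⟶ E), p1 ≫ q = p2 ≫ q → ∃ z, p2 ≫ τ z = p1)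
    (hstab : ∀ x : E, {z : Z | τ z x = x}.Finite) : ∃ s : P ⟶ E, s ≫ q = 𝟙 P := by
  let r := q ≫ f
  have hr : Smooth r := inferInstance
  have hcomp : ∀ z z' (x : E), τ z (τ z' x) = τ (z' * z) x := fun z z' x => by
    rw [← hτm z z', Scheme.Hom.comp_apply]
  have hq : ∀ z (x : E), q (τ z x) = q x := fun z x => by rw [← Scheme.Hom.comp_apply, hτq]
  have hfree : ∀ z (x : E), τ z x = x → z = 1 := fun z x hz => by
    refine hZ z ?_
    by_contra hnf
    refine Set.infinite_range_of_injective (injective_pow_iff_not_isOfFinOrder.2 hnf) ((hstab x).subset ?_)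
    rintro _ ⟨n, rfl⟩
    show τ (z ^ n) x = x
    induction n with
    | zero => rw [pow_zero, hτ1]; rfl
    | succ n ih => rw [pow_succ, ← hcomp, ih, hz]
  have hmax : ∀ z (x : E), (∀ y, y ⤳ x → y = x) → ∀ y, y ⤳ τ z x → y = τ z x := fun z x hx y hy => by
    have h := hy.map (τ z⁻¹).continuous
    rw [hcomp, mul_inv_cancel, hτ1] at h
    rw [← hx _ h, hcomp, inv_mul_cancel, hτ1]
    rfl
  have huniq : ∀ w, Subsingleton (minimalPrimes (E.presheaf.stalk w)) := fun w =>
    subsingleton_minimalPrimes_stalk r w (hS _)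
  choose x hx using q.surjective
  let U : E.Opens := ⟨{w | ∃ ξ ∈ Set.range x, (∀ z, z ⤳ ξ → z = ξ) ∧ ξ ⤳ w},
    isOpen_setOf_maximal r (fun y => hS y) (Set.range x)⟩
  have hptrans : ∀ a b : E, q a = q b → ∃ z, τ z a = b := by
    intro a b hab
    obtain ⟨c, hc1, hc2⟩ := Scheme.Pullback.exists_preimage_pullback (f := q) (g := q) b a hab.symm
    let j := (pullback q q).fromSpecResidueField c
    have : ConnectedSpace (Spec ((pullback q q).residueField c)) := inferInstance
    obtain ⟨z, hz⟩ := htrans _ (j ≫ pullback.fst q q) (j ≫ pullback.snd q q)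
      (by rw [Category.assoc, Category.assoc, pullback.condition])
    refine ⟨z, ?_⟩
    have h := congrArg (fun m : Spec ((pullback q q).residueField c) ⟶ E => m (IsLocalRing.closedPoint _)) hz
    have hj : j (IsLocalRing.closedPoint _) = c := Scheme.fromSpecResidueField_apply _ _
    simp only [Scheme.Hom.comp_apply] at h
    rwa [hj, hc1, hc2] at h
  have hex : ∀ w : E, ∃ z, τ z w ∈ U := fun w => by
    obtain ⟨ζ, hζw, hζ, -⟩ := Unr55.EtComp.exists_maximal_generization w
    obtain ⟨z, hz⟩ := hptrans ζ (x (q ζ)) (hx _).symm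
    exact ⟨z, x (q ζ), ⟨_, rfl⟩, hz ▸ hmax z ζ hζ, hz ▸ hζw.map (τ z).continuous⟩
  have hone : ∀ (w : E) (z : Z), w ∈ U → τ z w ∈ U → z = 1 := by
    rintro w z ⟨ξ, ⟨y, hy⟩, hξ, hξw⟩ ⟨ξ', ⟨y', hy'⟩, hξ', hξ'w⟩
    have h : τ z ξ = ξ' := Unr55.EtComp.eq_of_maximal (τ z w) (huniq _) (hξw.map (τ z).continuous) hξ'w
      (hmax z ξ hξ) hξ'
    have hy2 : y = y' := by
      rw [← hx y, hy, ← hx y', hy', ← h, hq]
    exact hfree z ξ (h.trans (by rw [← hy', ← hy2, hy]))
  let b : (U : Scheme.{u}) ⟶ P := U.ι ≫ q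
  have : Surjective b := ⟨fun y => by
    obtain ⟨z, hz⟩ := hex (x y)
    exact ⟨⟨τ z (x y), hz⟩, (hq z (x y)).trans (hx y)⟩⟩
  have hdiag : Surjective (pullback.diagonal b) := ⟨fun c => by
    let j := (pullback b b).fromSpecResidueField c
    have : ConnectedSpace (Spec ((pullback b b).residueField c)) := inferInstance
    let p1 := j ≫ pullback.fst b b ≫ U.ι
    let p2 := j ≫ pullback.snd b b ≫ U.ι
    obtain ⟨z, hz⟩ := htrans _ p1 p2 (by simp only [p1, p2, Category.assoc]; exact congrArg (j ≫ ·) pullback.condition)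
    let o : Spec ((pullback b b).residueField c) := IsLocalRing.closedPoint _
    have hz1 : z = 1 := hone (p2 o) z (pullback.snd b b (j o)).2 (by
      rw [← Scheme.Hom.comp_apply, hz]
      exact (pullback.fst b b (j o)).2)
    rw [hz1, hτ1, Category.comp_id] at hz
    have h12 : j ≫ pullback.fst b b = j ≫ pullback.snd b b :=
      (cancel_mono U.ι).1 (by rw [Category.assoc, Category.assoc]; exact hz.symm)
    refine ⟨(j ≫ pullback.fst b b) o, ?_⟩
    rw [← Scheme.Hom.comp_apply, show (j ≫ pullback.fst b b) ≫ pullback.diagonal b = j by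
      apply pullback.hom_ext
      · simp
      · simpa using h12]
    exact Scheme.fromSpecResidueField_apply _ _⟩
  have hIso : IsIso (pullback.diagonal b) :=
    (isIso_iff_isOpenImmersion_and_epi_base _).2 ⟨inferInstance, by
      rw [TopCat.epi_iff_surjective]; exact (pullback.diagonal b).surjective⟩
  have : Mono b := (pullback.isIso_diagonal_iff b).1 hIso
  have : IsOpenImmersion b := IsOpenImmersion.of_flat_of_mono b
  have : IsIso b := (isIso_iff_isOpenImmersion_and_epi_base _).2 ⟨inferInstance, by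
    rw [TopCat.epi_iff_surjective]; exact b.surjective⟩
  exact ⟨inv b ≫ U.ι, by simp [b]⟩

variable {S : Scheme.{u}} [IrreducibleSpace S] {G E P : Over S} [GrpObj G] [GrpObj E] [GrpObj P]
  {Z : Type u} [Group Z] {eG : G ≅ TwC.const S Z}

/-- An extension by a torsion-free constant group of a smooth group over an irreducible geometrically unibranch
scheme has a normalised section. -/
theorem exists_normalised_section (hS : ∀ s : S, CAlg2.IsGeomUnibranch (S.presheaf.stalk s))
    (hZ : ∀ z : Z, IsOfFinOrder z → z = 1) (hG : TwC.IsConstGrp Z G eG) [Smooth P.hom]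
    {u : G ⟶ E} {v : E ⟶ P} (hex : NonAbH1.IsExactSeq Scheme.fppfPrecoverage u v) :
    ∃ s : P ⟶ E, s ≫ v = 𝟙 P ∧ (1 : 𝟙_ (Over S) ⟶ P) ≫ s = 1 := by
  have := hex.1
  have := hex.2.1
  have := etale_const eG
  obtain ⟨hve, hvs⟩ := etale_of_exact hex
  let tr : Z → (E ⟶ E) := fun z => 𝟙 E * (cpt eG E z ≫ u)
  have hpre : ∀ {T : Over S} (p : T ⟶ E) z, p ≫ tr z = p * (cpt eG T z ≫ u) := fun p z => by
    rw [MonObj.comp_mul, Category.comp_id, ← Category.assoc, comp_cpt]
  have htv : ∀ z, tr z ≫ v = v := fun z => by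
    rw [MonObj.mul_comp, Category.id_comp, Category.assoc, hex.2.2.1, MonObj.comp_one, _root_.mul_one]
  let H : IsPullback (fst E G).left ((E ◁ u) ≫ μ[E]).left v.left v.left := hex.2.2.2.1.map (Over.forget S)
  obtain ⟨s0, hs0⟩ := exists_section_of_free hS P.hom v.left hZ (fun z => (tr z).left)
    (fun z => by rw [← Over.comp_left, htv])
    (by
      show (tr 1).left = 𝟙 E.left
      rw [show tr 1 = 𝟙 E by simp only [tr, cpt_one hG, MonObj.one_comp, _root_.mul_one]]
      rfl)
    (fun z z' => by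
      rw [← Over.comp_left]
      congr 1
      rw [hpre, _root_.mul_assoc, ← MonObj.mul_comp, cpt_mul hG])
    (fun T _ p1 p2 h => by
      let T' : Over S := Over.mk (p2 ≫ E.hom)
      have : ConnectedSpace T'.left := ‹ConnectedSpace T›
      let a1 : T' ⟶ E := Over.homMk p1 (by
        show _ = p2 ≫ E.hom
        rw [← Over.w v, reassoc_of% h])
      let a2 : T' ⟶ E := Over.homMk p2 rfl
      obtain ⟨g, hg⟩ := ExtGrp38.ker_exists hex (x := a2) (y := a1) (Over.OverMorphism.ext h.symm)
      obtain ⟨z, rfl⟩ := exists_eq_cpt eG g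
      exact ⟨z, congrArg (fun m : T' ⟶ E => m.left) ((hpre a2 z).trans hg.symm)⟩)
    (fun x => by
      have hfin : {c : ↥(pullback v.left v.left) |
          pullback.fst v.left v.left c = x ∧ pullback.snd v.left v.left c = x}.Finite := by
        obtain ⟨W, hW, hxW, -⟩ := exists_isAffineOpen_mem_and_subset (U := (⊤ : P.left.Opens)) (x := v.left x) trivial
        obtain ⟨V, hV, hxV, e⟩ := exists_isAffineOpen_mem_and_subset (U := v.left ⁻¹ᵁ W) (x := x) hxW
        have : IsAffine (V : Scheme.{u}) := hV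
        have : IsAffine (W : Scheme.{u}) := hW
        let qV : (V : Scheme.{u}) ⟶ (W : Scheme.{u}) := v.left.resLE W V e
        have hqV : qV ≫ W.ι = V.ι ≫ v.left := Scheme.Hom.resLE_comp_ι _ _
        have : LocallyQuasiFinite qV := by
          have : LocallyQuasiFinite v.left := Unr55.locallyQuasiFinite_of_formallyUnramified v.left
          have : LocallyQuasiFinite (qV ≫ W.ι) := by rw [hqV]; infer_instance
          exact LocallyQuasiFinite.of_comp _ W.ι
        let m := pullback.map qV qV v.left v.left V.ι V.ι W.ι hqV hqV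
        refine (((pullback.fst qV qV).finite_preimage_singleton ⟨x, hxV⟩).image m).subset ?_
        rintro c ⟨h1, h2⟩
        obtain ⟨d, rfl⟩ : c ∈ Set.range m := by
          rw [Scheme.Pullback.range_map, Scheme.Opens.range_ι]
          exact ⟨show _ ∈ V by rw [h1]; exact hxV, show _ ∈ V by rw [h2]; exact hxV⟩
        refine ⟨d, ?_, rfl⟩
        apply V.ι.isOpenEmbedding.injective
        rw [← Scheme.Hom.comp_apply,
          show pullback.fst qV qV ≫ V.ι = m ≫ pullback.fst v.left v.left from (pullback.lift_fst _ _ _).symm,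
          Scheme.Hom.comp_apply, h1]
        rfl
      have hm : ∀ z, lift (𝟙 E) (cpt eG E z) ≫ (E ◁ u) ≫ μ[E] = tr z := fun z => by
        rw [lift_whiskerLeft_assoc, ← Hom.mul_def]
      refine Set.Finite.of_finite_image (f := fun z => H.isoPullback.hom ((lift (𝟙 E) (cpt eG E z)).left x))
        (hfin.subset ?_) ?_
      · rintro _ ⟨z, hz, rfl⟩
        constructor
        · rw [← Scheme.Hom.comp_apply, H.isoPullback_hom_fst, ← Scheme.Hom.comp_apply, ← Over.comp_left, lift_fst]
          rfl
        · rw [← Scheme.Hom.comp_apply, H.isoPullback_hom_snd, ← Scheme.Hom.comp_apply, ← Over.comp_left, hm]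
          exact hz
      · intro z _ z' _ h
        have h' := H.isoPullback.hom.homeomorph.injective h
        have h'' : index eG ((lift (𝟙 E) (cpt eG E z) ≫ snd E G).left x) =
            index eG ((lift (𝟙 E) (cpt eG E z') ≫ snd E G).left x) := by
          rw [Over.comp_left, Over.comp_left, Scheme.Hom.comp_apply, Scheme.Hom.comp_apply, h']
        rwa [lift_snd, lift_snd, index_cpt, index_cpt] at h'')
  let s1 : P ⟶ E := Over.homMk s0 (by rw [← Over.w v, reassoc_of% hs0])
  have hs1 : s1 ≫ v = 𝟙 P := Over.OverMorphism.ext hs0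
  refine ⟨s1 * (toUnit P ≫ (1 : 𝟙_ (Over S) ⟶ P) ≫ s1)⁻¹, ?_, ?_⟩
  · rw [MonObj.mul_comp, GrpObj.inv_comp, Category.assoc, Category.assoc, hs1, Category.comp_id, MonObj.comp_one,
      inv_one, _root_.mul_one]
  · rw [MonObj.comp_mul, GrpObj.comp_inv, ← Category.assoc (1 : 𝟙_ (Over S) ⟶ P) (toUnit P),
      toUnit_unique ((1 : 𝟙_ (Over S) ⟶ P) ≫ toUnit P) (𝟙 _), Category.id_comp, mul_inv_cancel]

end Groth.Agent.Const38
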