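import Groth.Agent.Const38.ConstDesc
import Groth.Agent.Const38.Components
import Groth.Agent.Henz21.SchemeFinitePart
import Mathlib.AlgebraicGeometry.Morphisms.QuasiFinite

/-! Local components of separated locally quasi-finite schemes over henselian local rings. -/

set_option autoImplicit false
set_option linter.style.haveILetI false
universe u

open CategoryTheory CategoryTheory.Limits AlgebraicGeometry

namespace Groth.Agent.Const38

/-- An affine scheme all of whose points specialise to `x` is the spectrum of the local ring at `x`. -/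
theorem isIso_fromSpecStalk_of_forall_specializes {W : Scheme.{u}} [IsAffine W] (x : W)
    (h : ∀ w : W, w ⤳ x) : IsIso (W.fromSpecStalk x) := by
  have hu := isAffineOpen_top W
  let := TopCat.Presheaf.algebra_section_stalk W.presheaf (⟨x, trivial⟩ : (⊤ : W.Opens))
  have hl := hu.isLocalization_stalk ⟨x, trivial⟩
  let p := hu.primeIdealOf ⟨x, trivial⟩
  have hunit : p.asIdeal.primeCompl ≤ IsUnit.submonoid _ := fun a ha => by
    by_contra hna
    obtain ⟨m, hm, ham⟩ := exists_max_ideal_of_mem_nonunits hna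
    have h1 : (⟨m, hm.isPrime⟩ : PrimeSpectrum _) ⤳ p := by
      refine (hu.fromSpec.isOpenEmbedding.isInducing.specializes_iff).1 ?_
      rw [hu.fromSpec_primeIdealOf ⟨x, trivial⟩]
      exact h _
    exact ha (((PrimeSpectrum.le_iff_specializes _ _).2 h1) ham)
  have hbij := (IsLocalization.atUnits Γ(W, ⊤) p.asIdeal.primeCompl hunit
    (S := W.presheaf.stalk x)).bijective
  have : IsIso (W.presheaf.germ ⊤ x trivial) := (ConcreteCategory.isIso_iff_bijective _).2 hbij
  have : IsIso (W.fromSpecStalk x ≫ W.toSpecΓ) := by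
    rw [Scheme.fromSpecStalk_toSpecΓ]
    infer_instance
  exact IsIso.of_isIso_comp_right _ W.toSpecΓ

variable {R : Type u} [CommRing R] [HenselianLocalRing R]

/-- A separated locally quasi-finite scheme over a henselian local ring splits off the local scheme at
each point over the closed point, which is finite over the base. -/
theorem local_component {X : Scheme.{u}} (f : X ⟶ Spec (CommRingCat.of R)) [IsSeparated f]
    [LocallyOfFiniteType f] [LocallyQuasiFinite f] (x : X) (hx : f x = IsLocalRing.closedPoint R) :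
    IsOpenImmersion (X.fromSpecStalk x) ∧ IsClosedImmersion (X.fromSpecStalk x) ∧
      IsFinite (X.fromSpecStalk x ≫ f) := by
  obtain ⟨N, hN, hNx⟩ :=
    (isDiscrete_iff_forall_mem_exists_isOpen.1 (f.isDiscrete_preimage_singleton (f x))) x rfl
  have hxN : x ∈ N := (hNx.ge rfl).1
  obtain ⟨V, hV, hxV, eV⟩ := exists_isAffineOpen_mem_and_subset (U := (⟨N, hN⟩ : X.Opens)) (x := x) hxN
  have : IsAffine (V : Scheme.{u}) := hV
  obtain ⟨W, -, hWf, hW⟩ := Henz21.exists_finitePart (V.ι ≫ f)
  let W' : X.Opens := V.ι ''ᵁ W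
  have hfin : IsFinite (W'.ι ≫ f) := by
    have h : W'.ι ≫ f = (V.ι.isoImage W).inv ≫ W.ι ≫ V.ι ≫ f := by
      rw [Iso.eq_inv_comp, ← Category.assoc, Scheme.Hom.isoImage_hom_ι, Category.assoc]
    rw [h]
    infer_instance
  have : IsProper W'.ι := IsProper.of_comp W'.ι f
  have : IsClosedImmersion W'.ι :=
    IsClosedImmersion.of_isPreimmersion _ W'.ι.isClosedMap.isClosed_range
  have hxW' : x ∈ W' := ⟨⟨x, hxV⟩, hW _ hx, rfl⟩
  have hspec : ∀ w : (W' : Scheme.{u}), w ⤳ (⟨x, hxW'⟩ : (W' : Scheme.{u})) := fun w => by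
    obtain ⟨z, hwz, hz⟩ := Henz21.exists_specializes_closedPoint (W'.ι ≫ f) w
    obtain ⟨z', -, hz'⟩ : z.1 ∈ V.ι '' (W : Set V) := z.2
    have hzV : z.1 ∈ V := hz' ▸ z'.2
    have hzx : z.1 = x := by
      have h1 : z.1 ∈ N ∩ f ⁻¹' {f x} := ⟨eV hzV, hz.trans hx.symm⟩
      rwa [hNx] at h1
    exact (Subtype.ext hzx : z = ⟨x, hxW'⟩) ▸ hwz
  have : IsAffine (W' : Scheme.{u}) := isAffine_of_isAffineHom (W'.ι ≫ f)
  have : IsIso (W'.toScheme.fromSpecStalk ⟨x, hxW'⟩) := isIso_fromSpecStalk_of_forall_specializes _ hspec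
  have hiso : IsIso (W'.fromSpecStalkOfMem x hxW') := by
    rw [Scheme.Opens.fromSpecStalkOfMem]; infer_instance
  rw [← W'.fromSpecStalkOfMem_ι x hxW', Category.assoc]
  exact ⟨inferInstance, inferInstance, inferInstance⟩

omit [HenselianLocalRing R] in
/-- An étale scheme over a local ring whose closed point is hit is surjective. -/
theorem surjective_of_mem_closedPoint [IsLocalRing R] {X : Scheme.{u}} (f : X ⟶ Spec (CommRingCat.of R))
    [Flat f] (x : X) (hx : f x = IsLocalRing.closedPoint R) : Surjective f :=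
  ⟨fun s => by
    obtain ⟨z, -, hz⟩ := Flat.generalizingMap f (show s ⤳ f x from hx ▸ IsLocalRing.specializes_closedPoint s)
    exact ⟨z, hz⟩⟩

/-- Every point of a quasi-isotrivial twisted constant scheme over a henselian local ring specialises to
a point over the closed point. -/
theorem exists_specializes_closedPoint_of_twConst {X : Over (Spec (CommRingCat.of R))}
    (hX : TwC.IsTwConst TwC.Topology.etale X) (y : X.left) :
    ∃ x : X.left, X.hom x = IsLocalRing.closedPoint R ∧ y ⤳ x := by
  obtain ⟨S', g, hg, ⟨y', hy'⟩, I, ⟨e⟩⟩ := hX (IsLocalRing.closedPoint R)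
  obtain ⟨V, hV, hyV, -⟩ := exists_isAffineOpen_mem_and_subset (U := (⊤ : S'.Opens)) (x := y') trivial
  have : IsAffine (V : Scheme.{u}) := hV
  let v : (V : Scheme.{u}) := ⟨y', hyV⟩
  let h := V.ι ≫ g
  have : LocallyQuasiFinite h := Unr55.locallyQuasiFinite_of_formallyUnramified h
  obtain ⟨ho, -, -⟩ := local_component h v hy'
  let j := (V : Scheme.{u}).fromSpecStalk v
  let t := j ≫ h
  let T := Spec ((V : Scheme.{u}).presheaf.stalk v)
  let t₀ : ↥T := IsLocalRing.closedPoint _
  have ht₀ : t t₀ = IsLocalRing.closedPoint R := by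
    show (j ≫ h) t₀ = _
    rw [Scheme.Hom.comp_apply, Scheme.fromSpecStalk_closedPoint]
    exact hy'
  have : Etale t := inferInstance
  have hts : Surjective t := surjective_of_mem_closedPoint t t₀ ht₀
  obtain ⟨e', -⟩ := exists_triv (a := 𝟙 T) (b := t) (c := j ≫ V.ι) (d := g)
    (by simp [t, h]) e
  obtain ⟨s', hs'⟩ := t.surjective (X.hom y)
  obtain ⟨z, hz, -⟩ := Scheme.Pullback.exists_preimage_pullback (f := X.hom) (g := t) y s' hs'.symm
  obtain ⟨z', hz'⟩ := (pullback.fst (pullback.snd X.hom t) (𝟙 T)).surjective z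
  have : IsIso e'.hom.left := inferInstanceAs (IsIso ((Over.forget _).mapIso e').hom)
  obtain ⟨⟨i, w⟩, hw⟩ := (sigmaMk fun _ : I => T).surjective (e'.hom.left z')
  rw [sigmaMk_mk] at hw
  let c : ↥(Red.bc (𝟙 T) (Red.bc t X)).left := e'.inv.left (Sigma.ι (fun _ : I => T) i t₀)
  have hzc : z' ⤳ c := by
    have h1 := ((IsLocalRing.specializes_closedPoint w).map (Sigma.ι (fun _ : I => T) i).continuous).map
      e'.inv.left.continuous
    rw [hw, ← Scheme.Hom.comp_apply, ← Over.comp_left, Iso.hom_inv_id] at h1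
    exact h1
  refine ⟨(pullback.fst (pullback.snd X.hom t) (𝟙 T) ≫ pullback.fst X.hom t) c, ?_, ?_⟩
  · have hc : pullback.snd (pullback.snd X.hom t) (𝟙 T) c = t₀ := by
      show (Red.bc (𝟙 T) (Red.bc t X)).hom c = _
      rw [← Scheme.Hom.comp_apply, Over.w e'.inv]
      show (Sigma.ι (fun _ : I => T) i ≫ Sigma.desc fun _ => 𝟙 T) t₀ = t₀
      rw [Sigma.ι_desc]
      rfl
    rw [← Scheme.Hom.comp_apply, Category.assoc, pullback.condition, ← Category.assoc, pullback.condition,
      Category.comp_id, Scheme.Hom.comp_apply, hc, ht₀]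
  · have h1 := hzc.map (pullback.fst (pullback.snd X.hom t) (𝟙 T) ≫ pullback.fst X.hom t).continuous
    rwa [Scheme.Hom.comp_apply, hz', hz] at h1

end Groth.Agent.Const38
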