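import Groth.Agent.ExtGrp38.Kernel
import Groth.Prelude.Def_TwC
import Mathlib

/-! Points of constant group schemes. -/

set_option autoImplicit false
universe u

open CategoryTheory CategoryTheory.Limits MonoidalCategory CartesianMonoidalCategory MonObj AlgebraicGeometry

namespace Groth.Agent.Const38

variable {S : Scheme.{u}} {Z : Type u} [Group Z] {G : Over S} [GrpObj G] {eG : G ≅ TwC.const S Z}

/-- The point of index `m`. -/
noncomputable def cpt (eG : G ≅ TwC.const S Z) (T : Over S) (m : Z) : T ⟶ G :=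
  toUnit T ≫ TwC.pt S Z m ≫ eG.inv

omit [Group Z] [GrpObj G] in
theorem comp_cpt {T T' : Over S} (f : T' ⟶ T) (m : Z) : f ≫ cpt eG T m = cpt eG T' m := by
  rw [cpt, cpt, ← Category.assoc, toUnit_unique (f ≫ toUnit T) (toUnit T')]

theorem cpt_mul (hG : TwC.IsConstGrp Z G eG) (T : Over S) (m n : Z) :
    cpt eG T m * cpt eG T n = cpt eG T (m * n) := by
  rw [cpt, cpt, cpt, ← MonObj.comp_mul, hG]

theorem cpt_one (hG : TwC.IsConstGrp Z G eG) (T : Over S) : cpt eG T (1 : Z) = 1 := by
  have h := cpt_mul hG T (1 : Z) 1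
  rw [_root_.one_mul] at h
  exact mul_eq_left.1 h

theorem cpt_pow (hG : TwC.IsConstGrp Z G eG) (T : Over S) (m : Z) (n : ℕ) :
    cpt eG T m ^ n = cpt eG T (m ^ n) := by
  induction n with
  | zero => rw [pow_zero, pow_zero, cpt_one hG]
  | succ n ih => rw [pow_succ, pow_succ, ih, cpt_mul hG]

variable (eG)

/-- The index of the component containing a point. -/
noncomputable def index (x : G.left) : Z :=
  ((sigmaMk fun _ : Z => S).symm (eG.hom.left x)).1

omit [Group Z] [GrpObj G] in
theorem isLocallyConstant_index : IsLocallyConstant (index eG) := by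
  have : IsLocallyConstant (fun p : Σ _ : Z, S => p.1) := IsLocallyConstant.iff_isOpen_fiber.2 fun m => by
    have : (fun p : Σ _ : Z, S => p.1) ⁻¹' {m} = Set.range (Sigma.mk m) := by
      ext ⟨a, s⟩
      simp only [Set.mem_preimage, Set.mem_singleton_iff, Set.mem_range]
      exact ⟨by rintro rfl; exact ⟨s, rfl⟩, by rintro ⟨y, hy⟩; exact (congrArg Sigma.fst hy).symm⟩
    rw [this]; exact isOpen_range_sigmaMk
  exact this.comp_continuous ((sigmaMk fun _ : Z => S).symm.continuous.comp eG.hom.left.continuous)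

omit [Group Z] [GrpObj G] in
theorem index_eq {x : G.left} {m : Z} {s : S} (h : eG.hom.left x = Sigma.ι (fun _ : Z => S) m s) :
    index eG x = m := by
  have h' : (sigmaMk fun _ : Z => S).symm (eG.hom.left x) = ⟨m, s⟩ := by
    rw [Homeomorph.symm_apply_eq, sigmaMk_mk]; exact h
  rw [index, h']

omit [Group Z] [GrpObj G] in
theorem index_cpt (T : Over S) (m : Z) (t : T.left) : index eG ((cpt eG T m).left t) = m := by
  refine index_eq eG (s := T.hom t) ?_
  show ((cpt eG T m) ≫ eG.hom).left t = _
  rw [cpt, Category.assoc, Category.assoc, eG.inv_hom_id, Category.comp_id]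
  rfl

omit [Group Z] [GrpObj G] in
theorem eq_cpt {T : Over S} (f : T ⟶ G) (m : Z) (h : ∀ t : T.left, index eG (f.left t) = m) : f = cpt eG T m := by
  have hr : Set.range (f ≫ eG.hom).left ⊆ Set.range (Sigma.ι (fun _ : Z => S) m) := by
    rintro _ ⟨t, rfl⟩
    refine ⟨((sigmaMk fun _ : Z => S).symm (eG.hom.left (f.left t))).2, ?_⟩
    have h1 := (sigmaMk fun _ : Z => S).apply_symm_apply (eG.hom.left (f.left t))
    have h2 := h t
    obtain ⟨⟨a, s⟩, hs⟩ : ∃ p, (sigmaMk fun _ : Z => S).symm (eG.hom.left (f.left t)) = p := ⟨_, rfl⟩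
    rw [index, hs] at h2
    rw [hs, sigmaMk_mk] at h1
    rw [hs]
    obtain rfl : a = m := h2
    exact h1
  have hf : f ≫ eG.hom = toUnit T ≫ TwC.pt S Z m := by
    refine Over.OverMorphism.ext ?_
    rw [← IsOpenImmersion.lift_fac _ _ hr]
    show _ = T.hom ≫ Sigma.ι (fun _ : Z => S) m
    congr 1
    have hw := Over.w (f ≫ eG.hom)
    rw [← IsOpenImmersion.lift_fac _ _ hr, Category.assoc] at hw
    simpa using hw
  rw [cpt, ← Category.assoc, ← hf, Category.assoc, Iso.hom_inv_id, Category.comp_id]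

omit [Group Z] [GrpObj G] in
theorem exists_eq_cpt {T : Over S} [ConnectedSpace T.left] (f : T ⟶ G) : ∃ m : Z, f = cpt eG T m := by
  have hlc := (isLocallyConstant_index eG).comp_continuous f.left.continuous
  exact ⟨_, eq_cpt eG f _ fun t => hlc.apply_eq_of_isPreconnected isPreconnected_univ trivial
    (y := (inferInstance : Nonempty T.left).some) trivial⟩

variable {eG}

omit [GrpObj G] in
/-- A homomorphism-like map from a quasi-compact group to a torsion-free constant group is trivial. -/
theorem eq_one_of_powers [GrpObj G] (hG : TwC.IsConstGrp Z G eG) (hZ : ∀ z : Z, IsOfFinOrder z → z = 1)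
    {P : Over S} [GrpObj P] [CompactSpace P.left] (ψ : P ⟶ G)
    (hpow : ∀ (T : Over S) (x : T ⟶ P) (n : ℕ), (x ^ n) ≫ ψ = (x ≫ ψ) ^ n) : ψ = 1 := by
  rw [← cpt_one hG P]
  refine eq_cpt eG ψ 1 fun y => hZ _ ?_
  let T : Over S := Over.mk (P.left.fromSpecResidueField y ≫ P.hom)
  let x : T ⟶ P := Over.homMk (P.left.fromSpecResidueField y) rfl
  have : ConnectedSpace T.left := inferInstanceAs (ConnectedSpace (Spec (P.left.residueField y)))
  set idx := fun w : P.left => index eG (ψ.left w) with hidx
  have hfin : (Set.range idx).Finite :=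
    ((isLocallyConstant_index eG).comp_continuous ψ.left.continuous).range_finite
  obtain ⟨t⟩ := (inferInstance : Nonempty T.left)
  have hxt : x.left t = y := by
    have : x.left t ∈ Set.range (P.left.fromSpecResidueField y) := ⟨t, rfl⟩
    rwa [P.left.range_fromSpecResidueField] at this
  obtain ⟨m, hm⟩ := exists_eq_cpt eG (x ≫ ψ)
  have hmy : index eG (ψ.left y) = m := by
    rw [← hxt]
    show index eG ((x ≫ ψ).left t) = m
    rw [hm, index_cpt]
  have hmem : ∀ n : ℕ, m ^ n ∈ Set.range idx := fun n => ⟨(x ^ n).left t, by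
    show index eG (((x ^ n) ≫ ψ).left t) = m ^ n
    rw [hpow, hm, cpt_pow hG, index_cpt]⟩
  rw [hmy]
  by_contra hnf
  exact (Set.infinite_range_of_injective (injective_pow_iff_not_isOfFinOrder.2 hnf))
    (hfin.subset (Set.range_subset_iff.2 hmem))

end Groth.Agent.Const38
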