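import Groth.Agent.Const38.DualGrp
import Groth.Agent.Const38.Index
import Groth.Agent.RedPts82.ImageLoc

/-! Characters of a constant group are parametrised by a diagonalisable group. -/

set_option autoImplicit false
set_option linter.style.haveILetI false
universe u

open CategoryTheory CategoryTheory.Limits MonoidalCategory CartesianMonoidalCategory MonObj AlgebraicGeometry

namespace Groth.Agent.Const38

open Groth.Agent.RedPts82

section Glue

variable {S : Scheme.{u}} {Z : Type u} {P G : Over S} (e : P ≅ TwC.const S Z)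

/-- Maps out of a scheme over a constant scheme agree if they agree on the members of the index decomposition. -/
theorem hom_ext_indexed {X : Over S} (r : X ⟶ P) (a b : X ⟶ G)
    (h : ∀ (z : Z) (Y : Over S) (c : Y ⟶ X), c ≫ r = cpt e Y z → c ≫ a = c ≫ b) : a = b := by
  have hix := (isLocallyConstant_index e).comp_continuous r.left.continuous
  let U : Z → X.left.Opens := fun z => ⟨(fun p => index e (r.left p)) ⁻¹' {z}, hix.isOpen_fiber z⟩
  refine Over.OverMorphism.ext ((Scheme.openCoverOfIsOpenCover X.left U (TopologicalSpace.IsOpenCover.mk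
    (top_le_iff.1 fun p _ => TopologicalSpace.Opens.mem_iSup.2 ⟨_, rfl⟩))).hom_ext _ _ fun z => ?_)
  let Y : Over S := Over.mk ((U z).ι ≫ X.hom)
  let c : Y ⟶ X := Over.homMk (U z).ι rfl
  exact congrArg (fun k : Y ⟶ G => k.left) (h z Y c (eq_cpt e _ z fun p => p.2))

/-- Values at the points of a constant scheme glue. -/
theorem exists_glue_const {T : Over S} (v : Z → (T ⟶ G)) :
    ∃ φ : P ⊗ T ⟶ G, ∀ (z : Z) (X : Over S) (t : X ⟶ T), lift (cpt e X z) t ≫ φ = t ≫ v z := by
  let X0 : Over S := P ⊗ T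
  have hix := (isLocallyConstant_index e).comp_continuous (fst P T).left.continuous
  let U0 : Z → X0.left.Opens := fun z => ⟨(fun p => index e ((fst P T).left p)) ⁻¹' {z}, hix.isOpen_fiber z⟩
  have hdisj : Pairwise (Function.onFun Disjoint fun z => (U0 z).ι.opensRange) := fun i j hij => by
    simp only [Function.onFun, Scheme.Opens.opensRange_ι]
    rw [disjoint_iff]
    exact TopologicalSpace.Opens.ext (Set.eq_empty_of_forall_notMem fun p hp => hij (hp.1.symm.trans hp.2))
  obtain ⟨hc⟩ := nonempty_isColimit_cofanMk_of (fun z => (U0 z).ι)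
    (top_le_iff.1 fun p _ => TopologicalSpace.Opens.mem_iSup.2
      ⟨index e ((fst P T).left p), by rw [Scheme.Opens.opensRange_ι]; exact rfl⟩) hdisj
  let j0 : ∀ z, Over.mk ((U0 z).ι ≫ X0.hom) ⟶ X0 := fun z => Over.homMk (U0 z).ι rfl
  let φl : X0.left ⟶ G.left := Cofan.IsColimit.desc hc fun z => (j0 z ≫ snd _ _ ≫ v z).left
  have hφl : ∀ z, (U0 z).ι ≫ φl = (j0 z ≫ snd _ _ ≫ v z).left := fun z => Cofan.IsColimit.fac hc _ z
  let φ : X0 ⟶ G := Over.homMk φl (Cofan.IsColimit.hom_ext hc _ _ fun z => by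
    show (U0 z).ι ≫ φl ≫ G.hom = (U0 z).ι ≫ X0.hom
    rw [← Category.assoc, hφl, Over.w]
    rfl)
  refine ⟨φ, fun z X t => ?_⟩
  let l : X ⟶ X0 := lift (cpt e X z) t
  have hr : Set.range l.left ⊆ Set.range (U0 z).ι := by
    rintro _ ⟨p, rfl⟩
    rw [Scheme.Opens.range_ι]
    show index e ((fst P T).left (l.left p)) = z
    rw [← Scheme.Hom.comp_apply, ← Over.comp_left, lift_fst]
    exact index_cpt e X z p
  let r : X ⟶ Over.mk ((U0 z).ι ≫ X0.hom) := Over.homMk (IsOpenImmersion.lift (U0 z).ι l.left hr) (by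
    show _ ≫ (U0 z).ι ≫ X0.hom = X.hom
    rw [← Category.assoc, IsOpenImmersion.lift_fac, Over.w])
  have e1 : r ≫ j0 z = l := Over.OverMorphism.ext (IsOpenImmersion.lift_fac _ _ hr)
  have e2 : j0 z ≫ φ = j0 z ≫ snd _ _ ≫ v z := Over.OverMorphism.ext (hφl z)
  show l ≫ φ = _
  rw [← e1, Category.assoc, e2, ← Category.assoc, e1, lift_snd_assoc]

/-- A map out of a product with a constant scheme is determined by its values at the points. -/
theorem hom_ext_const {T : Over S} (φ φ' : P ⊗ T ⟶ G)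
    (h : ∀ z : Z, lift (cpt e T z) (𝟙 T) ≫ φ = lift (cpt e T z) (𝟙 T) ≫ φ') : φ = φ' := by
  refine hom_ext_indexed e (fst P T) _ _ fun z Y c hc => ?_
  have e1 : c = (c ≫ snd P T) ≫ lift (cpt e T z) (𝟙 T) := by
    rw [comp_lift, Category.comp_id, comp_cpt, ← hc, lift_comp_fst_snd]
  rw [e1, Category.assoc, h, ← Category.assoc _ _ φ']

end Glue

/-- Characters of a constant group are parametrised by the diagonalisable group of the free commutative
group it maps to. -/
theorem exists_const_char {S : Scheme.{u}} {Z : Type u} [Group Z] {M : Type} [AddCommGroup M]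
    (j : Z →* Multiplicative M)
    (hj : ∀ (C : Type u) [CommMonoid C] (c : Z →* C), ∃! c' : Multiplicative M →* C, c'.comp j = c)
    {P : Over S} [GrpObj P] (e : P ≅ TwC.const S Z) (he : TwC.IsConstGrp Z P e) :
    ∃ υ : P ⊗ Red.DS S M ⟶ Red.Gm S, AutFam.IsHomFamily P (Red.Gm S) υ ∧
      (∀ (X : Over S) (r : X ⟶ P) (a b : X ⟶ Red.DS S M),
        lift r (a * b) ≫ υ = (lift r a ≫ υ) * (lift r b ≫ υ)) ∧
      ∀ (T : Over S) (φ : P ⊗ T ⟶ Red.Gm S), AutFam.IsHomFamily P (Red.Gm S) φ →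
        ∃! a : T ⟶ Red.DS S M, (P ◁ a) ≫ υ = φ := by
  obtain ⟨υ, hυ⟩ := exists_glue_const e (T := Red.DS S M) fun z => Red.chi S (Multiplicative.toAdd (j z))
  have hfam : AutFam.IsHomFamily P (Red.Gm S) υ := fun X g₁ g₂ t => by
    refine hom_ext_indexed e g₁ _ _ fun m Y c hm => hom_ext_indexed e (c ≫ g₂) _ _ fun n Y' c' hn => ?_
    simp only [MonObj.comp_mul, comp_lift_assoc]
    have h1 : c' ≫ c ≫ g₁ = cpt e Y' m := by rw [hm, comp_cpt]
    rw [h1, hn, cpt_mul he, hυ, hυ, hυ]
    refine gmFn_injective ?_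
    rw [gmFn_mul, gmFn_chi, gmFn_chi, gmFn_chi, map_mul, toAdd_mul, dsFn_add]
  have hmul : ∀ (X : Over S) (r : X ⟶ P) (a b : X ⟶ Red.DS S M),
      lift r (a * b) ≫ υ = (lift r a ≫ υ) * (lift r b ≫ υ) := fun X r a b => by
    refine hom_ext_indexed e r _ _ fun z Y c hz => ?_
    rw [MonObj.comp_mul, comp_lift_assoc, comp_lift_assoc, comp_lift_assoc, MonObj.comp_mul, hz, hυ, hυ, hυ,
      MonObj.mul_comp]
  refine ⟨υ, hfam, hmul, fun T φ hφ => ?_⟩
  -- the values of the family at the points form a homomorphism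
  let v : Z →* Γ(T.left, ⊤) :=
    { toFun := fun z => Red.gmFn (lift (cpt e T z) (𝟙 T) ≫ φ)
      map_one' := by
        have h0 := hφ T 1 1 (𝟙 T)
        rw [_root_.one_mul] at h0
        show Red.gmFn (lift (cpt e T 1) (𝟙 T) ≫ φ) = 1
        have h1 := congrArg Red.gmFn h0
        rw [gmFn_mul] at h1
        rw [cpt_one he]
        exact ((gmFn_isUnit (lift (1 : T ⟶ P) (𝟙 T) ≫ φ)).mul_eq_left).1 h1.symm
      map_mul' := fun m n => by rw [← cpt_mul he, hφ, gmFn_mul] }
  obtain ⟨c', hc', hc'u⟩ := hj _ v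
  obtain ⟨a, ha⟩ := dsFn_surjective (S := S) (M := M) (X := T) c'
  have key : ∀ (b : T ⟶ Red.DS S M) (z : Z),
      lift (cpt e T z) (𝟙 T) ≫ (P ◁ b) ≫ υ = b ≫ Red.chi S (Multiplicative.toAdd (j z)) := fun b z => by
    rw [lift_whiskerLeft_assoc, Category.id_comp, hυ]
  refine ⟨a, hom_ext_const e _ _ fun z => ?_, fun b hb => dsFn_injective fun m => ?_⟩
  · rw [key]
    refine gmFn_injective ?_
    rw [gmFn_chi, ha, ofAdd_toAdd]
    exact DFunLike.congr_fun hc' z
  · let cb : Multiplicative M →* Γ(T.left, ⊤) :=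
      { toFun := fun m => dsFn b (Multiplicative.toAdd m)
        map_one' := dsFn_zero _
        map_mul' := fun m n => dsFn_add _ _ _ }
    have hcb : cb = c' := hc'u cb (MonoidHom.ext fun z => by
      show dsFn b (Multiplicative.toAdd (j z)) = Red.gmFn (lift (cpt e T z) (𝟙 T) ≫ φ)
      rw [← hb, key, gmFn_chi])
    rw [ha, ← hcb]
    rfl

end Groth.Agent.Const38
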