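import Groth.Agent.Const38.HomFpqc
import Groth.Agent.Const38.TwDualLocal
import Groth.Agent.Desc59.DDSigma

/-! The dual of a twisted constant group is of multiplicative type. -/

set_option autoImplicit false
set_option linter.style.haveILetI false
universe u

open CategoryTheory CategoryTheory.Limits MonoidalCategory CartesianMonoidalCategory MonObj AlgebraicGeometry

namespace Groth.Agent.Const38

open Groth.Agent.RedPts82

section Sigma

variable {S : Scheme.{u}} {J : Type u}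

/-- The disjoint union. -/
noncomputable abbrev sig (X : J → Over S) : Over S := Over.mk (Sigma.desc fun i => (X i).hom)

/-- A member of the disjoint union. -/
noncomputable def sigInc (X : J → Over S) (i : J) : X i ⟶ sig X :=
  Over.homMk (Sigma.ι (fun i => (X i).left) i) (Sigma.ι_desc _ _)

theorem sig_hom_ext {X : J → Over S} {T G : Over S} (x : T ⟶ sig X) (a b : T ⟶ G)
    (h : ∀ (i : J) (Y : Over S) (c : Y ⟶ T) (x' : Y ⟶ X i), c ≫ x = x' ≫ sigInc X i → c ≫ a = c ≫ b) :
    a = b := by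
  refine Over.OverMorphism.ext (Desc59.Sigma'.hom_ext (X := fun i => (X i).left) x.left fun i T' c x' hc => ?_)
  let Y : Over S := Over.mk (c ≫ T.hom)
  have hx : x' ≫ (X i).hom = c ≫ T.hom := by
    rw [← Over.w (sigInc X i), ← Over.w x]
    show x' ≫ Sigma.ι (fun i => (X i).left) i ≫ _ = c ≫ x.left ≫ _
    rw [← Category.assoc, ← Category.assoc, hc]
  exact congrArg (fun k : Y ⟶ G => k.left)
    (h i Y (Over.homMk c rfl) (Over.homMk x' hx) (Over.OverMorphism.ext hc))

theorem exists_sig_glue {X : J → Over S} {T G : Over S} (x : T ⟶ sig X)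
    (F : ∀ (i : J) {Y : Over S}, (Y ⟶ T) → (Y ⟶ X i) → (Y ⟶ G))
    (hF : ∀ (i : J) {Y Y' : Over S} (k : Y' ⟶ Y) (c : Y ⟶ T) (x' : Y ⟶ X i),
      c ≫ x = x' ≫ sigInc X i → k ≫ F i c x' = F i (k ≫ c) (k ≫ x')) :
    ∃ g : T ⟶ G, ∀ (i : J) (Y : Over S) (c : Y ⟶ T) (x' : Y ⟶ X i),
      c ≫ x = x' ≫ sigInc X i → c ≫ g = F i c x' := by
  let P : J → Over S := fun i => Over.mk (pullback.fst x.left (Sigma.ι (fun i => (X i).left) i) ≫ T.hom)
  let c₀ : ∀ i, P i ⟶ T := fun i => Over.homMk (pullback.fst x.left (Sigma.ι (fun i => (X i).left) i)) rfl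
  let x₀ : ∀ i, P i ⟶ X i := fun i => Over.homMk (pullback.snd x.left (Sigma.ι (fun i => (X i).left) i)) (by
    show _ ≫ (X i).hom = pullback.fst x.left (Sigma.ι (fun i => (X i).left) i) ≫ T.hom
    rw [← Over.w x, pullback.condition_assoc, ← Over.w (sigInc X i)]
    rfl)
  have h₀ : ∀ i, c₀ i ≫ x = x₀ i ≫ sigInc X i := fun i => Over.OverMorphism.ext pullback.condition
  obtain ⟨g, hg⟩ := Desc59.Sigma'.exists_glue (X := fun i => (X i).left) x.left fun i => (F i (c₀ i) (x₀ i)).left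
  have hgw : g ≫ G.hom = T.hom :=
    Desc59.Sigma'.hom_ext (X := fun i => (X i).left) x.left fun i T' c x' hc => by
      have : c = pullback.lift c x' hc ≫ pullback.fst x.left (Sigma.ι (fun i => (X i).left) i) :=
        (pullback.lift_fst _ _ _).symm
      rw [this, Category.assoc, Category.assoc, ← Category.assoc _ g, hg, Over.w]
      rfl
  refine ⟨Over.homMk g hgw, fun i Y c x' hc => ?_⟩
  have hc' : c.left ≫ x.left = x'.left ≫ Sigma.ι (fun i => (X i).left) i :=
    congrArg (fun k : Y ⟶ sig X => k.left) hc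
  let k : Y ⟶ P i := Over.homMk (pullback.lift c.left x'.left hc') (by
    show _ ≫ pullback.fst _ _ ≫ T.hom = Y.hom
    rw [pullback.lift_fst_assoc, Over.w])
  have e1 : k ≫ c₀ i = c := Over.OverMorphism.ext (pullback.lift_fst _ _ _)
  have e2 : k ≫ x₀ i = x' := Over.OverMorphism.ext (pullback.lift_snd _ _ _)
  calc c ≫ Over.homMk g hgw = k ≫ c₀ i ≫ Over.homMk g hgw := by rw [← Category.assoc, e1]
    _ = k ≫ F i (c₀ i) (x₀ i) := by
      congr 1
      exact Over.OverMorphism.ext (hg i)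
    _ = F i c x' := by rw [hF i k _ _ (h₀ i), e1, e2]

variable {R G : Over S} [GrpObj R] [GrpObj G]

/-- Universal families over the members of a disjoint union give one over the union. -/
theorem exists_sig_univ_map (U A : J → Over S) (q : ∀ i, A i ⟶ U i)
    (υ : ∀ i, R ⊗ A i ⟶ G) (hυ : ∀ i, IsUnivOver (q i) (υ i)) :
    ∃ (q' : sig A ⟶ sig U) (υ' : R ⊗ sig A ⟶ G), q'.left = (Limits.Sigma.map fun i => (q i).left) ∧ IsUnivOver q' υ' ∧
      ∀ i, (R ◁ sigInc A i) ≫ υ' = υ i := by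
  let q' : sig A ⟶ sig U := Over.homMk (Limits.Sigma.map fun i => (q i).left)
    (Sigma.hom_ext _ _ fun i => by
      show Sigma.ι (fun i => (A i).left) i ≫ (Limits.Sigma.map fun i => (q i).left) ≫ Sigma.desc _ =
        Sigma.ι (fun i => (A i).left) i ≫ Sigma.desc _
      rw [Limits.Sigma.ι_map_assoc, Sigma.ι_desc, Sigma.ι_desc]
      exact Over.w (q i))
  have hq' : ∀ i, sigInc A i ≫ q' = q i ≫ sigInc U i := fun i =>
    Over.OverMorphism.ext (Limits.Sigma.ι_map (fun i => (q i).left) i)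
  obtain ⟨υ', hυ'⟩ := exists_sig_glue (X := A) (G := G) (snd R (sig A))
    (fun i {Y} c x' => lift (c ≫ fst _ _) x' ≫ υ i)
    (fun i Y Y' k c x' _ => by rw [comp_lift_assoc, Category.assoc])
  have hinc : ∀ i, (R ◁ sigInc A i) ≫ υ' = υ i := fun i => by
    rw [hυ' i _ (R ◁ sigInc A i) (snd R (A i)) (whiskerLeft_snd _ _), whiskerLeft_fst, lift_fst_snd,
      Category.id_comp]
  have hfam : AutFam.IsHomFamily R G υ' := fun X g₁ g₂ t => sig_hom_ext t _ _ fun i Y c x' hc => by
    have k : ∀ g : X ⟶ R, c ≫ lift g t ≫ υ' = lift (c ≫ g) x' ≫ υ i := fun g => by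
      rw [← Category.assoc, hυ' i Y (c ≫ lift g t) x' (by rw [Category.assoc, lift_snd, hc]),
        Category.assoc, lift_fst]
    rw [MonObj.comp_mul, k, k, k, MonObj.comp_mul]
    exact (hυ i).1 _ _ _ _
  refine ⟨q', υ', rfl, ⟨hfam, fun T x φ hφ => ?_⟩, hinc⟩
  have hun : ∀ (i : J) {Y : Over S} (c : Y ⟶ T) (x' : Y ⟶ U i), ∃! a : Y ⟶ A i,
      a ≫ q i = x' ∧ (R ◁ a) ≫ υ i = (R ◁ c) ≫ φ :=
    fun i {Y} c x' => (hυ i).2 Y x' _ (isHomFamily_precomp R G c hφ)
  choose ai hai haiu using hun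
  obtain ⟨a, ha⟩ := exists_sig_glue (X := U) (G := sig A) x (fun i {Y} c x' => ai i c x' ≫ sigInc A i)
    (fun i Y Y' k c x' _ => by
      rw [← Category.assoc]
      refine congrArg (· ≫ sigInc A i) (haiu i (k ≫ c) (k ≫ x') _ ⟨?_, ?_⟩)
      · rw [Category.assoc, (hai i c x').1]
      · rw [MonoidalCategory.whiskerLeft_comp, Category.assoc, (hai i c x').2,
          MonoidalCategory.whiskerLeft_comp, Category.assoc])
  refine ⟨a, ⟨?_, ?_⟩, fun b hb => ?_⟩
  · refine sig_hom_ext x _ _ fun i Y c x' hc => ?_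
    rw [← Category.assoc, ha i Y c x' hc, Category.assoc, hq', ← Category.assoc, (hai i c x').1, hc]
  · refine sig_hom_ext (snd R T ≫ x) _ _ fun i Y c x' hc => ?_
    have hc' : (c ≫ snd R T) ≫ x = x' ≫ sigInc U i := by rw [Category.assoc]; exact hc
    rw [← Category.assoc, hυ' i Y (c ≫ (R ◁ a)) (ai i (c ≫ snd R T) x') (by
      rw [Category.assoc, whiskerLeft_snd, ← Category.assoc, ha i Y (c ≫ snd R T) x' hc'])]
    rw [Category.assoc, whiskerLeft_fst]
    have e1 : lift (c ≫ fst R T) (ai i (c ≫ snd R T) x') ≫ υ i =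
        lift (c ≫ fst R T) (𝟙 Y) ≫ (R ◁ (c ≫ snd R T)) ≫ φ := by
      rw [← (hai i (c ≫ snd R T) x').2, lift_whiskerLeft_assoc, Category.id_comp]
    rw [e1, lift_whiskerLeft_assoc, Category.id_comp, lift_comp_fst_snd]
  · refine sig_hom_ext x _ _ fun i Y c x' hc => ?_
    have hb' : (c ≫ b).left ≫ q'.left = x'.left ≫ Sigma.ι (fun i => (U i).left) i := by
      rw [← Over.comp_left, Category.assoc, hb.1, hc]
      rfl
    obtain ⟨l, hl₁, hl₂⟩ : ∃ l : Y.left ⟶ (A i).left,
        l ≫ Sigma.ι (fun i => (A i).left) i = (c ≫ b).left ∧ l ≫ (q i).left = x'.left :=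
      ⟨(Desc59.Sigma'.isPullback_map (fun i => (q i).left) i).lift _ _ hb',
        IsPullback.lift_fst _ _ _ _, IsPullback.lift_snd _ _ _ _⟩
    let bi : Y ⟶ A i := Over.homMk l (by rw [← Over.w (q i), reassoc_of% hl₂, Over.w])
    have hbi : bi ≫ sigInc A i = c ≫ b := Over.OverMorphism.ext hl₁
    rw [ha i Y c x' hc, ← hbi]
    refine congrArg (· ≫ sigInc A i) (haiu i c x' bi ⟨Over.OverMorphism.ext hl₂, ?_⟩)
    rw [← hinc, ← Category.assoc, ← MonoidalCategory.whiskerLeft_comp, hbi,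
      MonoidalCategory.whiskerLeft_comp, Category.assoc, hb.2]

theorem exists_sig_univ (U A : J → Over S) (q : ∀ i, A i ⟶ U i) (hq : ∀ i, IsAffineHom (q i).left)
    (υ : ∀ i, R ⊗ A i ⟶ G) (hυ : ∀ i, IsUnivOver (q i) (υ i)) :
    ∃ (q' : sig A ⟶ sig U) (υ' : R ⊗ sig A ⟶ G), IsAffineHom q'.left ∧ IsUnivOver q' υ' ∧
      ∀ i, (R ◁ sigInc A i) ≫ υ' = υ i := by
  obtain ⟨q', υ', hmap, hU, hinc⟩ := exists_sig_univ_map U A q υ hυ
  have haff : IsAffineHom q'.left := by
    rw [hmap]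
    refine IsZariskiLocalAtTarget.of_openCover (P := @IsAffineHom) (sigmaOpenCover fun i => (U i).left) ?_
    intro (i : J)
    show IsAffineHom (pullback.snd (Limits.Sigma.map fun i => (q i).left) (Sigma.ι (fun i => (U i).left) i))
    rw [← (Desc59.Sigma'.isPullback_map (fun i => (q i).left) i).isoPullback_inv_snd,
      MorphismProperty.cancel_left_of_respectsIso (P := @IsAffineHom)]
    exact hq i
  exact ⟨q', υ', haff, hU, hinc⟩

end Sigma

/-- Families over a scheme over `S'` are determined by their values at points over `S'`. -/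
theorem hom_ext_map {S S' : Scheme.{u}} (g : S' ⟶ S) {R G : Over S} {Y : Over S'}
    (φ φ' : R ⊗ (Over.map g).obj Y ⟶ G)
    (h : ∀ (Y' : Over S') (r : Y' ⟶ Red.bc g R) (k : Y' ⟶ Y),
      lift (toBase g r) ((Over.map g).map k) ≫ φ = lift (toBase g r) ((Over.map g).map k) ≫ φ') : φ = φ' := by
  let Z := (Over.map g).obj Y
  let Y' : Over S' := Over.mk ((snd R Z).left ≫ Y.hom)
  let c : (Over.map g).obj Y' ⟶ R ⊗ Z := Over.homMk (𝟙 _) (by
    show 𝟙 _ ≫ (R ⊗ Z).hom = ((snd R Z).left ≫ Y.hom) ≫ g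
    rw [Category.id_comp, Category.assoc]
    exact (Over.w (snd R Z)).symm)
  have : IsIso c := by
    have : IsIso ((Over.forget S).map c) := inferInstanceAs (IsIso (𝟙 (R ⊗ Z).left))
    exact isIso_of_reflects_iso c (Over.forget S)
  let k : Y' ⟶ Y := Over.homMk (snd R Z).left rfl
  have e1 : c ≫ snd R Z = (Over.map g).map k := Over.OverMorphism.ext (Category.id_comp _)
  have e2 : c = lift (toBase g (ofBase g (c ≫ fst R Z))) ((Over.map g).map k) := by
    rw [toBase_ofBase, ← e1, lift_comp_fst_snd]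
  rw [← cancel_epi c, e2]
  exact h _ _ _

/-- An iso of constant schemes on isomorphic index types. -/
theorem exists_constULift {U : Scheme.{u}} {M : Type} [Group M] {P : Over U} [GrpObj P]
    (e : P ≅ TwC.const U M) (he : TwC.IsConstGrp M P e) :
    ∃ e' : P ≅ TwC.const U (ULift.{u} M), TwC.IsConstGrp (ULift.{u} M) P e' := by
  let up : TwC.const U M ⟶ TwC.const U (ULift.{u} M) := TwC.constMap U ULift.up
  let down : TwC.const U (ULift.{u} M) ⟶ TwC.const U M := TwC.constMap U ULift.down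
  let i : TwC.const U M ≅ TwC.const U (ULift.{u} M) :=
    { hom := up
      inv := down
      hom_inv_id := Over.OverMorphism.ext (Sigma.hom_ext _ _ fun m => by simp [up, down, TwC.constMap])
      inv_hom_id := Over.OverMorphism.ext (Sigma.hom_ext _ _ fun m => by simp [up, down, TwC.constMap]) }
  refine ⟨e ≪≫ i, fun m n => ?_⟩
  have k : ∀ a : ULift.{u} M, TwC.pt U (ULift.{u} M) a ≫ (e ≪≫ i).inv = TwC.pt U M a.down ≫ e.inv := fun a => by
    rw [Iso.trans_inv, ← Category.assoc]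
    refine congrArg (· ≫ e.inv) (Over.OverMorphism.ext ?_)
    simp [i, down, TwC.constMap, TwC.pt]
  rw [k, k, k]
  exact he m.down n.down

/-- The canonical map of a small group to its abelianization is universal among commutative monoids. -/
theorem abelianization_universal (M : Type) [Group M] :
    ∃ j : ULift.{u} M →* Multiplicative (Additive (Abelianization M)),
      ∀ (C : Type u) [CommMonoid C] (c : ULift.{u} M →* C),
        ∃! c' : Multiplicative (Additive (Abelianization M)) →* C, c'.comp j = c := by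
  let j : ULift.{u} M →* Multiplicative (Additive (Abelianization M)) :=
    { toFun := fun m => Multiplicative.ofAdd (Additive.ofMul (Abelianization.of m.down))
      map_one' := by simp
      map_mul' := fun a b => by simp }
  refine ⟨j, fun C _ c => ?_⟩
  let u : M →* Cˣ := c.toHomUnits.comp
    { toFun := ULift.up, map_one' := rfl, map_mul' := fun _ _ => rfl }
  let c' : Multiplicative (Additive (Abelianization M)) →* C :=
    { toFun := fun x => ((Abelianization.lift u (Additive.toMul (Multiplicative.toAdd x)) : Cˣ) : C)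
      map_one' := by simp
      map_mul' := fun a b => by simp }
  refine ⟨c', MonoidHom.ext fun m => ?_, fun d hd => MonoidHom.ext fun x => ?_⟩
  · show ((Abelianization.lift u (Abelianization.of m.down) : Cˣ) : C) = c m
    rw [Abelianization.lift_apply_of]
    rfl
  · obtain ⟨m, hm⟩ := QuotientGroup.mk_surjective (Additive.toMul (Multiplicative.toAdd x))
    have hx : j ⟨m⟩ = x := by
      show Multiplicative.ofAdd (Additive.ofMul (Abelianization.of m)) = x
      rw [show Abelianization.of m = Additive.toMul (Multiplicative.toAdd x) from hm]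
      rfl
    rw [← hx]
    show d (j ⟨m⟩) = ((Abelianization.lift u (Abelianization.of m) : Cˣ) : C)
    rw [Abelianization.lift_apply_of]
    exact DFunLike.congr_fun hd ⟨m⟩

/-- Base change of a dual to a chart is the diagonalisable group of the chart. -/
theorem exists_bc_dual_iso {S S' : Scheme.{u}} (g : S' ⟶ S) {R G D : Over S} [GrpObj R] [GrpObj G] [GrpObj D]
    {υ : R ⊗ D ⟶ G} (hD : AutFam.RepresentsHom R G D υ)
    (hmul : ∀ (X : Over S) (r : X ⟶ R) (a b : X ⟶ D), lift r (a * b) ≫ υ = (lift r a ≫ υ) * (lift r b ≫ υ))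
    {Q G' : Over S'} [GrpObj Q] [GrpObj G'] (υ₀ : Red.bc g R ⊗ Q ⟶ G')
    (hmul₀ : ∀ (X : Over S') (r : X ⟶ Red.bc g R) (a b : X ⟶ Q),
      lift r (a * b) ≫ υ₀ = (lift r a ≫ υ₀) * (lift r b ≫ υ₀))
    (eGi : G' ⟶ Red.bc g G) [IsMonHom eGi] (υ₁ : R ⊗ (Over.map g).obj Q ⟶ G)
    (hfam₁ : AutFam.IsHomFamily R G υ₁)
    (hform : ∀ (Y : Over S') (r : Y ⟶ Red.bc g R) (t : Y ⟶ Q),
      lift (toBase g r) ((Over.map g).map t) ≫ υ₁ = toBase g (lift r t ≫ υ₀ ≫ eGi))
    (huniv : ∀ (T : Over S) (x : T ⟶ Over.mk g) (φ : R ⊗ T ⟶ G), AutFam.IsHomFamily R G φ →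
      ∃! a : T ⟶ (Over.map g).obj Q, a ≫ (Over.homMk Q.hom : (Over.map g).obj Q ⟶ Over.mk g) = x ∧
        (R ◁ a) ≫ υ₁ = φ) :
    Nonempty (Grp.mk (Red.bc g D) ≅ Grp.mk Q) := by
  obtain ⟨a, ha, -⟩ := hD.2 _ υ₁ hfam₁
  let F : Q ⟶ Red.bc g D := ofBase g a
  let Y : Over S' := Red.bc g D
  let y : (Over.map g).obj Y ⟶ D := toBase g (𝟙 _)
  obtain ⟨b, ⟨hb₁, hb₂⟩, -⟩ := huniv _ (Over.homMk Y.hom : (Over.map g).obj Y ⟶ Over.mk g)
    ((R ◁ y) ≫ υ) (isHomFamily_precomp R _ y hD.1)
  let F' : Y ⟶ Q := Over.homMk b.left (congrArg (fun k : (Over.map g).obj Y ⟶ Over.mk g => k.left) hb₁)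
  have hF' : (Over.map g).map F' = b := Over.OverMorphism.ext rfl
  have hFy : (Over.map g).map F ≫ y = a := by
    rw [← toBase_comp, Category.comp_id, toBase_ofBase]
  have h1 : F' ≫ F = 𝟙 _ := by
    refine toBase_injective g ?_
    rw [toBase_comp, toBase_ofBase, hF']
    exact (hD.2 _ _ (isHomFamily_precomp R _ _ hD.1)).unique
      (by rw [MonoidalCategory.whiskerLeft_comp, Category.assoc, ha, hb₂]) rfl
  have h2 : F ≫ F' = 𝟙 _ := by
    suffices h : (Over.map g).map (F ≫ F') = (Over.map g).map (𝟙 Q) from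
      Over.OverMorphism.ext (congrArg (fun k : (Over.map g).obj Q ⟶ (Over.map g).obj Q => k.left) h)
    refine (huniv _ (Over.homMk Q.hom) υ₁ hfam₁).unique ⟨?_, ?_⟩ ⟨?_, ?_⟩
    · exact Over.OverMorphism.ext (Over.w (F ≫ F'))
    · rw [Functor.map_comp, hF', MonoidalCategory.whiskerLeft_comp, Category.assoc, hb₂, ← Category.assoc,
        ← MonoidalCategory.whiskerLeft_comp, hFy, ha]
    · exact Over.OverMorphism.ext (Over.w (𝟙 Q))
    · rw [CategoryTheory.Functor.map_id, MonoidalCategory.whiskerLeft_id, Category.id_comp]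
  have : IsMonHom F := isMonHom_of_points _ fun T t t' => toBase_injective g (by
    rw [toBase_mul, toBase_comp, toBase_comp, toBase_comp, toBase_ofBase]
    refine (hD.2 _ _ (isHomFamily_precomp R _ _ hD.1)).unique ?_ rfl
    refine hom_ext_map g _ _ fun Y' r k => ?_
    have key : ∀ z : T ⟶ Q, lift (toBase g r) ((Over.map g).map k ≫ (Over.map g).map z ≫ a) ≫ υ =
        toBase g (lift r (k ≫ z) ≫ υ₀ ≫ eGi) := fun z => by
      rw [← hform, ← ha, lift_whiskerLeft_assoc, Functor.map_comp, Category.assoc]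
    rw [lift_whiskerLeft_assoc, lift_whiskerLeft_assoc, key]
    simp only [MonObj.comp_mul]
    rw [hmul, key, key, ← toBase_mul, ← Category.assoc, hmul₀, MonObj.mul_comp, Category.assoc, Category.assoc])
  let e₁ : Q ≅ Red.bc g D := ⟨F, F', h2, h1⟩
  have : IsMonHom e₁.hom := this
  exact ⟨(Grp.mkIso' e₁).symm⟩

/-- The Cartier dual of a twisted constant group is of multiplicative type. -/
theorem exists_twDual {S : Scheme.{u}} (R : Over S) [GrpObj R]
    (hR : TwC.Locally S TwC.Topology.fpqc (fun S' f => ∃ (M : Type) (_ : Group M) (e : Red.bc f R ≅ TwC.const S' M),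
      TwC.IsConstGrp M (Red.bc f R) e)) :
    ∃ (D : Over S) (_ : GrpObj D) (υ : R ⊗ D ⟶ Red.Gm S), AutFam.RepresentsHom R (Red.Gm S) D υ ∧
      (∀ (X : Over S) (r : X ⟶ R) (a b : X ⟶ D), lift r (a * b) ≫ υ = (lift r a ≫ υ) * (lift r b ≫ υ)) ∧
      TwC.Locally S TwC.Topology.fpqc (fun S' f => ∃ (M : Type) (_ : AddCommGroup M),
        Nonempty (Grp.mk (Red.bc f D) ≅ Grp.mk (Red.DS S' M))) := by
  obtain ⟨S', f, hf, hfs, hfc, hloc⟩ := hR
  choose U hsU M iM e he using hloc
  have hloc' : ∀ s : S', ∃ (e' : Red.bc ((U s).ι ≫ f) R ≅ TwC.const (U s : Scheme.{u}) (ULift.{u} (M s))),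
      TwC.IsConstGrp (ULift.{u} (M s)) (Red.bc ((U s).ι ≫ f) R) e' := fun s => exists_constULift (e s) (he s)
  choose e' he' using hloc'
  choose j hj using fun s => abelianization_universal.{u} (M s)
  choose υ₀ hfam₀ hmul₀ huniv₀ using fun s => exists_const_char (j s) (hj s) (e' s) (he' s)
  let g : ∀ s : S', (U s : Scheme.{u}) ⟶ S := fun s => (U s).ι ≫ f
  let eG : ∀ s, Grp.mk (Red.bc (g s) (Red.Gm S)) ≅ Grp.mk (Red.Gm (U s : Scheme.{u})) := fun s =>
    (grpIso_bc_DS (g s) ℤ).some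
  choose υ₁ hfam₁ hform₁ huniv₁ using fun s =>
    exists_transfer (g s) (Iso.refl (Grp.mk (Red.bc (g s) R))) (eG s) (υ₀ s) (hfam₀ s) (huniv₀ s)
  let W : S' → Over S := fun s => Over.mk (g s)
  let A : S' → Over S := fun s => (Over.map (g s)).obj (Red.DS (U s : Scheme.{u}) (Additive (Abelianization (M s))))
  let q : ∀ s, A s ⟶ W s := fun s =>
    Over.homMk (Red.DS (U s : Scheme.{u}) (Additive (Abelianization (M s)))).hom
  have hq : ∀ s, IsAffineHom (q s).left := fun s => by
    exact isAffineHom_DS (U s : Scheme.{u}) (Additive (Abelianization (M s)))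
  obtain ⟨q', υ', haff, hU', -⟩ := exists_sig_univ W A q hq υ₁ (fun s => ⟨hfam₁ s, huniv₁ s⟩)
  -- the covering
  let cU : (∐ fun s : S' => (U s : Scheme.{u})) ⟶ S' := Sigma.desc fun s => (U s).ι
  have hW : (sig W).hom = cU ≫ f := Sigma.hom_ext _ _ fun s => by
    show Sigma.ι (fun s : S' => (U s : Scheme.{u})) s ≫ Sigma.desc (fun s => g s) = _
    rw [Sigma.ι_desc, Sigma.ι_desc_assoc]
  have : Surjective cU := ⟨fun s => ⟨Sigma.ι (fun s : S' => (U s : Scheme.{u})) s ⟨s, hsU s⟩, by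
    rw [← Scheme.Hom.comp_apply, Sigma.ι_desc]; rfl⟩⟩
  have : IsZariskiLocalAtSource (@Flat : MorphismProperty Scheme.{u}) :=
    HasRingHomProperty.instIsZariskiLocalAtSource
  have : IsZariskiLocalAtSource (@LocallyOfFinitePresentation : MorphismProperty Scheme.{u}) :=
    HasRingHomProperty.instIsZariskiLocalAtSource
  have : Flat cU := IsZariskiLocalAtSource.sigmaDesc fun s => (inferInstance : Flat (U s).ι)
  have : LocallyOfFinitePresentation cU :=
    IsZariskiLocalAtSource.sigmaDesc fun s => (inferInstance : LocallyOfFinitePresentation (U s).ι)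
  have : Desc59.IsFpqcMor f := isFpqcMor_of_compact f hfc
  have : Desc59.IsFpqcMor cU := Desc59.IsFpqcMor.of_lfp cU
  have : Desc59.IsFpqcMor (sig W).hom := hW ▸ Desc59.IsFpqcMor.comp cU f
  have : Surjective (sig W).hom := hW ▸ inferInstanceAs (Surjective (cU ≫ f))
  have : Flat (sig W).hom := hW ▸ inferInstanceAs (Flat (cU ≫ f))
  obtain ⟨D, υ, hD⟩ := exists_representsHom_fpqc hU'
  obtain ⟨iD, hmul⟩ := exists_grpObj R (Red.Gm S) (fun X a b => gm_comm a b) hD
  refine ⟨D, iD, υ, hD, hmul, S', f, hf, hfs, hfc, fun s => ⟨U s, hsU s, Additive (Abelianization (M s)), inferInstance, ?_⟩⟩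
  have h3 : ∀ (Y : Over (U s : Scheme.{u})) (r : Y ⟶ Red.bc (g s) R)
      (t : Y ⟶ Red.DS (U s : Scheme.{u}) (Additive (Abelianization (M s)))),
      lift (toBase (g s) r) ((Over.map (g s)).map t) ≫ υ₁ s =
        toBase (g s) (lift r t ≫ υ₀ s ≫ (eG s).inv.hom.hom) := fun Y r t => by
    have h := hform₁ s Y r t
    rw [show r ≫ (Iso.refl (Grp.mk (Red.bc (g s) R))).inv.hom.hom = r from Category.comp_id r] at h
    exact h
  exact exists_bc_dual_iso (g s) (G' := Red.Gm (U s : Scheme.{u})) hD hmul (υ₀ s) (hmul₀ s)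
    ((eG s).inv.hom.hom) (υ₁ s) (hfam₁ s) h3 (huniv₁ s)

end Groth.Agent.Const38
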