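import Groth.Agent.Const38.Etale
import Groth.Agent.Grp57.IdentityComponent
import Groth.Agent.Grp57.Morph

/-! Extensions of a connected group over a field by a torsion-free constant group split. -/

set_option autoImplicit false
universe u

open CategoryTheory CategoryTheory.Limits MonoidalCategory CartesianMonoidalCategory MonObj AlgebraicGeometry

namespace Groth.Agent.Const38

variable {k : Type u} [Field k] {Z : Type u} [Group Z]
  {P E G : Over (Spec (CommRingCat.of k))} [GrpObj P] [GrpObj E] [GrpObj G]

omit [Group Z] in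
theorem isPullback_ker {u : G ⟶ E} {v : E ⟶ P} (hex : NonAbH1.IsExactSeq Scheme.fppfPrecoverage u v) :
    IsPullback u (toUnit G) v η[P] := by
  have huv : u ≫ v = toUnit G ≫ η[P] := by rw [hex.2.2.1, Hom.one_def]
  have hex' : ∀ c : PullbackCone v η[P], ∃ h : c.pt ⟶ G, c.fst = h ≫ u := fun c =>
    ExtGrp38.ker_exists_one hex (by rw [c.condition, toUnit_unique c.snd (toUnit _), Hom.one_def])
  choose h hh using hex'
  exact ⟨⟨huv⟩, ⟨PullbackCone.IsLimit.mk _ h (fun c => (hh c).symm) (fun c => toUnit_unique _ _)
    (fun c m e1 _ => ExtGrp38.ker_unique hex (e1.trans (hh c)))⟩⟩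

omit [Group Z] in
theorem isClosedImmersion_ker {u : G ⟶ E} {v : E ⟶ P} (hex : NonAbH1.IsExactSeq Scheme.fppfPrecoverage u v) :
    IsClosedImmersion u.left := by
  have := Grp57.isSeparated_of_field P
  have hη : IsClosedImmersion (η[P]).left := by
    have : IsClosedImmersion ((η[P]).left ≫ P.hom) := by
      rw [Over.w η[P]]; exact inferInstanceAs (IsClosedImmersion (𝟙 (Spec (CommRingCat.of k))))
    exact IsClosedImmersion.of_comp _ P.hom
  exact MorphismProperty.of_isPullback ((isPullback_ker hex).map (Over.forget _)).flip hη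

theorem exists_splitting (hZ : ∀ z : Z, IsOfFinOrder z → z = 1) [LocallyOfFiniteType P.hom]
    [ConnectedSpace P.left] (eG : G ≅ TwC.const (Spec (CommRingCat.of k)) Z) (hG : TwC.IsConstGrp Z G eG)
    {u : G ⟶ E} {v : E ⟶ P} (hex : NonAbH1.IsExactSeq Scheme.fppfPrecoverage u v) :
    ∃ s : P ⟶ E, IsMonHom s ∧ s ≫ v = 𝟙 P := by
  have := hex.1
  have := hex.2.1
  have := etale_const eG
  obtain ⟨hve, -⟩ := etale_of_exact hex
  have : LocallyOfFiniteType E.hom := by rw [← Over.w v]; infer_instance
  have := isClosedImmersion_ker hex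
  have : IsLocallyNoetherian E.left := LocallyOfFiniteType.isLocallyNoetherian E.hom
  obtain ⟨E₀, _, incl, _, hcl, hfl, hrange, -, hcomp⟩ := Grp57.exists_identityComponent E
  have : Mono incl.left := inferInstance
  have : IsOpenImmersion incl.left := IsOpenImmersion.of_flat_of_mono _
  -- indices of the kernel inside the identity component
  let Hs : Set Z := index eG '' (u.left ⁻¹' Set.range incl.left)
  have hHs : Hs.Finite := by
    have hK : IsCompact (u.left ⁻¹' Set.range incl.left) :=
      u.left.isClosedEmbedding.isCompact_preimage (isCompact_range incl.left.continuous)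
    letI : TopologicalSpace Z := ⊥
    haveI : DiscreteTopology Z := ⟨rfl⟩
    exact (hK.image (isLocallyConstant_index eG).continuous).finite_of_discrete
  have hone : ∀ m ∈ Hs, m = 1 := by
    rintro m ⟨g, hg, rfl⟩
    let m := index eG g
    show m = 1
    let o : 𝟙_ (Over (Spec (CommRingCat.of k))) ⟶ E := cpt eG _ m ≫ u
    let T : Over (Spec (CommRingCat.of k)) := Over.mk (G.left.fromSpecResidueField g ≫ G.hom)
    let x : T ⟶ G := Over.homMk (G.left.fromSpecResidueField g) rfl
    have : ConnectedSpace T.left := inferInstanceAs (ConnectedSpace (Spec (G.left.residueField g)))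
    obtain ⟨t⟩ := (inferInstance : Nonempty T.left)
    have hxt : x.left t = g := by
      have : x.left t ∈ Set.range (G.left.fromSpecResidueField g) := ⟨t, rfl⟩
      rwa [G.left.range_fromSpecResidueField] at this
    have hx : x = cpt eG T m := eq_cpt eG x m fun t' => by
      have : x.left t' ∈ Set.range (G.left.fromSpecResidueField g) := ⟨t', rfl⟩
      rw [G.left.range_fromSpecResidueField] at this
      rw [this]
    have hpt : Set.range o.left ⊆ Set.range incl.left := by
      rintro _ ⟨p, rfl⟩
      rw [Subsingleton.elim (α := PrimeSpectrum k) p ((toUnit T).left t)]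
      have : o.left ((toUnit T).left t) = u.left g := by
        rw [← hxt]
        show ((toUnit T) ≫ o).left t = (x ≫ u).left t
        rw [show toUnit T ≫ o = x ≫ u by rw [hx, ← Category.assoc, comp_cpt]]
      rw [this]; exact hg
    let z : 𝟙_ (Over (Spec (CommRingCat.of k))) ⟶ E₀ := Over.homMk (IsOpenImmersion.lift incl.left o.left hpt) (by
      rw [← Over.w incl, IsOpenImmersion.lift_fac_assoc, Over.w])
    have hz : z ≫ incl = o := Over.OverMorphism.ext (IsOpenImmersion.lift_fac _ _ _)
    refine hZ _ ?_
    by_contra hnf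
    refine Set.infinite_range_of_injective (injective_pow_iff_not_isOfFinOrder.2 hnf) (hHs.subset ?_)
    rintro _ ⟨n, rfl⟩
    refine ⟨(cpt eG (𝟙_ _) (m ^ n)).left (IsLocalRing.closedPoint k),
      ⟨(z ^ n).left (IsLocalRing.closedPoint k), ?_⟩, index_cpt eG _ _ _⟩
    rw [← Scheme.Hom.comp_apply, ← Scheme.Hom.comp_apply, ← Over.comp_left, ← Over.comp_left, MonObj.pow_comp, hz,
      ← cpt_pow hG, MonObj.pow_comp]
  let v₀ : E₀ ⟶ P := incl ≫ v
  have hmono : Mono v₀ := ⟨fun {T} a b hab => by
    have : Mono incl := Over.mono_of_mono_left incl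
    refine (cancel_mono incl).1 ?_
    obtain ⟨h, hh⟩ := ExtGrp38.ker_exists hex (x := a ≫ incl) (y := b ≫ incl) (by simpa [v₀] using hab)
    have hin : h ≫ u = (a⁻¹ * b) ≫ incl := by rw [MonObj.mul_comp, GrpObj.inv_comp, hh, inv_mul_cancel_left]
    have h1 : h = 1 := by
      rw [← cpt_one hG T]
      refine eq_cpt eG h 1 fun t => hone _ ⟨h.left t, ⟨(a⁻¹ * b).left t, ?_⟩, rfl⟩
      rw [← Scheme.Hom.comp_apply, ← Scheme.Hom.comp_apply, ← Over.comp_left, ← Over.comp_left, hin]
    rw [hh, h1, MonObj.one_comp, _root_.mul_one]⟩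
  have : Mono v₀.left := inferInstanceAs (Mono ((Over.forget _).map v₀))
  have : Flat v₀.left := by rw [Over.comp_left]; infer_instance
  have : LocallyOfFinitePresentation v₀.left := by rw [Over.comp_left]; infer_instance
  have : IsOpenImmersion v₀.left := IsOpenImmersion.of_flat_of_mono _
  have hclosed : IsClosed (Set.range v₀.left) :=
    Grp57.isClosed_range_of_isLocallyClosed v₀ v₀.left.isOpenEmbedding.isOpen_range.isLocallyClosed
  have hne : (Set.range v₀.left).Nonempty := ⟨_, η[E₀].left (IsLocalRing.closedPoint k), rfl⟩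
  have : Surjective v₀.left := ⟨Set.range_eq_univ.1
    (IsClopen.eq_univ ⟨hclosed, v₀.left.isOpenEmbedding.isOpen_range⟩ hne)⟩
  have : IsIso v₀.left := (isIso_iff_isOpenImmersion_and_epi_base _).2 ⟨inferInstance, by
    rw [TopCat.epi_iff_surjective]; exact v₀.left.surjective⟩
  have : IsIso ((Over.forget _).map v₀) := this
  have : IsIso v₀ := isIso_of_reflects_iso v₀ (Over.forget _)
  refine ⟨inv v₀ ≫ incl, ?_, IsIso.inv_hom_id v₀⟩
  have : IsMonHom (asIso v₀).inv := inferInstance
  rw [← asIso_inv v₀] 
  infer_instance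

end Groth.Agent.Const38
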