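import Groth.Agent.Const38.BaseChange
import Groth.Agent.Const38.Split
import Groth.Agent.SGA3a.QuotCover
import Mathlib.AlgebraicGeometry.Morphisms.LocalFlatDescent
import Mathlib.AlgebraicGeometry.Geometrically.Connected

/-! Twisted constant groups are étale and separated; extensions by them split on geometric fibres. -/

set_option autoImplicit false
set_option linter.style.haveILetI false
universe u

open CategoryTheory CategoryTheory.Limits MonoidalCategory CartesianMonoidalCategory MonObj AlgebraicGeometry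

namespace Groth.Agent.Const38

/-- A constant scheme is separated. -/
theorem isSeparated_const {S : Scheme.{u}} {Z : Type u} {G : Over S} (eG : G ≅ TwC.const S Z) :
    IsSeparated G.hom := by
  suffices h : IsClosed (Set.range (pullback.diagonal G.hom)) from
    ⟨IsClosedImmersion.of_isPreimmersion _ h⟩
  have heq : Set.range (pullback.diagonal G.hom) =
      {x | index eG (pullback.fst G.hom G.hom x) = index eG (pullback.snd G.hom G.hom x)} := by
    ext x
    constructor
    · rintro ⟨y, rfl⟩
      show index eG _ = index eG _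
      rw [← Scheme.Hom.comp_apply, ← Scheme.Hom.comp_apply, pullback.diagonal_fst, pullback.diagonal_snd]
    · intro hx
      let c := (pullback G.hom G.hom).fromSpecResidueField x
      let T : Over S := Over.mk (c ≫ pullback.fst G.hom G.hom ≫ G.hom)
      let f1 : T ⟶ G := Over.homMk (c ≫ pullback.fst G.hom G.hom) (Category.assoc _ _ _)
      let f2 : T ⟶ G := Over.homMk (c ≫ pullback.snd G.hom G.hom)
        (by show _ = c ≫ _; rw [Category.assoc, ← pullback.condition])
      have : ConnectedSpace T.left := inferInstanceAs (ConnectedSpace (Spec ((pullback G.hom G.hom).residueField x)))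
      obtain ⟨m, hm⟩ := exists_eq_cpt eG f1
      obtain ⟨n, hn⟩ := exists_eq_cpt eG f2
      let o : T.left := IsLocalRing.closedPoint _
      have hc : c o = x := Scheme.fromSpecResidueField_apply _ _
      have hmn : m = n := by
        have h1 : index eG (f1.left o) = m := by rw [hm]; exact index_cpt eG T m o
        have h2 : index eG (f2.left o) = n := by rw [hn]; exact index_cpt eG T n o
        rw [← h1, ← h2]
        show index eG ((c ≫ pullback.fst G.hom G.hom) o) = index eG ((c ≫ pullback.snd G.hom G.hom) o)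
        rw [Scheme.Hom.comp_apply, Scheme.Hom.comp_apply, hc]
        exact hx
      have h12 : c ≫ pullback.fst G.hom G.hom = c ≫ pullback.snd G.hom G.hom :=
        congrArg (fun f : T ⟶ G => f.left) (show f1 = f2 by rw [hm, hn, hmn])
      refine ⟨(c ≫ pullback.fst G.hom G.hom) o, ?_⟩
      rw [← Scheme.Hom.comp_apply, show (c ≫ pullback.fst G.hom G.hom) ≫ pullback.diagonal G.hom = c by
        apply pullback.hom_ext
        · simp
        · simpa using h12]
      exact hc
  rw [heq]
  letI : TopologicalSpace Z := ⊥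
  haveI : DiscreteTopology Z := ⟨rfl⟩
  exact isClosed_eq ((isLocallyConstant_index eG).continuous.comp (pullback.fst G.hom G.hom).continuous)
    ((isLocallyConstant_index eG).continuous.comp (pullback.snd G.hom G.hom).continuous)

/-- A constant group on a small index group is constant on its lift to the universe of the base. -/
theorem exists_uliftConst {S : Scheme.{u}} {Z : Type} [Group Z] {G : Over S} [GrpObj G] {eG : G ≅ TwC.const S Z}
    (hG : TwC.IsConstGrp Z G eG) :
    ∃ e : G ≅ TwC.const S (ULift.{u} Z), TwC.IsConstGrp (ULift.{u} Z) G e := by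
  let c : TwC.const S Z ≅ TwC.const S (ULift.{u} Z) :=
    ⟨TwC.constMap S ULift.up, TwC.constMap S ULift.down,
      Over.OverMorphism.ext (Sigma.hom_ext _ _ fun m => by simp [TwC.constMap]),
      Over.OverMorphism.ext (Sigma.hom_ext _ _ fun m => by simp [TwC.constMap])⟩
  refine ⟨eG ≪≫ c, fun m n => ?_⟩
  have key : ∀ k : ULift.{u} Z, TwC.pt S (ULift.{u} Z) k ≫ (eG ≪≫ c).inv = TwC.pt S Z k.down ≫ eG.inv := fun k => by
    rw [Iso.trans_inv, ← Category.assoc]
    congr 1
    exact Over.OverMorphism.ext (Sigma.ι_desc _ _)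
  rw [key, key, key]
  exact hG _ _

variable {S : Scheme.{u}} {M : Over S}

theorem isSeparated_and_etale_of_locally [GrpObj M]
    (hM : TwC.Locally S TwC.Topology.fpqc (fun S' f =>
      ∃ (r : ℕ) (e : Red.bc f M ≅ TwC.const S' (Multiplicative (Fin r → ℤ))),
        TwC.IsConstGrp (Multiplicative (Fin r → ℤ)) (Red.bc f M) e)) :
    IsSeparated M.hom ∧ Etale M.hom := by
  obtain ⟨S', f, hf, hs, hW, hloc⟩ := hM
  have hcov : SGA3a.QuotCover.IsCov f :=
    SGA3a.QuotCover.IsCov.mk f ⟨S', f, 𝟙 S', Category.id_comp f, hs, hf, hW⟩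
  choose U hU r e he using hloc
  have key : ∀ (P : MorphismProperty Scheme.{u}) [P.IsStableUnderBaseChange] [IsZariskiLocalAtTarget P]
      (_ : ∀ s', P (Red.bc ((U s').ι ≫ f) M).hom), P (pullback.snd M.hom f) := by
    intro P _ _ hP
    rw [IsZariskiLocalAtTarget.iff_of_iSup_eq_top (P := P) U
      (top_le_iff.1 fun s _ => TopologicalSpace.Opens.mem_iSup.2 ⟨s, hU s⟩)]
    intro s
    let sq := (isPullback_morphismRestrict (pullback.snd M.hom f) (U s)).flip.paste_horiz
      (IsPullback.of_hasPullback M.hom f)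
    exact (MorphismProperty.arrow_mk_iso_iff P (Arrow.isoMk (f := Arrow.mk (pullback.snd M.hom f ∣_ U s))
      (g := Arrow.mk (pullback.snd M.hom ((U s).ι ≫ f)))
      sq.isoPullback (Iso.refl _) ((sq.isoPullback_hom_snd).trans (Category.comp_id _).symm))).2 (hP s)
  constructor
  · exact hcov.descend @IsSeparated Unr55.isSeparated (IsPullback.of_hasPullback M.hom f)
      (key @IsSeparated fun s => by
        obtain ⟨eL, -⟩ := exists_uliftConst (he s)
        exact isSeparated_const eL)
  · exact hcov.descend @Etale inferInstance (IsPullback.of_hasPullback M.hom f)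
      (key @Etale fun s => by
        obtain ⟨eL, -⟩ := exists_uliftConst (he s)
        exact etale_const eL)

variable {P E : Over S} [GrpObj P] [GrpObj E] [GrpObj M] [LocallyOfFiniteType P.hom] [GeometricallyConnected P.hom]

/-- An extension by a twisted lattice splits over some field above each point of the base. -/
theorem exists_fibre_splitting
    (hM : TwC.Locally S TwC.Topology.fpqc (fun S' f =>
      ∃ (r : ℕ) (e : Red.bc f M ≅ TwC.const S' (Multiplicative (Fin r → ℤ))),
        TwC.IsConstGrp (Multiplicative (Fin r → ℤ)) (Red.bc f M) e))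
    [Etale M.hom] {u : M ⟶ E} {v : E ⟶ P} (hex : NonAbH1.IsExactSeq Scheme.fppfPrecoverage u v) (s : S) :
    ∃ (L : CommRingCat.{u}) (_ : IsField L) (t : Spec L ⟶ S) (σ : pullback P.hom t ⟶ E.left),
      s ∈ Set.range t ∧ σ ≫ v.left = pullback.fst P.hom t ∧
        pullback.lift (t ≫ (η[P]).left) (𝟙 _) (by
          rw [Category.assoc, Over.w η[P]]; exact (Category.comp_id t).trans (Category.id_comp t).symm) ≫ σ =
          t ≫ (η[E]).left := by
  have := hex.1
  have := hex.2.1
  obtain ⟨S', f, -, hs, -, hloc⟩ := hM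
  obtain ⟨s', hs'⟩ := f.surjective s
  obtain ⟨U, hU, r, e, he⟩ := hloc s'
  let g := U.ι ≫ f
  let a := (U : Scheme.{u}).fromSpecResidueField ⟨s', hU⟩
  obtain ⟨e1, he1⟩ := exists_uliftConst he
  obtain ⟨e2, he2⟩ := exists_constGrpBC a he1
  have : Etale (Red.bc g M).hom := etale_const e1
  have hex2 := isExactSeq_bc a (isExactSeq_bc g hex)
  have : GeometricallyConnected (Red.bc g P).hom := MorphismProperty.pullback_snd _ _ inferInstance
  have : LocallyOfFiniteType (Red.bc g P).hom := MorphismProperty.pullback_snd (P := @LocallyOfFiniteType) _ _ inferInstance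
  have : LocallyOfFiniteType (Red.bc a (Red.bc g P)).hom :=
    MorphismProperty.pullback_snd (P := @LocallyOfFiniteType) _ _ inferInstance
  let L : CommRingCat.{u} := (U : Scheme.{u}).residueField ⟨s', hU⟩
  have : ConnectedSpace (Red.bc a (Red.bc g P)).left :=
    GeometricallyConnected.geometrically_connectedSpace (f := (Red.bc g P).hom) (K := L) a _ _
      (IsPullback.of_hasPullback (Red.bc g P).hom a)
  have hZ : ∀ z : ULift.{u} (Multiplicative (Fin r → ℤ)), IsOfFinOrder z → z = 1 := fun z hz => by
    obtain ⟨n, hn, h⟩ := hz.exists_pow_eq_one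
    refine ULift.ext _ _ (Multiplicative.toAdd.injective (funext fun i => ?_))
    have h' := congrFun (congrArg (fun w => Multiplicative.toAdd w.down) h) i
    simpa [hn.ne'] using h'
  obtain ⟨σ2, hσhom, hσ2⟩ := exists_splitting (k := L) hZ e2 he2 hex2
  let j := pullbackLeftPullbackSndIso P.hom g a
  have hv2 : ((Over.pullback a).map ((Over.pullback g).map v)).left ≫ pullback.fst _ _ ≫ pullback.fst _ _ =
      pullback.fst _ _ ≫ pullback.fst _ _ ≫ v.left :=
    (reassoc_of% (isPullback_bc_map a ((Over.pullback g).map v)).w.symm) _ |>.trans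
      (congrArg (pullback.fst _ a ≫ ·) (isPullback_bc_map g v).w.symm)
  refine ⟨L, Field.toIsField _, a ≫ g, j.inv ≫ σ2.left ≫ pullback.fst _ _ ≫ pullback.fst _ _, ?_, ?_, ?_⟩
  · refine ⟨IsLocalRing.closedPoint _, ?_⟩
    rw [Scheme.Hom.comp_apply, Scheme.fromSpecResidueField_apply]
    exact hs'
  · have h3 : σ2.left ≫ ((Over.pullback a).map ((Over.pullback g).map v)).left = 𝟙 _ :=
      congrArg (fun m => m.left) hσ2
    simp only [Category.assoc, ← hv2, reassoc_of% h3]
    exact pullbackLeftPullbackSndIso_inv_fst _ _ _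
  · have h1 : (1 : 𝟙_ (Over (Spec L)) ⟶ Red.bc a (Red.bc g P)) ≫ σ2 = 1 := MonObj.one_comp σ2
    have h2 : ∀ (X : Over S) [GrpObj X], (1 : 𝟙_ (Over (Spec L)) ⟶ Red.bc a (Red.bc g X)).left ≫
        pullback.fst (Red.bc g X).hom a ≫ pullback.fst X.hom g = (a ≫ g) ≫ (η[X]).left := by
      intro X _
      have hb1 : (Over.pullback a).map ((Over.pullback g).map (1 : 𝟙_ (Over S) ⟶ X)) = 1 := by
        rw [Functor.map_one, Functor.map_one]
      have hw := (isPullback_bc_map a ((Over.pullback g).map (1 : 𝟙_ (Over S) ⟶ X))).w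
      have hw' := (isPullback_bc_map g (1 : 𝟙_ (Over S) ⟶ X)).w
      let io : 𝟙_ (Over (Spec L)) ⟶ Red.bc a (Red.bc g (𝟙_ (Over S))) :=
        Functor.LaxMonoidal.ε (Over.pullback a) ≫ (Over.pullback a).map (Functor.LaxMonoidal.ε (Over.pullback g))
      have hone : (1 : 𝟙_ (Over S) ⟶ X) = η[X] := by
        rw [Hom.one_def, toUnit_unique (toUnit _) (𝟙 _), Category.id_comp]
      rw [show (1 : 𝟙_ (Over (Spec L)) ⟶ Red.bc a (Red.bc g X)) =
        io ≫ (Over.pullback a).map ((Over.pullback g).map (1 : 𝟙_ (Over S) ⟶ X)) by rw [hb1, MonObj.comp_one],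
        Over.comp_left, Category.assoc, ← reassoc_of% hw, ← hw', hone, ← Category.assoc, ← Category.assoc]
      congr 1
      have hi : io.left ≫ pullback.snd _ a = 𝟙 (Spec L) := Over.w io
      have hc1 : pullback.fst (Red.bc g (𝟙_ (Over S))).hom a ≫ pullback.fst (𝟙_ (Over S)).hom g =
          pullback.snd _ a ≫ a ≫ g := by
        have k1 := pullback.condition (f := (𝟙_ (Over S)).hom) (g := g)
        have k2 := pullback.condition (f := (Red.bc g (𝟙_ (Over S))).hom) (g := a)
        rw [show pullback.fst (𝟙_ (Over S)).hom g = pullback.snd (𝟙_ (Over S)).hom g ≫ g from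
          (Category.comp_id _).symm.trans k1, ← Category.assoc]
        exact (congrArg (· ≫ g) k2).trans (Category.assoc _ _ _)
      rw [Category.assoc, hc1]
      exact (reassoc_of% hi) (a ≫ g)
    have h1' : (1 : 𝟙_ (Over (Spec L)) ⟶ Red.bc a (Red.bc g P)).left ≫ σ2.left =
        (1 : 𝟙_ (Over (Spec L)) ⟶ Red.bc a (Red.bc g E)).left := congrArg (fun m => m.left) h1
    refine Eq.trans ?_ (((reassoc_of% h1') _).trans (h2 E))
    refine (Category.assoc _ _ _).symm.trans (congrArg (· ≫ _) ?_)
    rw [Iso.comp_inv_eq]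
    apply pullback.hom_ext
    · rw [pullback.lift_fst, Category.assoc]
      exact ((congrArg (_ ≫ ·) (pullbackLeftPullbackSndIso_hom_fst P.hom g a)).trans (h2 P)).symm
    · rw [pullback.lift_snd, Category.assoc]
      exact ((congrArg (_ ≫ ·) (pullbackLeftPullbackSndIso_hom_snd P.hom g a)).trans
        (Over.w (1 : 𝟙_ (Over (Spec L)) ⟶ Red.bc a (Red.bc g P)))).symm

end Groth.Agent.Const38
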