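import Groth.Agent.Const38.HomSheaf
import Groth.Agent.Const38.DSHomRep
import Groth.Agent.Const38.TwLattice

/-! Representability of homomorphisms between quasi-isotrivial groups of multiplicative type. -/

set_option autoImplicit false
set_option linter.style.haveILetI false
universe u

open CategoryTheory CategoryTheory.Limits MonoidalCategory CartesianMonoidalCategory MonObj AlgebraicGeometry

namespace Groth.Agent.Const38

open Groth.Agent.RedPts82 Groth.Agent.SpPts86

/-- A universal family over `S'` gives one over `S` parametrised by schemes over `S'`. -/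
theorem exists_transfer {S S' : Scheme.{u}} (g : S' ⟶ S) {H G : Over S} [GrpObj H] [GrpObj G]
    {P Q : Over S'} [GrpObj P] [GrpObj Q] (eH : Grp.mk (Red.bc g H) ≅ Grp.mk P)
    (eG : Grp.mk (Red.bc g G) ≅ Grp.mk Q) {A : Over S'} (υ' : P ⊗ A ⟶ Q)
    (hυ' : AutFam.IsHomFamily P Q υ')
    (huniv : ∀ (T : Over S') (φ : P ⊗ T ⟶ Q), AutFam.IsHomFamily P Q φ → ∃! a : T ⟶ A, (P ◁ a) ≫ υ' = φ) :
    ∃ υ : H ⊗ (Over.map g).obj A ⟶ G, AutFam.IsHomFamily H G υ ∧
      (∀ (Y : Over S') (h : Y ⟶ P) (t : Y ⟶ A),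
        lift (toBase g (h ≫ eH.inv.hom.hom)) ((Over.map g).map t) ≫ υ =
          toBase g (lift h t ≫ υ' ≫ eG.inv.hom.hom)) ∧
      ∀ (T : Over S) (x : T ⟶ Over.mk g) (φ : H ⊗ T ⟶ G), AutFam.IsHomFamily H G φ →
        ∃! a : T ⟶ (Over.map g).obj A, a ≫ (Over.homMk A.hom : (Over.map g).obj A ⟶ Over.mk g) = x ∧
          (H ◁ a) ≫ υ = φ := by
  let eHh : Red.bc g H ⟶ P := eH.hom.hom.hom
  let eHi : P ⟶ Red.bc g H := eH.inv.hom.hom
  let eGh : Red.bc g G ⟶ Q := eG.hom.hom.hom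
  let eGi : Q ⟶ Red.bc g G := eG.inv.hom.hom
  have hHhi : eHh ≫ eHi = 𝟙 _ := congrArg (fun k => k.hom.hom) eH.hom_inv_id
  have hHih : eHi ≫ eHh = 𝟙 _ := congrArg (fun k => k.hom.hom) eH.inv_hom_id
  have hGhi : eGh ≫ eGi = 𝟙 _ := congrArg (fun k => k.hom.hom) eG.hom_inv_id
  have hGih : eGi ≫ eGh = 𝟙 _ := congrArg (fun k => k.hom.hom) eG.inv_hom_id
  let toH : ∀ {Y : Over S'}, (Y ⟶ P) → ((Over.map g).obj Y ⟶ H) := fun h => toBase g (h ≫ eHi)
  let ofH : ∀ {Y : Over S'}, ((Over.map g).obj Y ⟶ H) → (Y ⟶ P) := fun h => ofBase g h ≫ eHh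
  let toG : ∀ {Y : Over S'}, (Y ⟶ Q) → ((Over.map g).obj Y ⟶ G) := fun h => toBase g (h ≫ eGi)
  let ofG : ∀ {Y : Over S'}, ((Over.map g).obj Y ⟶ G) → (Y ⟶ Q) := fun h => ofBase g h ≫ eGh
  have hto : ∀ {Y : Over S'} (h : (Over.map g).obj Y ⟶ H), toH (ofH h) = h := fun h => by
    simp only [toH, ofH, Category.assoc, hHhi, Category.comp_id, toBase_ofBase]
  have htoG : ∀ {Y : Over S'} (h : (Over.map g).obj Y ⟶ G), toG (ofG h) = h := fun h => by
    simp only [toG, ofG, Category.assoc, hGhi, Category.comp_id, toBase_ofBase]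
  have hinjG : ∀ {Y : Over S'} {a b : Y ⟶ Q}, toG a = toG b → a = b := fun {Y a b} h => by
    have h' := toBase_injective g h
    simpa only [Category.assoc, hGih, Category.comp_id] using congrArg (· ≫ eGh) h'
  have hinjH : ∀ {Y : Over S'} {a b : Y ⟶ P}, toH a = toH b → a = b := fun {Y a b} h => by
    have h' := toBase_injective g h
    simpa only [Category.assoc, hHih, Category.comp_id] using congrArg (· ≫ eHh) h'
  have hnatH : ∀ {Y Y' : Over S'} (k : Y' ⟶ Y) (h : Y ⟶ P), toH (k ≫ h) = (Over.map g).map k ≫ toH h :=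
    fun k h => by simp only [toH, toBase_comp, Functor.map_comp, Category.assoc]
  have hnatG : ∀ {Y Y' : Over S'} (k : Y' ⟶ Y) (h : Y ⟶ Q), toG (k ≫ h) = (Over.map g).map k ≫ toG h :=
    fun k h => by simp only [toG, toBase_comp, Functor.map_comp, Category.assoc]
  have hmulH : ∀ {Y : Over S'} (a b : Y ⟶ P), toH (a * b) = toH a * toH b := fun a b => by
    simp only [toH, eHi]
    rw [MonObj.mul_comp _ _ eH.inv.hom.hom, toBase_mul]
  have hmulG : ∀ {Y : Over S'} (a b : Y ⟶ Q), toG (a * b) = toG a * toG b := fun a b => by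
    simp only [toG, eGi]
    rw [MonObj.mul_comp _ _ eG.inv.hom.hom, toBase_mul]
  -- a family over `S'` as one over `S`
  have hdown : ∀ {Z : Over S'} (φ' : P ⊗ Z ⟶ Q), AutFam.IsHomFamily P Q φ' →
      ∃ φ : H ⊗ (Over.map g).obj Z ⟶ G, AutFam.IsHomFamily H G φ ∧
        ∀ (Y : Over S') (h : Y ⟶ P) (t : Y ⟶ Z),
          lift (toH h) ((Over.map g).map t) ≫ φ = toG (lift h t ≫ φ') := by
    intro Z φ' hφ'
    let X := H ⊗ (Over.map g).obj Z
    let Y : Over S' := Over.mk ((snd H ((Over.map g).obj Z)).left ≫ Z.hom)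
    let e : (Over.map g).obj Y ⟶ X := Over.homMk (𝟙 _) (by
      show 𝟙 _ ≫ X.hom = ((snd H ((Over.map g).obj Z)).left ≫ Z.hom) ≫ g
      rw [Category.id_comp, Category.assoc]
      exact (Over.w (snd H ((Over.map g).obj Z))).symm)
    let e' : X ⟶ (Over.map g).obj Y := Over.homMk (𝟙 _) (by
      show 𝟙 _ ≫ ((snd H ((Over.map g).obj Z)).left ≫ Z.hom) ≫ g = X.hom
      rw [Category.id_comp, Category.assoc]
      exact Over.w (snd H ((Over.map g).obj Z)))
    let t₀ : Y ⟶ Z := Over.homMk (snd H ((Over.map g).obj Z)).left rfl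
    let φ : X ⟶ G := e' ≫ toG (lift (ofH (e ≫ fst _ _)) t₀ ≫ φ')
    have key : ∀ (Y' : Over S') (h : Y' ⟶ P) (t : Y' ⟶ Z),
        lift (toH h) ((Over.map g).map t) ≫ φ = toG (lift h t ≫ φ') := by
      intro Y' h t
      let l := lift (toH h) ((Over.map g).map t)
      have hl : l.left ≫ (snd H ((Over.map g).obj Z)).left = t.left :=
        congrArg (fun m : (Over.map g).obj Y' ⟶ (Over.map g).obj Z => m.left) (lift_snd _ _)
      let k : Y' ⟶ Y := Over.homMk l.left (by
        show l.left ≫ (snd H ((Over.map g).obj Z)).left ≫ Z.hom = Y'.hom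
        rw [← Category.assoc, hl, Over.w])
      have hk : l ≫ e' = (Over.map g).map k := Over.OverMorphism.ext (Category.comp_id _)
      have hk' : (Over.map g).map k ≫ e = l := Over.OverMorphism.ext (Category.comp_id _)
      show l ≫ φ = _
      simp only [φ]
      rw [← Category.assoc, hk, ← hnatG, comp_lift_assoc]
      congr 3
      · apply hinjH
        rw [hnatH, hto, ← Category.assoc, hk']
        exact lift_fst _ _
      · exact Over.OverMorphism.ext hl
    refine ⟨φ, fun X' g₁ g₂ t => ?_, key⟩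
    let Y' : Over S' := Over.mk (t.left ≫ Z.hom)
    let e₁ : (Over.map g).obj Y' ⟶ X' := Over.homMk (𝟙 _) (by
      show 𝟙 _ ≫ X'.hom = (t.left ≫ Z.hom) ≫ g
      rw [Category.id_comp, Category.assoc]
      exact (Over.w t).symm)
    let t' : Y' ⟶ Z := Over.homMk t.left rfl
    have : IsIso e₁ := by
      have : IsIso ((Over.forget S).map e₁) := inferInstanceAs (IsIso (𝟙 X'.left))
      exact isIso_of_reflects_iso e₁ (Over.forget S)
    have ht : e₁ ≫ t = (Over.map g).map t' := Over.OverMorphism.ext (Category.id_comp _)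
    rw [← cancel_epi e₁, MonObj.comp_mul, comp_lift_assoc, comp_lift_assoc, comp_lift_assoc, MonObj.comp_mul,
      ht, ← hto (e₁ ≫ g₁), ← hto (e₁ ≫ g₂), ← hmulH, key, key, key, ← hmulG]
    exact congrArg toG (hφ' _ _ _ t')
  obtain ⟨υ, hυ, hυk⟩ := hdown υ' hυ'
  refine ⟨υ, hυ, hυk, fun T x φ hφ => ?_⟩
  let T' : Over S' := Over.mk x.left
  let eT : (Over.map g).obj T' ⟶ T := Over.homMk (𝟙 _) (by
    show 𝟙 _ ≫ T.hom = x.left ≫ g
    rw [Category.id_comp]
    exact (Over.w x).symm)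
  let eT' : T ⟶ (Over.map g).obj T' := Over.homMk (𝟙 _) (by
    show 𝟙 _ ≫ x.left ≫ g = T.hom
    rw [Category.id_comp]
    exact Over.w x)
  have heT : eT ≫ eT' = 𝟙 _ := Over.OverMorphism.ext (Category.comp_id _)
  have heT' : eT' ≫ eT = 𝟙 _ := Over.OverMorphism.ext (Category.comp_id _)
  let φ' : P ⊗ T' ⟶ Q := ofG (lift (toH (fst P T')) ((Over.map g).map (snd P T') ≫ eT) ≫ φ)
  have hφ'k : ∀ (Y : Over S') (h : Y ⟶ P) (t : Y ⟶ T'),
      toG (lift h t ≫ φ') = lift (toH h) ((Over.map g).map t ≫ eT) ≫ φ := by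
    intro Y h t
    rw [hnatG, htoG, comp_lift_assoc, ← hnatH, lift_fst, ← Category.assoc, ← Functor.map_comp, lift_snd]
  have hφ' : AutFam.IsHomFamily P Q φ' := fun Y g₁ g₂ t => hinjG (by
    rw [hmulG, hφ'k, hφ'k, hφ'k, hmulH, hφ])
  -- transport of equalities of families
  have hcmp : ∀ a' : T' ⟶ A, (P ◁ a') ≫ υ' = φ' → (H ◁ (eT' ≫ (Over.map g).map a')) ≫ υ = φ := by
    intro a' ha'
    let Y : Over S' := Over.mk ((snd H T).left ≫ x.left)
    let e : (Over.map g).obj Y ⟶ H ⊗ T := Over.homMk (𝟙 _) (by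
      show 𝟙 _ ≫ (H ⊗ T).hom = ((snd H T).left ≫ x.left) ≫ g
      rw [Category.id_comp, Category.assoc]
      exact ((congrArg ((snd H T).left ≫ ·) (Over.w x)).trans (Over.w (snd H T))).symm)
    have : IsIso e := by
      have : IsIso ((Over.forget S).map e) := inferInstanceAs (IsIso (𝟙 (H ⊗ T).left))
      exact isIso_of_reflects_iso e (Over.forget S)
    let t : Y ⟶ T' := Over.homMk (snd H T).left rfl
    have ht : (Over.map g).map t ≫ eT = e ≫ snd H T :=
      Over.OverMorphism.ext ((Category.comp_id _).trans (Category.id_comp _).symm)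
    have h1 : e = lift (e ≫ fst _ _) ((Over.map g).map t ≫ eT) := by rw [ht]; exact (lift_comp_fst_snd e).symm
    rw [← cancel_epi e, h1, lift_whiskerLeft_assoc, Category.assoc, reassoc_of% heT,
      ← Functor.map_comp, ← hto (e ≫ fst _ _), hυk, ← hφ'k, ← ha', lift_whiskerLeft_assoc]
  obtain ⟨a', ha', hau'⟩ := huniv T' φ' hφ'
  refine ⟨eT' ≫ (Over.map g).map a', ⟨Over.OverMorphism.ext ?_, hcmp a' ha'⟩, fun b ⟨hb₁, hb₂⟩ => ?_⟩
  · show (𝟙 _ ≫ a'.left) ≫ A.hom = x.left
    rw [Category.id_comp, Over.w a']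
    rfl
  let b' : T' ⟶ A := Over.homMk b.left (congrArg (fun m : T ⟶ Over.mk g => m.left) hb₁)
  have hb' : b = eT' ≫ (Over.map g).map b' := Over.OverMorphism.ext (Category.id_comp _).symm
  have : (P ◁ b') ≫ υ' = φ' := by
    rw [← Category.id_comp ((P ◁ b') ≫ υ'), ← Category.id_comp φ', ← lift_fst_snd]
    rw [lift_whiskerLeft_assoc]
    refine hinjG ?_
    rw [← hυk, hφ'k, ← hb₂, hb', lift_whiskerLeft_assoc]
    simp only [Category.assoc]
    rw [reassoc_of% heT, Functor.map_comp]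
  rw [hb', hau' b' this]

/-- Homomorphisms between quasi-isotrivial groups of multiplicative type, the target of finite type, are
represented by a scheme which is, locally for the étale topology, the constant scheme of homomorphisms of
character groups. -/
theorem exists_hom_rep {S : Scheme.{u}} (H G : Over S) [GrpObj H] [GrpObj G]
    (hHG : ∀ s : S, ∃ (S' : Scheme.{u}) (g : S' ⟶ S), Etale g ∧ s ∈ Set.range g ∧
      ∃ (M N : Type) (_ : AddCommGroup M) (_ : AddCommGroup N), AddGroup.FG N ∧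
        Nonempty (Grp.mk (Red.bc g H) ≅ Grp.mk (Red.DS S' M)) ∧
        Nonempty (Grp.mk (Red.bc g G) ≅ Grp.mk (Red.DS S' N))) :
    ∃ (B : Over S) (υB : H ⊗ B ⟶ G), AutFam.RepresentsHom H G B υB ∧
      ∀ s : S, ∃ (S' : Scheme.{u}) (g : S' ⟶ S) (_ : Etale g), s ∈ Set.range g ∧
        ∃ (M N : Type) (_ : AddCommGroup M) (_ : AddCommGroup N)
          (eH : Grp.mk (Red.bc g H) ≅ Grp.mk (Red.DS S' M)) (eG : Grp.mk (Red.bc g G) ≅ Grp.mk (Red.DS S' N))
          (e : Red.bc g B ≅ TwC.const S' (ULift.{u} (N →+ M))),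
          ∀ (Y : Over S') (h : Y ⟶ Red.DS S' M) (i : ULift.{u} (N →+ M)),
            lift (toBase g (h ≫ eH.inv.hom.hom)) (toBase g (toUnit Y ≫ TwC.pt S' _ i ≫ e.inv)) ≫ υB =
              toBase g (h ≫ Red.DSmap S' i.down ≫ eG.inv.hom.hom) := by
  choose S' g hg hs M N iM iN hN eH eG using hHG
  have hU : ∀ s, Flat (Over.mk (g s)).hom ∧ LocallyOfFinitePresentation (Over.mk (g s)).hom := fun s =>
    have := hg s
    ⟨inferInstanceAs (Flat (g s)), inferInstanceAs (LocallyOfFinitePresentation (g s))⟩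
  let I : S → Type u := fun s => ULift.{u} (N s →+ M s)
  let C : ∀ s, Over (S' s) := fun s => TwC.const (S' s) (I s)
  have hrep := fun s => exists_ds_rep (S := S' s) (M := M s) (N := N s) (hN s) (I := I s) Equiv.ulift
  choose υ' hυ' hυi huniv' using hrep
  have htr := fun s => exists_transfer (g s) (eH s).some (eG s).some (υ' s) (hυ' s) (huniv' s)
  choose υ hυ hυk huniv using htr
  let q : ∀ s, (Over.map (g s)).obj (C s) ⟶ Over.mk (g s) := fun s => Over.homMk (C s).hom
  have hq : ∀ s, sepLQF (q s).left := fun s => by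
    have h1 : IsSeparated (C s).hom := isSeparated_const (Iso.refl (C s))
    have h2 : Etale (C s).hom := etale_const (Iso.refl (C s))
    exact ⟨h1, Unr55.locallyQuasiFinite_of_formallyUnramified (C s).hom, inferInstanceAs (LocallyOfFiniteType (C s).hom)⟩
  obtain ⟨B, υB, hB, ha⟩ := exists_representsHom (fun s => Over.mk (g s)) (fun s => (Over.map (g s)).obj (C s))
    hU (fun s => ⟨s, hs s⟩) q hq υ hυ huniv
  refine ⟨B, υB, hB, fun s => ?_⟩
  obtain ⟨a, ha₁, ha₂⟩ := ha s
  let e : Red.bc (g s) B ≅ C s := (Over.isoMk ha₂.isoPullback ha₂.isoPullback_hom_snd).symm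
  refine ⟨S' s, g s, hg s, hs s, M s, N s, iM s, iN s, (eH s).some, (eG s).some, e, fun Y h i => ?_⟩
  have hae : toBase (g s) (toUnit Y ≫ TwC.pt (S' s) _ i ≫ e.inv) =
      (Over.map (g s)).map (toUnit Y ≫ TwC.pt (S' s) _ i) ≫ a := Over.OverMorphism.ext (by
    rw [toBase_left, ← Category.assoc (toUnit Y)]
    show ((toUnit Y ≫ TwC.pt (S' s) _ i).left ≫ ha₂.isoPullback.hom) ≫ pullback.fst _ _ = _
    rw [Category.assoc, ha₂.isoPullback_hom_fst]
    rfl)
  rw [hae, ← lift_whiskerLeft_assoc, ha₁, hυk s Y h, ← Category.assoc, hυi s Y h _ i (fun p => ?_),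
    Category.assoc]
  · rfl
  · refine index_eq (Iso.refl _) (s := (toUnit Y).left p) ?_
    rfl

end Groth.Agent.Const38
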