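import Groth.Agent.SGA3a.GrpFibreFlat
import Groth.Agent.SGA3a.PowEtale
import Groth.Agent.RedPts82.Coord
import Groth.Agent.RedPts82.ConjTrans
import Groth.Agent.Const38.EtaleSection

/-!
The power map of a flat group scheme is étale at central points, and central torsion points lift uniquely along
surjective closed immersions.
-/

set_option autoImplicit false
set_option backward.isDefEq.respectTransparency.types false
set_option linter.style.haveILetI false
universe u

open CategoryTheory MonoidalCategory CartesianMonoidalCategory MonObj GrpObj AlgebraicGeometry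
open CategoryTheory.Limits

noncomputable section

namespace Groth.Agent.Const38.CPow

open SGA3a RedPts82

variable {S : Scheme.{u}}

/-- The point commutes with every point, after any base change. -/
def IsCentralPt {G Z : Over S} [GrpObj G] (z : Z ⟶ G) : Prop :=
  ∀ (W : Over S) (a : W ⟶ Z) (g : W ⟶ G), (a ≫ z) * g = g * (a ≫ z)

theorem IsCentralPt.comp {G Z Z' : Over S} [GrpObj G] {z : Z ⟶ G} (hz : IsCentralPt z) (a : Z' ⟶ Z) :
    IsCentralPt (a ≫ z) := fun W b g => by rw [← Category.assoc]; exact hz W _ g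

theorem natCast_ne_zero_of_hom {K L : Type*} [Field K] [CommRing L] [Nontrivial L] (φ : K →+* L) {n : ℕ}
    (h : (n : K) ≠ 0) : (n : L) ≠ 0 := by
  rw [← map_natCast φ]
  exact (map_ne_zero_iff φ φ.injective).mpr h

set_option maxHeartbeats 1000000 in
/-- The power map is étale near a central field-valued point. -/
theorem near_etale_pow {G : Over S} [GrpObj G] [Flat G.hom] [LocallyOfFinitePresentation G.hom] (n : ℕ)
    {K : Type u} [Field K] (p : Spec (CommRingCat.of K) ⟶ S) (z : Over.mk p ⟶ G) (hn : (n : K) ≠ 0)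
    (hz : IsCentralPt z) (c : Spec (CommRingCat.of K)) :
    NearLocus.Near (@Etale) ((𝟙 G : G ⟶ G) ^ n).left (z.left c) := by
  let f : G ⟶ G := (𝟙 G) ^ n
  haveI : LocallyOfFinitePresentation (f.left ≫ G.hom) := by rw [Over.w f]; infer_instance
  haveI : LocallyOfFinitePresentation f.left := LimTop61.locallyOfFinitePresentation_of_comp f.left G.hom
  -- the rational point over the field
  let GK : Over (Spec (CommRingCat.of K)) := Red.bc p G
  haveI : LocallyOfFiniteType GK.hom := inferInstanceAs (LocallyOfFiniteType (pullback.snd G.hom p))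
  let σ : 𝟙_ (Over (Spec (CommRingCat.of K))) ⟶ GK :=
    ofBase p ((Over.homMk (𝟙 _) (by simp) : (Over.map p).obj (𝟙_ (Over (Spec (CommRingCat.of K)))) ⟶ Over.mk p) ≫ z)
  have hσ : Commute (toUnit GK ≫ σ) (𝟙 GK) := by
    refine toBase_injective p ?_
    rw [toBase_mul, toBase_mul, toBase_comp, toBase_ofBase, ← Category.assoc]
    exact hz _ _ _
  obtain ⟨V, hV, hVe⟩ := PowEtale.exists_etale_near_central GK σ hσ (n : ℤ) (by exact_mod_cast hn)
  rw [zpow_natCast] at hVe
  have hmap : (Over.pullback p).map f = (𝟙 GK : GK ⟶ GK) ^ n := by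
    have := map_pow ((Over.pullback p).homMonoidHom (X := G) (M := G)) (𝟙 G) n
    exact this.trans (congrArg (fun m : GK ⟶ GK => m ^ n) ((Over.pullback p).map_id G))
  have hsqK := GrpLocus.isPullback_pullback_map p f
  have hnear : NearLocus.Near (@Etale) ((Over.pullback p).map f).left (σ.left c) := by
    rw [hmap]; exact ⟨V, hV c, hVe⟩
  have hx : (pullback.fst G.hom p) (σ.left c) = z.left c := by
    have h1 := congrArg (fun k => Over.Hom.left k)
      (toBase_ofBase p ((Over.homMk (𝟙 _) (by simp) : (Over.map p).obj (𝟙_ (Over (Spec (CommRingCat.of K)))) ⟶ Over.mk p) ≫ z))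
    simp only [toBase_left] at h1
    rw [← Scheme.Hom.comp_apply]
    refine (congrArg (fun k : Spec (CommRingCat.of K) ⟶ G.left => k c) h1).trans ?_
    rfl
  -- unramified, by descent to the base
  have hur : NearLocus.Near (@FormallyUnramified) f.left (z.left c) := by
    rw [← hx]
    exact NearLocus.descPt_formallyUnramified hsqK trivial ‹LocallyOfFinitePresentation f.left› _
      (NearLocus.near_mono (P := @Etale) (fun {A B} (k : A ⟶ B) hk => by infer_instance) hnear)
  -- flat, by descent to the fibre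
  let s : S := p c
  have hc : ∀ c' : Spec (CommRingCat.of K), p c' = s := fun c' => congrArg p (Subsingleton.elim _ _)
  obtain ⟨q, hq⟩ : ∃ q : Spec (CommRingCat.of K) ⟶ Spec (S.residueField s), q ≫ S.fromSpecResidueField s = p := by
    have h := (Scheme.SpecToEquivOfField K S).symm_apply_apply p
    generalize hy : Scheme.SpecToEquivOfField K S p = y at h
    obtain ⟨y, φ⟩ := y
    have hy' : y = s := by
      have := congrArg (fun k : Spec (CommRingCat.of K) ⟶ S => k c) h
      exact ((Scheme.fromSpecResidueField_apply y _).symm.trans this)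
    subst hy'
    exact ⟨Spec.map φ, h⟩
  haveI : Flat q := by
    obtain ⟨φ, rfl⟩ := Spec.map_surjective q
    letI : Field (S.residueField s) := inferInstance
    rw [HasRingHomProperty.Spec_iff (P := @Flat)]
    letI := φ.hom.toAlgebra
    exact RingHom.flat_algebraMap_iff.mpr (inferInstance : Module.Flat (S.residueField s) K)
  let r : pullback G.hom p ⟶ pullback G.hom (S.fromSpecResidueField s) :=
    pullback.lift (pullback.fst _ _) (pullback.snd _ _ ≫ q) (by rw [Category.assoc, hq]; exact pullback.condition)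
  have hr1 : r ≫ pullback.fst _ _ = pullback.fst G.hom p := pullback.lift_fst _ _ _
  have hsqr : IsPullback r (pullback.snd G.hom p) (pullback.snd G.hom (S.fromSpecResidueField s)) q := by
    refine IsPullback.of_right ?_ (pullback.lift_snd _ _ _) (IsPullback.of_hasPullback G.hom (S.fromSpecResidueField s))
    rw [hr1, hq]
    exact IsPullback.of_hasPullback G.hom p
  haveI : Flat r := MorphismProperty.of_isPullback hsqr.flip ‹Flat q›
  have hsqs := GrpLocus.isPullback_pullback_map (S.fromSpecResidueField s) f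
  have hsqKs : IsPullback r ((Over.pullback p).map f).left ((Over.pullback (S.fromSpecResidueField s)).map f).left r := by
    refine IsPullback.of_right ?_ ?_ hsqs
    · rw [hr1]; exact hsqK
    · refine pullback.hom_ext ?_ ?_
      · have e1 : ((Over.pullback (S.fromSpecResidueField s)).map f).left ≫ pullback.fst G.hom (S.fromSpecResidueField s) =
            pullback.fst G.hom (S.fromSpecResidueField s) ≫ f.left := pullback.lift_fst _ _ _
        have e2 : ((Over.pullback p).map f).left ≫ pullback.fst G.hom p = pullback.fst G.hom p ≫ f.left :=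
          pullback.lift_fst _ _ _
        erw [Category.assoc, Category.assoc]
        rw [e1, reassoc_of% hr1, hr1]
        exact e2.symm
      · have e1 : ((Over.pullback (S.fromSpecResidueField s)).map f).left ≫ pullback.snd G.hom (S.fromSpecResidueField s) =
            pullback.snd G.hom (S.fromSpecResidueField s) := pullback.lift_snd _ _ _
        have e2 : ((Over.pullback p).map f).left ≫ pullback.snd G.hom p = pullback.snd G.hom p :=
          pullback.lift_snd _ _ _
        erw [Category.assoc, Category.assoc]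
        rw [e1, hsqr.w, ← Category.assoc]
        exact congrArg (· ≫ q) e2.symm
  haveI : LocallyOfFinitePresentation ((Over.pullback (S.fromSpecResidueField s)).map f).left :=
    MorphismProperty.of_isPullback hsqs ‹LocallyOfFinitePresentation f.left›
  obtain ⟨W, hwW, hWs⟩ := (Unr55.exists_smooth_iff _ _).2 (NearLocus.descPt_formallySmooth hsqKs (σ.left c)
    (NearLocus.near_mono (P := @Etale) (fun {A B} (k : A ⟶ B) hk => by infer_instance) hnear))
  haveI : Smooth (W.ι ≫ ((Over.pullback (S.fromSpecResidueField s)).map f).left) := hWs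
  have hfl : NearLocus.Near NearLocus.FlatFP f.left (z.left c) := by
    have h1 := (GrpLocus.flatAt_fibre_iff f s (r (σ.left c))).1
      ((Unr55.stalkMap_iff_restrict _ RingHom.Flat.respectsIso W ⟨_, hwW⟩).2
        (Flat.stalkMap (W.ι ≫ ((Over.pullback (S.fromSpecResidueField s)).map f).left) ⟨_, hwW⟩))
    rwa [← Scheme.Hom.comp_apply, hr1, hx] at h1
  obtain ⟨W₁, hW₁, hP₁⟩ := hfl
  obtain ⟨W₂, hW₂, hP₂⟩ := hur
  refine ⟨W₁ ⊓ W₂, ⟨hW₁, hW₂⟩, ?_⟩
  have e₁ : (W₁ ⊓ W₂).ι ≫ f.left = G.left.homOfLE inf_le_left ≫ W₁.ι ≫ f.left := by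
    rw [Scheme.homOfLE_ι_assoc]
  have e₂ : (W₁ ⊓ W₂).ι ≫ f.left = G.left.homOfLE inf_le_right ≫ W₂.ι ≫ f.left := by
    rw [Scheme.homOfLE_ι_assoc]
  haveI : Flat ((W₁ ⊓ W₂).ι ≫ f.left) := by
    rw [e₁]; haveI : Flat (W₁.ι ≫ f.left) := hP₁.1; infer_instance
  haveI : FormallyUnramified ((W₁ ⊓ W₂).ι ≫ f.left) := by
    rw [e₂]; exact MorphismProperty.comp_mem @FormallyUnramified _ _ inferInstance hP₂
  exact Etale.of_formallyUnramified_of_flat _

/-- The exponent is invertible along the object. -/
def InvAlong (Z : Over S) (n : ℕ) : Prop := ∀ a : Z.left, (n : S.residueField (Z.hom a)) ≠ 0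

theorem InvAlong.of_hom {Z Z' : Over S} {n : ℕ} (h : InvAlong Z n) (f : Z' ⟶ Z) : InvAlong Z' n := fun a => by
  have e : Z.hom (f.left a) = Z'.hom a := by rw [← Scheme.Hom.comp_apply, Over.w f]
  rw [← e]
  exact h _

theorem InvAlong.mul {Z : Over S} {n m : ℕ} (h : InvAlong Z n) (h' : InvAlong Z m) : InvAlong Z (n * m) :=
  fun a => by rw [Nat.cast_mul]; exact mul_ne_zero (h a) (h' a)

variable {G : Over S} [GrpObj G] [Flat G.hom] [LocallyOfFinitePresentation G.hom]

set_option maxHeartbeats 1000000 in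
/-- Central torsion points lift uniquely along surjective closed immersions. -/
theorem existsUnique_torsion_lift {Z Z₀ : Over S} (c : Z₀ ⟶ Z) [IsClosedImmersion c.left] [Surjective c.left]
    (n : ℕ) (hn : InvAlong Z n) (z₀ : Z₀ ⟶ G) (h₀ : z₀ ^ n = 1) (hc : IsCentralPt z₀) :
    ∃ z : Z ⟶ G, c ≫ z = z₀ ∧ z ^ n = 1 ∧ ∀ z' : Z ⟶ G, c ≫ z' = z₀ → z' ^ n = 1 → z' = z := by
  let f : G ⟶ G := (𝟙 G) ^ n
  have hf : ∀ {T : Over S} (t : T ⟶ G), t ≫ f = t ^ n := fun t => by
    rw [MonObj.comp_pow, Category.comp_id]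
  let U : G.left.Opens := ⟨{x | NearLocus.Near (@Etale) f.left x}, NearLocus.isOpen_setOf_near f.left⟩
  haveI hUe : Etale (U.ι ≫ f.left) := NearLocus.of_forall_near _ fun x =>
    (NearLocus.near_comp_iff U.ι f.left x).2 x.2
  have hmem : ∀ b : Z₀.left, z₀.left b ∈ U := fun b => by
    let p : Spec (Z₀.left.residueField b) ⟶ S := Z₀.left.fromSpecResidueField b ≫ Z₀.hom
    let zb : Over.mk p ⟶ Z₀ := Over.homMk (Z₀.left.fromSpecResidueField b) rfl
    let y : S := p (default : Spec (Z₀.left.residueField b))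
    have hy : y = Z.hom (c.left b) := by
      simp only [y, p]
      rw [Scheme.Hom.comp_apply, Scheme.fromSpecResidueField_apply, ← Over.w c, Scheme.Hom.comp_apply]
    have hn' : (n : Z₀.left.residueField b) ≠ 0 := by
      have h1 := hn (c.left b)
      rw [← Scheme.Hom.comp_apply, Over.w c] at h1
      exact natCast_ne_zero_of_hom (Z₀.hom.residueFieldMap b).hom h1
    have := near_etale_pow (G := G) n (K := Z₀.left.residueField b) p (zb ≫ z₀) hn' (hc.comp zb) default
    show NearLocus.Near (@Etale) f.left (z₀.left b)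
    convert this using 1
    show z₀.left b = z₀.left (Z₀.left.fromSpecResidueField b _)
    rw [Scheme.fromSpecResidueField_apply]
  let E := pullback (U.ι ≫ f.left) (1 : Z ⟶ G).left
  let pr : E ⟶ Z.left := pullback.snd (U.ι ≫ f.left) (1 : Z ⟶ G).left
  let l : Z₀.left ⟶ (U : Scheme.{u}) := IsOpenImmersion.lift U.ι z₀.left
    (by rw [U.range_ι]; rintro _ ⟨b, rfl⟩; exact hmem b)
  have hl : l ≫ U.ι = z₀.left := IsOpenImmersion.lift_fac _ _ _
  let s₀ : Z₀.left ⟶ E := pullback.lift l c.left (by
    rw [reassoc_of% hl, ← Over.comp_left _ _ _ z₀ f, ← Over.comp_left _ _ _ c, hf, h₀, MonObj.comp_one])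
  obtain ⟨s, hs, hcs, huniq⟩ := exists_section_of_etale pr c.left s₀ (pullback.lift_snd _ _ _)
  let zl : Z.left ⟶ G.left := s ≫ pullback.fst _ _ ≫ U.ι
  have hzl : zl ≫ f.left = (1 : Z ⟶ G).left := by
    simp only [zl, Category.assoc]
    erw [pullback.condition]
    exact (reassoc_of% hs) _
  let z : Z ⟶ G := Over.homMk zl (by
    have := congrArg (· ≫ G.hom) hzl
    simp only [Category.assoc, Over.w] at this
    simpa only [zl, Category.assoc] using this)
  refine ⟨z, Over.OverMorphism.ext ?_, ?_, fun z' h' hn' => ?_⟩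
  · show c.left ≫ s ≫ pullback.fst _ _ ≫ U.ι = z₀.left
    rw [reassoc_of% hcs]
    simp only [s₀, pullback.lift_fst_assoc, hl]
  · rw [← hf]; exact Over.OverMorphism.ext hzl
  · have hl' : Set.range z'.left ⊆ Set.range U.ι := by
      rw [U.range_ι]; rintro _ ⟨a, rfl⟩
      obtain ⟨b, rfl⟩ := c.left.surjective a
      rw [← Scheme.Hom.comp_apply, ← Over.comp_left, h']
      exact hmem b
    let l' := IsOpenImmersion.lift U.ι z'.left hl'
    have hl'' : l' ≫ U.ι = z'.left := IsOpenImmersion.lift_fac _ _ _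
    let s' : Z.left ⟶ E := pullback.lift l' (𝟙 _) (by
      rw [reassoc_of% hl'', ← Over.comp_left _ _ _ z' f, hf, hn', Category.id_comp])
    have := huniq s' (pullback.lift_snd _ _ _) fun b => by
      have : c.left ≫ s' = s₀ := by
        refine pullback.hom_ext ?_ ?_
        · rw [← cancel_mono U.ι]
          simp only [s', s₀, Category.assoc, pullback.lift_fst_assoc, hl, hl'']
          rw [← Over.comp_left, h']
        · simp only [s', s₀, Category.assoc, pullback.lift_snd, Category.comp_id]
      rw [← Scheme.Hom.comp_apply, this]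
    refine Over.OverMorphism.ext ?_
    show z'.left = s ≫ pullback.fst _ _ ≫ U.ι
    rw [← this]
    simp only [s', pullback.lift_fst_assoc, hl'']

omit [Flat G.hom] [LocallyOfFinitePresentation G.hom] in
/-- The pullback of a surjective closed immersion over a base. -/
theorem exists_thick_pullback {Z Z₀ W : Over S} (c : Z₀ ⟶ Z) [IsClosedImmersion c.left] [Surjective c.left]
    (a : W ⟶ Z) :
    ∃ (W₀ : Over S) (d : W₀ ⟶ W) (a₀ : W₀ ⟶ Z₀), IsClosedImmersion d.left ∧ Surjective d.left ∧ a₀ ≫ c = d ≫ a := by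
  let W₀ : Over S := Over.mk (pullback.fst a.left c.left ≫ W.hom)
  refine ⟨W₀, Over.homMk (pullback.fst a.left c.left) rfl, Over.homMk (pullback.snd a.left c.left) ?_,
    inferInstanceAs (IsClosedImmersion (pullback.fst a.left c.left)),
    inferInstanceAs (Surjective (pullback.fst a.left c.left)), Over.OverMorphism.ext pullback.condition.symm⟩
  show _ = pullback.fst a.left c.left ≫ W.hom
  rw [← Over.w c, ← Over.w a, pullback.condition_assoc]

/-- The lift of a central torsion point is central. -/
theorem isCentralPt_of_lift {Z Z₀ : Over S} (c : Z₀ ⟶ Z) [IsClosedImmersion c.left] [Surjective c.left]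
    (n : ℕ) (hn : InvAlong Z n) (z : Z ⟶ G) (hz : z ^ n = 1) (hc : IsCentralPt (c ≫ z)) : IsCentralPt z := by
  intro W a g
  obtain ⟨W₀, d, a₀, hd₁, hd₂, e⟩ := exists_thick_pullback c a
  haveI := hd₁
  haveI := hd₂
  have hcd : IsCentralPt (d ≫ a ≫ z) := by
    rw [← Category.assoc, ← e, Category.assoc]; exact hc.comp a₀
  have hp : (a ≫ z) ^ n = 1 := by rw [← MonObj.comp_pow, hz, MonObj.comp_one]
  have hp' : (g * (a ≫ z) * g⁻¹) ^ n = 1 := by rw [conj_pow, hp, _root_.mul_one, mul_inv_cancel]
  obtain ⟨y, -, -, hy⟩ := existsUnique_torsion_lift d n (hn.of_hom a) (d ≫ a ≫ z)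
    (by rw [← MonObj.comp_pow, hp, MonObj.comp_one]) hcd
  have h1 : g * (a ≫ z) * g⁻¹ = a ≫ z := by
    refine (hy (g * (a ≫ z) * g⁻¹) ?_ hp').trans (hy (a ≫ z) rfl hp).symm
    have := hcd W₀ (𝟙 _) (d ≫ g)
    rw [Category.id_comp] at this
    rw [MonObj.comp_mul, MonObj.comp_mul, GrpObj.comp_inv, ← this, _root_.mul_assoc, mul_inv_cancel, _root_.mul_one]
  exact (mul_inv_eq_iff_eq_mul.mp h1).symm

end Groth.Agent.Const38.CPow
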