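import Groth.Agent.RedPts82.AvgBase
import Groth.Agent.RedPts82.HomFiniteMult
import Groth.Agent.RedPts82.MultHopf
import Groth.Agent.RedPts82.SplitSub
import Groth.Agent.SGA3b53.QuasiIso
import Groth.Agent.SGA3b53.FlatLift
import Groth.Agent.SGA3b53.DensityApply
import Groth.Agent.S2979
import Groth.Agent.FlatCrit65.ThickClosed

/-!
Subgroups of multiplicative type of smooth groups lift along nilpotent ideals.
-/

set_option autoImplicit false
set_option backward.isDefEq.respectTransparency.types false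
set_option linter.style.haveILetI false
universe u

open CategoryTheory MonoidalCategory CartesianMonoidalCategory MonObj GrpObj AlgebraicGeometry
open CategoryTheory.Limits
open scoped TensorProduct

noncomputable section

namespace Groth.Agent.Const38

open RedPts82 RedPts82.HomFF

/-- An algebra is of finite type as soon as it is so modulo a nilpotent ideal. -/
theorem finiteType_of_mod_nilpotent {R A : Type u} [CommRing R] [CommRing A] [Algebra R A] (J : Ideal R)
    (hJ : IsNilpotent J) [Algebra.FiniteType (R ⧸ J) ((R ⧸ J) ⊗[R] A)] : Algebra.FiniteType R A := by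
  classical
  obtain ⟨t, ht⟩ := ‹Algebra.FiniteType (R ⧸ J) ((R ⧸ J) ⊗[R] A)›.out
  let π : A →ₐ[R] (R ⧸ J) ⊗[R] A := Algebra.TensorProduct.includeRight
  have hπ : Function.Surjective π := fun z => by
    induction z using TensorProduct.induction_on with
    | zero => exact ⟨0, map_zero _⟩
    | tmul x a =>
      obtain ⟨r, rfl⟩ := Ideal.Quotient.mk_surjective x
      refine ⟨r • a, ?_⟩
      rw [map_smul]
      show r • ((1 : R ⧸ J) ⊗ₜ[R] a) = _
      rw [TensorProduct.smul_tmul', Algebra.smul_def, _root_.mul_one]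
      rfl
    | add x y hx hy =>
      obtain ⟨a, rfl⟩ := hx
      obtain ⟨b, rfl⟩ := hy
      exact ⟨a + b, map_add _ _ _⟩
  choose s hs using hπ
  let P := Algebra.adjoin R ((t.image s : Finset A) : Set A)
  have hmap : ∀ z : (R ⧸ J) ⊗[R] A, ∃ p ∈ P, π p = z := fun z => by
    have hz : z ∈ Algebra.adjoin (R ⧸ J) (t : Set ((R ⧸ J) ⊗[R] A)) := ht ▸ Algebra.mem_top
    induction hz using Algebra.adjoin_induction with
    | mem x hx => exact ⟨s x, Algebra.subset_adjoin (Finset.mem_coe.2 (Finset.mem_image_of_mem s hx)), hs x⟩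
    | algebraMap x =>
      obtain ⟨r, rfl⟩ := Ideal.Quotient.mk_surjective x
      exact ⟨algebraMap R A r, P.algebraMap_mem r, π.commutes r⟩
    | add x y _ _ hx hy =>
      obtain ⟨a, ha, rfl⟩ := hx
      obtain ⟨b, hb, rfl⟩ := hy
      exact ⟨a + b, P.add_mem ha hb, map_add _ _ _⟩
    | mul x y _ _ hx hy =>
      obtain ⟨a, ha, rfl⟩ := hx
      obtain ⟨b, hb, rfl⟩ := hy
      exact ⟨a * b, P.mul_mem ha hb, map_mul _ _ _⟩
  have hsup : P.toSubmodule ⊔ J • (⊤ : Submodule R A) = ⊤ := by
    rw [eq_top_iff]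
    rintro a -
    obtain ⟨p, hp, hpa⟩ := hmap (π a)
    have h0 : π (a - p) = 0 := by rw [map_sub, hpa, sub_self]
    have h1 : a - p ∈ J • (⊤ : Submodule R A) := (FlatCrit65.one_tmul_eq_zero_iff' J (a - p)).1 h0
    exact Submodule.mem_sup.2 ⟨p, hp, a - p, h1, add_sub_cancel _ _⟩
  refine ⟨⟨t.image s, ?_⟩⟩
  have := FlatCrit65.eq_top_of_sup_smul_top_of_isNilpotent hJ hsup
  exact Algebra.toSubmodule_eq_top.1 this

/-- A group which is fpqc-locally diagonalisable and locally of finite type is of multiplicative type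
and of finite type. -/
theorem isMultTypeFT_of_locallyOfFiniteType {S : Scheme.{u}} {H : Over S} [GrpObj H] (hH : IsMultType H)
    [LocallyOfFiniteType H.hom] : SGA3x.IsMultTypeFT H := by
  obtain ⟨S', f, hf, hs, hqc, hloc⟩ := hH
  refine ⟨S', f, hf, hs, hqc, fun s' => ?_⟩
  obtain ⟨U, hU, M, iM, he⟩ := hloc s'
  obtain ⟨V, hV, hsV, hVU⟩ := exists_isAffineOpen_mem_and_subset (U := U) (x := s') hU
  have he' : Red.IsSplitTorusWith M (Red.bc (V.ι ≫ f) H) := by
    rw [← S'.homOfLE_ι hVU, Category.assoc]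
    exact split_bc (U.ι ≫ f) (S'.homOfLE hVU) he
  refine ⟨V, hsV, M, iM, ?_, he'⟩
  obtain ⟨e⟩ := split_bc (V.ι ≫ f) hV.isoSpec.inv he'
  obtain ⟨ψD, _⟩ := Hopf.exists_coord_DS Γ(S', V) M
  let x : Red.bc (hV.isoSpec.inv ≫ V.ι ≫ f) H ≅ Red.DS (Spec Γ(S', V)) M := (Grp.forget _).mapIso e
  let w := ψD ≪≫ x.symm
  haveI : IsIso w.hom.left := inferInstanceAs (IsIso ((Over.forget _).map w.hom))
  haveI : LocallyOfFiniteType (Red.bc (hV.isoSpec.inv ≫ V.ι ≫ f) H).hom :=
    inferInstanceAs (LocallyOfFiniteType (pullback.snd H.hom (hV.isoSpec.inv ≫ V.ι ≫ f)))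
  have : LocallyOfFiniteType (Spec.map (CommRingCat.ofHom (algebraMap Γ(S', V) (MonoidAlgebra Γ(S', V) (Multiplicative M))))) := by
    rw [show Spec.map (CommRingCat.ofHom (algebraMap Γ(S', V) (MonoidAlgebra Γ(S', V) (Multiplicative M)))) =
      w.hom.left ≫ (Red.bc (hV.isoSpec.inv ≫ V.ι ≫ f) H).hom from (Over.w w.hom).symm]
    exact MorphismProperty.RespectsIso.precomp @LocallyOfFiniteType ((Over.forget _).mapIso w).hom _
      (show LocallyOfFiniteType (Red.bc (hV.isoSpec.inv ≫ V.ι ≫ f) H).hom from inferInstance)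
  rw [HasRingHomProperty.Spec_iff (P := @LocallyOfFiniteType)] at this
  haveI := RingHom.finiteType_algebraMap.mp this
  haveI : Nonempty (V : Scheme.{u}) := ⟨⟨s', hsV⟩⟩
  haveI : Nonempty (⊤ : (V : Scheme.{u}).Opens) := ⟨⟨⟨s', hsV⟩, trivial⟩⟩
  haveI : Nontrivial Γ(S', V) := by
    haveI : Nonempty V := ⟨⟨s', hsV⟩⟩
    exact Scheme.component_nontrivial S' V
  exact AddGroup.fg_iff_mul_fg.2 ((MonoidAlgebra.finiteType_iff_group_fg (R := Γ(S', V))).1 inferInstance)

/-- A morphism which is an immersion after pullback along a surjective closed immersion is an immersion. -/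
theorem isImmersion_of_pullback {X Y Y' : Scheme.{u}} (f : X ⟶ Y) (i : Y' ⟶ Y) [IsClosedImmersion i]
    [Surjective i] [LocallyOfFiniteType f] (h : IsImmersion (pullback.snd f i)) : IsImmersion f := by
  have hr : IsLocallyClosed (Set.range f) := by
    have hh : IsHomeomorph i := isHomeomorph_iff_isEmbedding_surjective.mpr
      ⟨i.isClosedEmbedding.isEmbedding, i.surjective⟩
    have h1 : IsLocallyClosed (Set.range (pullback.snd f i)) := (pullback.snd f i).isLocallyClosed_range
    rw [Scheme.Pullback.range_snd] at h1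
    have h2 := h1.image hh.isInducing (by rw [hh.surjective.range_eq]; exact isOpen_univ.isLocallyClosed)
    rwa [Set.image_preimage_eq _ hh.surjective] at h2
  let U : Y.Opens := ⟨coborder (Set.range f), hr.isOpen_coborder⟩
  have hfU : Set.range f ⊆ Set.range U.ι := by rw [U.range_ι]; exact subset_coborder
  let l := IsOpenImmersion.lift U.ι f hfU
  have hl : l ≫ U.ι = f := IsOpenImmersion.lift_fac _ _ _
  let i' := pullback.fst U.ι i
  haveI : LocallyOfFiniteType l := by
    haveI : LocallyOfFiniteType (l ≫ U.ι) := by rw [hl]; infer_instance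
    exact locallyOfFiniteType_of_comp l U.ι
  haveI : IsClosedImmersion (pullback.snd l i') := by
    have big : IsPullback (pullback.fst l i') (pullback.snd l i' ≫ pullback.snd U.ι i) f i := by
      have := (IsPullback.of_hasPullback l i').paste_vert (IsPullback.of_hasPullback U.ι i)
      rwa [hl] at this
    haveI : IsImmersion (pullback.snd l i' ≫ pullback.snd U.ι i) := by
      rw [← big.isoPullback_hom_snd]; infer_instance
    haveI : IsImmersion (pullback.snd l i') := IsImmersion.of_comp _ (pullback.snd U.ι i)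
    refine IsClosedImmersion.of_isPreimmersion _ ?_
    rw [Scheme.Pullback.range_snd]
    refine IsClosed.preimage i'.continuous ?_
    have hrl : Set.range l = U.ι ⁻¹' Set.range f := by
      ext y
      constructor
      · rintro ⟨x, rfl⟩
        exact ⟨x, by rw [← hl]; rfl⟩
      · rintro ⟨x, hx⟩
        refine ⟨x, U.ι.isOpenEmbedding.injective ?_⟩
        rw [← hx, ← hl]; rfl
    rw [hrl]
    exact isClosed_preimage_val_coborder
  have := FlatCrit65.isClosedImmersion_of_pullback l i'
  rw [← hl]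
  infer_instance

/-- A subgroup of multiplicative type of a smooth group lifts, as such, along a nilpotent ideal. -/
theorem exists_multType_subgroup_lift {R : Type u} [CommRing R] (J : Ideal R) (hJ : IsNilpotent J)
    (G : Over (Spec (CommRingCat.of R))) [GrpObj G] [Smooth G.hom]
    (H₀ : Over (Spec (CommRingCat.of (R ⧸ J)))) [GrpObj H₀] (hH₀ : IsMultType H₀)
    (j₀ : H₀ ⟶ Red.bc (Spec.map (CommRingCat.ofHom (Ideal.Quotient.mk J))) G) [IsMonHom j₀] [IsImmersion j₀.left] :
    ∃ (H : Over (Spec (CommRingCat.of R))) (_ : GrpObj H) (j : H ⟶ G), IsMultType H ∧ IsMonHom j ∧ IsImmersion j.left ∧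
      Flat H.hom ∧
      ∃ φ : Red.bc (Spec.map (CommRingCat.ofHom (Ideal.Quotient.mk J))) H ≅ H₀, φ.hom ≫ j₀ =
        (Over.pullback (Spec.map (CommRingCat.ofHom (Ideal.Quotient.mk J)))).map j := by
  let p : Spec (CommRingCat.of (R ⧸ J)) ⟶ Spec (CommRingCat.of R) :=
    Spec.map (CommRingCat.ofHom (Ideal.Quotient.mk J))
  haveI : IsClosedImmersion p := IsClosedImmersion.spec_of_surjective _ Ideal.Quotient.mk_surjective
  haveI : Surjective p := ⟨fun x => by
    have hx : x ∈ Set.range (PrimeSpectrum.comap (Ideal.Quotient.mk J)) := by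
      rw [range_comap_of_surjective _ _ Ideal.Quotient.mk_surjective, Ideal.mk_ker]
      intro a ha
      obtain ⟨n, hn⟩ := hJ
      have h2 : a ^ n ∈ (⊥ : Ideal R) := by
        rw [← Ideal.zero_eq_bot, ← hn]; exact Ideal.pow_mem_pow ha n
      exact (x.isPrime.mem_of_pow_mem n (by rw [(Ideal.mem_bot.1 h2)]; exact zero_mem _))
    exact hx⟩
  -- coordinates downstairs
  haveI : LocallyOfFiniteType H₀.hom := by
    haveI : LocallyOfFiniteType (Red.bc p G).hom := inferInstanceAs (LocallyOfFiniteType (pullback.snd G.hom p))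
    rw [← Over.w j₀]
    infer_instance
  haveI : IsAffine H₀.left :=
    haveI : IsAffineHom H₀.hom := isMultType_isAffineHom hH₀
    isAffine_of_isAffineHom H₀.hom
  obtain ⟨A₀, _, _, ψ₀, _⟩ := Hopf.exists_coord (k := R ⧸ J) H₀
  have hft₀ : Algebra.FiniteType (R ⧸ J) A₀ := by
    have : LocallyOfFiniteType (Spec.map (CommRingCat.ofHom (algebraMap (R ⧸ J) A₀))) := by
      rw [show Spec.map (CommRingCat.ofHom (algebraMap (R ⧸ J) A₀)) = ψ₀.hom.left ≫ H₀.hom from (Over.w ψ₀.hom).symm]
      exact MorphismProperty.RespectsIso.precomp @LocallyOfFiniteType ((Over.forget _).mapIso ψ₀).hom _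
        (show LocallyOfFiniteType H₀.hom from inferInstance)
    rw [HasRingHomProperty.Spec_iff (P := @LocallyOfFiniteType)] at this
    exact RingHom.finiteType_algebraMap.mp this
  have hqi : SGA3b.IsQuasiIsotrivial (R ⧸ J) A₀ := SGA3b53.isQuasiIsotrivial_of_finiteType hft₀
    (isMultType_of_isMultTypeFT_affine ψ₀ (isMultTypeFT_of_locallyOfFiniteType hH₀))
  obtain ⟨A, _, _, hA, ⟨E⟩⟩ := S2979.result R J (fun x hx => by
    obtain ⟨n, hn⟩ := hJ
    exact ⟨n, Ideal.mem_bot.1 (by rw [← Ideal.zero_eq_bot, ← hn]; exact Ideal.pow_mem_pow hx n)⟩) A₀ hqi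
  haveI : Algebra.FiniteType (R ⧸ J) ((R ⧸ J) ⊗[R] A) :=
    Algebra.FiniteType.equiv hft₀ (E.symm : A₀ ≃ₐ[R ⧸ J] (R ⧸ J) ⊗[R] A)
  haveI : Algebra.FiniteType R A := finiteType_of_mod_nilpotent J hJ
  have hmA : SGA3b.IsMultType R A := SGA3b53.isMultType_of_isQuasiIsotrivial hA
  -- the lifted group
  let H : Over (Spec (CommRingCat.of R)) := Hopf.sp R A
  letI : IsMonHom (Iso.refl H).hom := inferInstanceAs (IsMonHom (𝟙 H))
  have hH : IsMultType H := isMultType_of_isMultTypeFT (isMultTypeFT_of_isMultType (Iso.refl H) hmA)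
  haveI : Flat H.hom := by
    show Flat (Spec.map (CommRingCat.ofHom (algebraMap R A)))
    rw [HasRingHomProperty.Spec_iff (P := @Flat)]
    exact RingHom.flat_algebraMap_iff.mpr (SGA3b53.flat_of_isMultType_global hmA)
  obtain ⟨ψ', _⟩ := Hopf.exists_coord_bc (R ⧸ J) (Iso.refl H)
  obtain ⟨φG⟩ := Hopf.nonempty_grpIso ψ' ψ₀ E
  let φ : Red.bc p H ≅ H₀ := ((Grp.forget _).mapIso φG).symm
  haveI : IsMonHom φ.hom := φG.inv.hom.isMonHom_hom
  let u : Red.bc p H ⟶ Red.bc p G := φ.hom ≫ j₀
  -- the family over the closed subscheme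
  let T : Over (Spec (CommRingCat.of R)) := 𝟙_ _
  haveI : IsAffine T.left := inferInstanceAs (IsAffine (Spec (CommRingCat.of R)))
  let e : R ≃+* Gam T := (Scheme.ΓSpecIso (CommRingCat.of R)).commRingCatIsoToRingEquiv.symm
  let J' : Ideal (Gam T) := J.map e.toRingHom
  have hJ' : IsNilpotent J' := by
    obtain ⟨n, hn⟩ := hJ
    exact ⟨n, by rw [← Ideal.map_pow, hn, Ideal.zero_eq_bot, Ideal.map_bot]; rfl⟩
  let c : R ⧸ J ≃+* Gam T ⧸ J' := Ideal.quotientEquiv J J' e rfl
  let v : Spec (CommRingCat.of (Gam T ⧸ J')) ⟶ Spec (CommRingCat.of (R ⧸ J)) :=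
    Spec.map (CommRingCat.ofHom c.toRingHom)
  haveI : IsIso v := by
    haveI : IsIso (CommRingCat.ofHom c.toRingHom) := (ConcreteCategory.isIso_iff_bijective _).mpr c.bijective
    infer_instance
  have hv : v ≫ p = (redMap T J').left := by
    show _ = Spec.map (CommRingCat.ofHom (Ideal.Quotient.mk J')) ≫ (Spec (CommRingCat.of R)).isoSpec.inv
    rw [Scheme.isoSpec_Spec_inv]
    simp only [v, p, ← Spec.map_comp]
    rfl
  let m : redObj T J' ⟶ Over.mk p := Over.homMk v (by
    show v ≫ p = (redMap T J').left ≫ T.hom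
    rw [hv]
    exact (Category.comp_id _).symm)
  haveI : IsIso m := by
    haveI : IsIso ((Over.forget _).map m) := inferInstanceAs (IsIso v)
    exact isIso_of_reflects_iso m (Over.forget _)
  let f₀ : redObj T J' ⊗ H ⟶ G := (m ▷ H) ≫ (β_ _ _).hom ≫ famOf p u
  have hf₀ : IsRelMul f₀ := fun Z x g g' => by
    have k : ∀ g : Z ⟶ H, CartesianMonoidalCategory.lift x g ≫ f₀ = CartesianMonoidalCategory.lift g (x ≫ m) ≫ famOf p u := fun g => by
      simp only [f₀, lift_whiskerRight_assoc, lift_braiding_hom_assoc]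
    rw [k, k, k]
    exact isHomFamily_famOf p u Z g g' (x ≫ m)
  obtain ⟨f, hf, hfm⟩ := exists_hom_lift hH T hJ' f₀ hf₀
  let j : H ⟶ G := CartesianMonoidalCategory.lift (toUnit H) (𝟙 H) ≫ f
  haveI : IsMonHom j := isMonHom_of_relMul hfm
  have hbc : (Over.pullback p).map j = u := by
    suffices key : ∀ (Y : Over (Spec (CommRingCat.of (R ⧸ J)))) (x : Y ⟶ Red.bc p H),
        x ≫ (Over.pullback p).map j = x ≫ u by
      have := key _ (𝟙 _)
      rwa [Category.id_comp, Category.id_comp] at this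
    intro Y x
    refine toBase_injective p ?_
    rw [toBase_comp_map, toBase_comp_eq, ← Category.assoc, comp_lift, Category.comp_id]
    have h1 : toBase p x ≫ toUnit H = (strPt p Y ≫ inv m) ≫ redMap T J' := toUnit_unique _ _
    rw [h1, ← lift_whiskerRight_assoc, hf]
    simp only [f₀, lift_whiskerRight_assoc, Category.assoc, IsIso.inv_hom_id, Category.comp_id,
      lift_braiding_hom_assoc]
  haveI : LocallyOfFiniteType H.hom := by
    show LocallyOfFiniteType (Spec.map (CommRingCat.ofHom (algebraMap R A)))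
    rw [HasRingHomProperty.Spec_iff (P := @LocallyOfFiniteType)]
    exact RingHom.finiteType_algebraMap.mpr inferInstance
  haveI : LocallyOfFiniteType j.left := by
    haveI : LocallyOfFiniteType (j.left ≫ G.hom) := by rw [Over.w j]; infer_instance
    exact locallyOfFiniteType_of_comp j.left G.hom
  have himm : IsImmersion j.left := by
    haveI : IsIso φ.hom.left := inferInstanceAs (IsIso ((Over.forget _).map φ.hom))
    haveI : IsImmersion ((Over.pullback p).map j).left := by
      rw [hbc]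
      show IsImmersion (φ.hom.left ≫ j₀.left)
      infer_instance
    refine isImmersion_of_pullback j.left (pullback.fst G.hom p) ?_
    have sq : IsPullback (pullback.fst H.hom p) ((Over.pullback p).map j).left j.left (pullback.fst G.hom p) := by
      refine IsPullback.of_bot ?_ (pullback.lift_fst _ _ _).symm (IsPullback.of_hasPullback G.hom p)
      rw [Over.w j]
      have h2 : ((Over.pullback p).map j).left ≫ pullback.snd G.hom p = pullback.snd H.hom p := pullback.lift_snd _ _ _
      rw [h2]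
      exact IsPullback.of_hasPullback H.hom p
    rw [← sq.isoPullback_inv_snd]
    infer_instance
  exact ⟨H, inferInstance, j, hH, inferInstance, himm, inferInstance, φ, hbc.symm⟩

/-- A subgroup of multiplicative type of a smooth group lifts along a nilpotent ideal. -/
theorem exists_subgroup_lift {R : Type u} [CommRing R] (J : Ideal R) (hJ : IsNilpotent J)
    (G : Over (Spec (CommRingCat.of R))) [GrpObj G] [Smooth G.hom]
    (H₀ : Over (Spec (CommRingCat.of (R ⧸ J)))) [GrpObj H₀] (hH₀ : IsMultType H₀)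
    (j₀ : H₀ ⟶ Red.bc (Spec.map (CommRingCat.ofHom (Ideal.Quotient.mk J))) G) [IsMonHom j₀] [IsImmersion j₀.left] :
    ∃ (H : Over (Spec (CommRingCat.of R))) (_ : GrpObj H) (j : H ⟶ G), IsMonHom j ∧ IsImmersion j.left ∧ Flat H.hom ∧
      ∃ φ : Red.bc (Spec.map (CommRingCat.ofHom (Ideal.Quotient.mk J))) H ≅ H₀, φ.hom ≫ j₀ =
        (Over.pullback (Spec.map (CommRingCat.ofHom (Ideal.Quotient.mk J)))).map j := by
  obtain ⟨H, i, j, _, h⟩ := exists_multType_subgroup_lift J hJ G H₀ hH₀ j₀
  exact ⟨H, i, j, h⟩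

end Groth.Agent.Const38
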