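import Groth.Agent.Const38.SubgroupLift
import Groth.Agent.RedPts82.AvgConj
import Groth.Agent.RedPts82.ExtTorsion
import Groth.Agent.RedPts82.Comm
import Groth.Agent.RedPts82.Extension
import Mathlib.RingTheory.Flat.Equalizer

/-!
Lifting subgroups of multiplicative type with prescribed torsion.
-/

set_option autoImplicit false
set_option backward.isDefEq.respectTransparency.types false
set_option linter.style.haveILetI false
universe u

open CategoryTheory MonoidalCategory CartesianMonoidalCategory MonObj GrpObj AlgebraicGeometry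
open CategoryTheory.Limits
open scoped TensorProduct

noncomputable section

namespace Groth.Agent.Const38

open RedPts82

/-- An algebra map to a flat algebra inducing a bijection on points killed by a nilpotent ideal is
bijective. -/
theorem bijective_of_points_mod_nilpotent {R B C : Type u} [CommRing R] [CommRing B] [CommRing C] [Algebra R B]
    [Algebra R C] [Module.Flat R C] (J : Ideal R) (hJ : IsNilpotent J) (u : B →ₐ[R] C)
    (h : ∀ (D : Type u) [CommRing D] [Algebra R D], J ≤ RingHom.ker (algebraMap R D) →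
      Function.Bijective fun f : C →ₐ[R] D => f.comp u) : Function.Bijective u := by
  have hk : ∀ (P : Type u) [CommRing P] [Algebra R P],
      J ≤ RingHom.ker (algebraMap R ((R ⧸ J) ⊗[R] P)) := fun P _ _ r hr => by
    rw [RingHom.mem_ker, Algebra.TensorProduct.algebraMap_apply, Ideal.Quotient.algebraMap_eq,
      Ideal.Quotient.eq_zero_iff_mem.mpr hr, TensorProduct.zero_tmul]
  let iB : B →ₐ[R] (R ⧸ J) ⊗[R] B := Algebra.TensorProduct.includeRight
  let iC : C →ₐ[R] (R ⧸ J) ⊗[R] C := Algebra.TensorProduct.includeRight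
  obtain ⟨s, hs⟩ := (h _ (hk B)).2 iB
  have hs' : ∀ b, s (u b) = (1 : R ⧸ J) ⊗ₜ[R] b := fun b => DFunLike.congr_fun hs b
  -- surjectivity
  let t : (R ⧸ J) ⊗[R] B →ₐ[R] (R ⧸ J) ⊗[R] C := Algebra.TensorProduct.map (AlgHom.id R _) u
  have hts : t.comp s = iC := (h _ (hk C)).1 (AlgHom.ext fun b => by
    show t (s (u b)) = _
    rw [hs']
    simp [t, iC])
  have hlift : ∀ z : (R ⧸ J) ⊗[R] B, ∃ b, (1 : R ⧸ J) ⊗ₜ[R] b = z := fun z => by
    induction z using TensorProduct.induction_on with
    | zero => exact ⟨0, TensorProduct.tmul_zero _ _⟩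
    | tmul x b =>
      obtain ⟨r, rfl⟩ := Ideal.Quotient.mk_surjective x
      refine ⟨r • b, ?_⟩
      rw [← TensorProduct.smul_tmul, Algebra.smul_def, _root_.mul_one, Ideal.Quotient.algebraMap_eq]
    | add x y hx hy =>
      obtain ⟨a, rfl⟩ := hx
      obtain ⟨b, rfl⟩ := hy
      exact ⟨a + b, TensorProduct.tmul_add _ _ _⟩
  have hsurj : Function.Surjective u := by
    have htop : LinearMap.range u.toLinearMap ⊔ J • (⊤ : Submodule R C) = ⊤ := by
      rw [eq_top_iff]
      rintro c -
      obtain ⟨b, hb⟩ := hlift (s c)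
      refine Submodule.mem_sup.2 ⟨u b, ⟨b, rfl⟩, c - u b, ?_, add_sub_cancel _ _⟩
      rw [← FlatCrit65.one_tmul_eq_zero_iff', TensorProduct.tmul_sub, sub_eq_zero]
      have := DFunLike.congr_fun hts c
      rw [AlgHom.comp_apply, ← hb] at this
      simpa [t, iC] using this.symm
    intro c
    exact LinearMap.range_eq_top.1 (FlatCrit65.eq_top_of_sup_smul_top_of_isNilpotent hJ htop) c
  refine ⟨?_, hsurj⟩
  let K := LinearMap.ker u.toLinearMap
  have hK : K ≤ J • K := fun x hx => by
    refine FlatCrit65.mem_smul_of_one_tmul_eq_zero J K (x := ⟨x, hx⟩) ?_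
    refine LinearMap.lTensor_injective_of_exact_of_flat u.toLinearMap hsurj K.subtype K.injective_subtype
      (LinearMap.exact_subtype_ker_map _) (R ⧸ J) ?_
    rw [LinearMap.lTensor_tmul, map_zero, Submodule.subtype_apply, ← hs', show u x = 0 from hx, map_zero]
  intro a b hab
  have : a - b ∈ K := by
    show u (a - b) = 0
    rw [map_sub, hab, sub_self]
  rw [FlatCrit65.eq_bot_of_le_smul_of_isNilpotent hJ hK, Submodule.mem_bot, sub_eq_zero] at this
  exact this

/-- A morphism from a flat affine scheme over an affine base inducing bijections on the points killed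
by a nilpotent ideal is an isomorphism. -/
theorem isIso_of_points_mod_nilpotent {R : Type u} [CommRing R] (J : Ideal R) (hJ : IsNilpotent J)
    {X Y : Over (Spec (CommRingCat.of R))} [IsAffine X.left] [IsAffine Y.left] [Flat X.hom] (f : X ⟶ Y)
    (h : ∀ Z : Over (Spec (CommRingCat.of R)),
      (Z ⟶ Over.mk (Spec.map (CommRingCat.ofHom (Ideal.Quotient.mk J)))) →
        Function.Bijective fun g : Z ⟶ X => g ≫ f) : IsIso f := by
  let φX := (Scheme.ΓSpecIso (CommRingCat.of R)).inv ≫ X.hom.appTop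
  let φY := (Scheme.ΓSpecIso (CommRingCat.of R)).inv ≫ Y.hom.appTop
  letI : Algebra R Γ(X.left, ⊤) := φX.hom.toAlgebra
  letI : Algebra R Γ(Y.left, ⊤) := φY.hom.toAlgebra
  have hX : X.left.isoSpec.hom ≫ Spec.map φX = X.hom := (FlatCrit65.eq_isoSpec_hom_SpecMap X.hom).symm
  have hY : Y.left.isoSpec.hom ≫ Spec.map φY = Y.hom := (FlatCrit65.eq_isoSpec_hom_SpecMap Y.hom).symm
  let u : Γ(Y.left, ⊤) →ₐ[R] Γ(X.left, ⊤) :=
    { f.left.appTop.hom with
      commutes' := fun r => by
        show f.left.appTop (Y.hom.appTop _) = X.hom.appTop _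
        rw [← Over.w f, Scheme.Hom.comp_appTop]
        rfl }
  have hu : X.left.isoSpec.hom ≫ Spec.map (CommRingCat.ofHom u.toRingHom) = f.left ≫ Y.left.isoSpec.hom :=
    Scheme.isoSpec_hom_naturality f.left
  haveI : Module.Flat R Γ(X.left, ⊤) := by
    have : Flat (Spec.map φX) := by
      rw [show Spec.map φX = X.left.isoSpec.inv ≫ X.hom by rw [← hX, Iso.inv_hom_id_assoc]]
      exact (MorphismProperty.cancel_left_of_respectsIso (P := @Flat) _ _).mpr inferInstance
    rw [HasRingHomProperty.Spec_iff (P := @Flat)] at this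
    exact RingHom.flat_algebraMap_iff.mp this
  have hb : Function.Bijective u := bijective_of_points_mod_nilpotent J hJ u fun D _ _ hD => by
    let Z : Over (Spec (CommRingCat.of R)) := Over.mk (Spec.map (CommRingCat.ofHom (algebraMap R D)))
    let x : Z ⟶ Over.mk (Spec.map (CommRingCat.ofHom (Ideal.Quotient.mk J))) :=
      Over.homMk (Spec.map (CommRingCat.ofHom (Ideal.Quotient.lift J (algebraMap R D) hD)))
        (by
          show _ ≫ Spec.map _ = Spec.map _
          rw [← Spec.map_comp]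
          rfl)
    have hbij := h Z x
    let pX : (Γ(X.left, ⊤) →ₐ[R] D) → (Z ⟶ X) := fun g =>
      Over.homMk (Spec.map (CommRingCat.ofHom g.toRingHom) ≫ X.left.isoSpec.inv) (by
        show (_ ≫ _) ≫ X.hom = Spec.map _
        rw [← hX, Category.assoc, Iso.inv_hom_id_assoc, ← Spec.map_comp]
        congr 1
        ext r
        exact g.commutes r)
    let pY : (Γ(Y.left, ⊤) →ₐ[R] D) → (Z ⟶ Y) := fun g =>
      Over.homMk (Spec.map (CommRingCat.ofHom g.toRingHom) ≫ Y.left.isoSpec.inv) (by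
        show (_ ≫ _) ≫ Y.hom = Spec.map _
        rw [← hY, Category.assoc, Iso.inv_hom_id_assoc, ← Spec.map_comp]
        congr 1
        ext r
        exact g.commutes r)
    have hinjY : Function.Injective pY := fun g g' hg => by
      have h1 := congrArg CommaMorphism.left hg
      simp only [pY, Over.homMk_left, cancel_mono] at h1
      exact AlgHom.coe_ringHom_injective (congrArg CommRingCat.Hom.hom (Spec.map_injective h1))
    have hcomp : ∀ g, pX g ≫ f = pY (g.comp u) := fun g => by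
      ext1
      simp only [pX, pY, Over.comp_left, Over.homMk_left, Category.assoc]
      rw [show X.left.isoSpec.inv ≫ f.left = Spec.map (CommRingCat.ofHom u.toRingHom) ≫ Y.left.isoSpec.inv by
        rw [Iso.inv_comp_eq, ← Category.assoc, hu, Category.assoc, Iso.hom_inv_id, Category.comp_id],
        ← Category.assoc, ← Spec.map_comp]
      rfl
    refine ⟨fun g g' hg => ?_, fun g => ?_⟩
    · have : pX g = pX g' := hbij.1 (by show pX g ≫ f = pX g' ≫ f; rw [hcomp, hcomp]; exact congrArg pY hg)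
      have h1 := congrArg CommaMorphism.left this
      simp only [pX, Over.homMk_left, cancel_mono] at h1
      exact AlgHom.coe_ringHom_injective (congrArg CommRingCat.Hom.hom (Spec.map_injective h1))
    · obtain ⟨a, ha⟩ := hbij.2 (pY g)
      let g' := Spec.preimage (a.left ≫ X.left.isoSpec.hom)
      have hg' : Spec.map g' = a.left ≫ X.left.isoSpec.hom := Spec.map_preimage _
      have hw : φX ≫ g' = CommRingCat.ofHom (algebraMap R D) := Spec.map_injective (by
        rw [Spec.map_comp, hg', Category.assoc, hX]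
        exact Over.w a)
      let gA : Γ(X.left, ⊤) →ₐ[R] D :=
        { g'.hom with commutes' := fun r => DFunLike.congr_fun (congrArg CommRingCat.Hom.hom hw) r }
      have : pX gA = a := by
        ext1
        show Spec.map g' ≫ _ = _
        rw [hg', Category.assoc, Iso.hom_inv_id, Category.comp_id]
      exact ⟨gA, hinjY (by rw [← hcomp, this]; exact ha)⟩
  haveI : IsIso (Spec.map (CommRingCat.ofHom u.toRingHom)) := by
    haveI : IsIso (CommRingCat.ofHom u.toRingHom) := (ConcreteCategory.isIso_iff_bijective _).mpr hb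
    infer_instance
  haveI : IsIso f.left := by
    rw [show f.left = X.left.isoSpec.hom ≫ Spec.map (CommRingCat.ofHom u.toRingHom) ≫ Y.left.isoSpec.inv by
      rw [← Category.assoc, hu, Category.assoc, Iso.hom_inv_id, Category.comp_id]]
    infer_instance
  haveI : IsIso ((Over.forget _).map f) := inferInstanceAs (IsIso f.left)
  exact isIso_of_reflects_iso f (Over.forget _)

/-- Torsion descriptions after base change describe the points over the subscheme. -/
theorem exists_iff_of_bc {S S₀ : Scheme.{u}} (p : S₀ ⟶ S) (n : ℕ) {G H L : Over S} [GrpObj G] [GrpObj H]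
    (l : L ⟶ G) (j : H ⟶ G) [IsMonHom j] [Mono j] {H₀ : Over S₀} [GrpObj H₀] (j₀ : H₀ ⟶ Red.bc p G)
    [IsMonHom j₀] [Mono j₀] (φ : Red.bc p H ≅ H₀) (hφ : φ.hom ≫ j₀ = (Over.pullback p).map j)
    (h0 : ∀ (X : Over S₀) (g : X ⟶ Red.bc p G), (∃ y : X ⟶ Red.bc p L, y ≫ (Over.pullback p).map l = g) ↔
      ∃ h : X ⟶ H₀, h ^ n = 1 ∧ h ≫ j₀ = g)
    (Z : Over S) (x : Z ⟶ Over.mk p) (g : Z ⟶ G) :
    (∃ y : Z ⟶ L, y ≫ l = g) ↔ ∃ h : Z ⟶ H, h ^ n = 1 ∧ h ≫ j = g := by
  let Y : Over S₀ := Over.mk x.left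
  let c : (Over.map p).obj Y ≅ Z := Over.isoMk (Iso.refl _) (by
    show 𝟙 _ ≫ Z.hom = x.left ≫ p
    rw [Category.id_comp]
    exact (Over.w x).symm)
  have h0' := h0 Y (ofBase p (c.hom ≫ g))
  constructor
  · rintro ⟨y, rfl⟩
    obtain ⟨h₀, hn, hh⟩ := h0'.1 ⟨ofBase p (c.hom ≫ y), toBase_injective p (by
      rw [toBase_comp_map, toBase_ofBase, toBase_ofBase, Category.assoc])⟩
    have hh' : toBase p (h₀ ≫ φ.inv) ≫ j = c.hom ≫ y ≫ l := by
      rw [← toBase_comp_map, ← hφ, Category.assoc, Iso.inv_hom_id_assoc, hh, toBase_ofBase]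
    refine ⟨c.inv ≫ toBase p (h₀ ≫ φ.inv), ?_, by rw [Category.assoc, hh', Iso.inv_hom_id_assoc]⟩
    rw [← cancel_mono j, MonObj.pow_comp, MonObj.one_comp j, Category.assoc, ← toBase_comp_map, ← hφ,
      Category.assoc, Iso.inv_hom_id_assoc, ← MonObj.comp_pow, ← toBase_pow, ← MonObj.pow_comp, hn,
      MonObj.one_comp j₀, toBase_one, MonObj.comp_one]
  · rintro ⟨h, hn, rfl⟩
    have hj₀ : ofBase p (c.hom ≫ h) ≫ φ.hom ≫ j₀ = ofBase p (c.hom ≫ h ≫ j) := by
      rw [hφ]
      refine toBase_injective p ?_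
      rw [toBase_comp_map, toBase_ofBase, toBase_ofBase, Category.assoc]
    obtain ⟨y, hy⟩ := h0'.2 ⟨ofBase p (c.hom ≫ h) ≫ φ.hom, by
      rw [← cancel_mono j₀, MonObj.pow_comp, Category.assoc, hj₀, MonObj.one_comp j₀]
      refine toBase_injective p ?_
      rw [toBase_pow, toBase_ofBase, toBase_one, ← MonObj.comp_pow, ← MonObj.pow_comp, hn,
        MonObj.one_comp j, MonObj.comp_one], by rw [Category.assoc, hj₀]⟩
    refine ⟨c.inv ≫ toBase p y, ?_⟩
    rw [Category.assoc, ← toBase_comp_map, hy, toBase_ofBase, Iso.inv_hom_id_assoc]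

/-- Subgroups of multiplicative type of smooth groups lift along nilpotent ideals with a prescribed
lift of their torsion. -/
theorem exists_subgroup_lift_torsion {R : Type u} [CommRing R] (J : Ideal R) (hJ : IsNilpotent J) (n : ℕ)
    (G : Over (Spec (CommRingCat.of R))) [GrpObj G] [Smooth G.hom]
    (H₀ : Over (Spec (CommRingCat.of (R ⧸ J)))) [GrpObj H₀] (hH₀ : IsMultType H₀)
    (j₀ : H₀ ⟶ Red.bc (Spec.map (CommRingCat.ofHom (Ideal.Quotient.mk J))) G) [IsMonHom j₀] [IsImmersion j₀.left]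
    (L : Over (Spec (CommRingCat.of R))) [GrpObj L] (hL : IsMultType L) (l : L ⟶ G) [IsMonHom l] [IsImmersion l.left]
    (hL0 : ∀ (X : Over (Spec (CommRingCat.of (R ⧸ J)))) (g : X ⟶ Red.bc (Spec.map (CommRingCat.ofHom (Ideal.Quotient.mk J))) G),
      (∃ y : X ⟶ Red.bc (Spec.map (CommRingCat.ofHom (Ideal.Quotient.mk J))) L,
        y ≫ (Over.pullback (Spec.map (CommRingCat.ofHom (Ideal.Quotient.mk J)))).map l = g) ↔
          ∃ h : X ⟶ H₀, h ^ n = 1 ∧ h ≫ j₀ = g) :
    ∃ (H : Over (Spec (CommRingCat.of R))) (_ : GrpObj H) (j : H ⟶ G), IsMonHom j ∧ IsImmersion j.left ∧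
      IsMultType H ∧
      (∃ φ : Red.bc (Spec.map (CommRingCat.ofHom (Ideal.Quotient.mk J))) H ≅ H₀,
        φ.hom ≫ j₀ = (Over.pullback (Spec.map (CommRingCat.ofHom (Ideal.Quotient.mk J)))).map j) ∧
      ∀ (X : Over (Spec (CommRingCat.of R))) (g : X ⟶ G),
        (∃ y : X ⟶ L, y ≫ l = g) ↔ ∃ h : X ⟶ H, h ^ n = 1 ∧ h ≫ j = g := by
  obtain ⟨H, iH, j, hH, hjm, hji, _, φ, hφ⟩ := exists_multType_subgroup_lift J hJ G H₀ hH₀ j₀
  haveI := hjm
  haveI := hji
  let X₀ : Over (Spec (CommRingCat.of R)) := Over.mk (Spec.map (CommRingCat.ofHom (Ideal.Quotient.mk J)))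
  haveI : Mono j := Over.mono_of_mono_left j
  haveI : Mono l := Over.mono_of_mono_left l
  haveI : Mono j₀ := Over.mono_of_mono_left j₀
  have key : ∀ (Z : Over (Spec (CommRingCat.of R))) (_ : Z ⟶ X₀) (g : Z ⟶ G),
      (∃ y : Z ⟶ L, y ≫ l = g) ↔ ∃ h : Z ⟶ H, h ^ n = 1 ∧ h ≫ j = g :=
    exists_iff_of_bc _ n l j j₀ φ hφ hL0
  -- the nilpotent family
  obtain ⟨_, J', -, hnil, ⟨e⟩⟩ := RedPts82.exists_base_red J
  let U := 𝟙_ (Over (Spec (CommRingCat.of R)))
  let T₀ := redObj U J'
  haveI : IsAffineHom H.hom := isMultType_isAffineHom hH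
  haveI : IsAffineHom L.hom := isMultType_isAffineHom hL
  haveI : IsAffine H.left := isAffine_of_isAffineHom H.hom
  haveI : IsAffine L.left := isAffine_of_isAffineHom L.hom
  haveI : LocallyOfFiniteType L.hom := by rw [← Over.w l]; infer_instance
  have hLFT := isMultTypeFT_of_locallyOfFiniteType hL
  haveI : Flat L.hom := by
    haveI : MorphismProperty.DescendsAlong (@Flat : MorphismProperty Scheme.{u}) Unr55.fpqc.{u} :=
      flat_descends_fpqc
    exact isMultTypeFT_prop (@Flat) hLFT fun U M _ _ => flat_DS_hom U M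
  -- the lifted map
  obtain ⟨a₀, ha₀n, ha₀⟩ := (key (T₀ ⊗ L) (fst _ _ ≫ e.inv) (snd _ _ ≫ l)).1 ⟨snd _ _, rfl⟩
  have hma : IsRelMul a₀ := fun Z x k k' => by
    rw [← cancel_mono j, MonObj.mul_comp _ _ j, Category.assoc, Category.assoc, Category.assoc, ha₀]
    simp only [lift_snd_assoc]
    exact MonObj.mul_comp _ _ l
  obtain ⟨fa, hfa, hfam⟩ := exists_mult_hom_lift hL hH U (hnil hJ) a₀ hma
  let a : L ⟶ H := CartesianMonoidalCategory.lift (toUnit L) (𝟙 L) ≫ fa
  haveI : IsMonHom a := isMonHom_of_relMul hfam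
  have ha : ∀ (Z : Over (Spec (CommRingCat.of R))) (x : Z ⟶ T₀) (k : Z ⟶ L), k ≫ a ≫ j = k ≫ l := fun Z x k => by
    have h1 : k ≫ a = CartesianMonoidalCategory.lift x k ≫ a₀ := by
      rw [← hfa, lift_whiskerRight_assoc, toUnit_unique (x ≫ redMap U J') (toUnit Z)]
      simp [a, U, comp_lift_assoc]
    rw [← Category.assoc, h1, Category.assoc, ha₀, lift_snd_assoc]
  -- the torsion of the prescribed group
  let P : L ⟶ L := (𝟙 L) ^ n
  have hPpt : ∀ {Z : Over (Spec (CommRingCat.of R))} (k : Z ⟶ L), k ≫ P = k ^ n := fun k => by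
    rw [MonObj.comp_pow, Category.comp_id]
  have hkill : ∀ {Z : Over (Spec (CommRingCat.of R))} (k : Z ⟶ L), k ^ n = 1 := by
    suffices hP : P = 1 by intro Z k; rw [← hPpt, hP, MonObj.comp_one]
    have h1 := relMul_eq_of_nilpotent hL hL U (hnil hJ) (f := snd U L ≫ P) (f' := 1)
      (fun Z x k k' => by
        rw [← Category.assoc, ← Category.assoc, ← Category.assoc, lift_snd, lift_snd, lift_snd, hPpt, hPpt, hPpt]
        exact (show Commute k k' from isMultTypeFT_points_comm hLFT k k').mul_pow n)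
      (fun Z x k k' => by simp only [MonObj.comp_one, _root_.mul_one])
      (by
        rw [whiskerRight_snd_assoc, MonObj.comp_one, hPpt, ← cancel_mono l, MonObj.pow_comp,
          MonObj.one_comp l, ← ha _ (fst _ _) (snd _ _)]
        obtain ⟨h, hn, hh⟩ := (key _ (fst T₀ L ≫ e.inv) (snd T₀ L ≫ l)).1 ⟨_, rfl⟩
        rw [ha _ (fst _ _) (snd _ _), ← hh, ← MonObj.pow_comp, hn, MonObj.one_comp])
    have := congrArg (fun c => CartesianMonoidalCategory.lift (toUnit L) (𝟙 L) ≫ c) h1
    simpa [U, MonObj.comp_one] using this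
  -- conjugation
  obtain ⟨g, hg, hconj⟩ := exists_conj_lift_nil hL (a ≫ j) l U (hnil hJ) (1 : T₀ ⟶ G) (fun Z x k => by
    rw [MonObj.comp_one, _root_.one_mul, inv_one, _root_.mul_one]
    exact ha Z x k)
  let c : G ⟶ G := (toUnit G ≫ g) * 𝟙 G * (toUnit G ≫ g)⁻¹
  let c' : G ⟶ G := (toUnit G ≫ g)⁻¹ * 𝟙 G * (toUnit G ≫ g)
  have hc : ∀ {Z : Over (Spec (CommRingCat.of R))} (k : Z ⟶ G),
      k ≫ c = (toUnit Z ≫ g) * k * (toUnit Z ≫ g)⁻¹ := fun k => by
    simp only [c, MonObj.comp_mul, GrpObj.comp_inv, Category.comp_id, ← Category.assoc, comp_toUnit]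
  have hc' : ∀ {Z : Over (Spec (CommRingCat.of R))} (k : Z ⟶ G),
      k ≫ c' = (toUnit Z ≫ g)⁻¹ * k * (toUnit Z ≫ g) := fun k => by
    simp only [c', MonObj.comp_mul, GrpObj.comp_inv, Category.comp_id, ← Category.assoc, comp_toUnit]
  haveI : IsIso c := ⟨c', by rw [hc']; show _ * c * _ = _; simp only [c]; group,
    by rw [hc]; show _ * c' * _ = _; simp only [c']; group⟩
  haveI : IsMonHom c := isMonHom_of_points _ fun Z x y => by rw [hc, hc, hc]; group
  haveI : IsIso c.left := inferInstanceAs (IsIso ((Over.forget _).map c))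
  let j' : H ⟶ G := j ≫ c
  haveI : IsMonHom j' := inferInstanceAs (IsMonHom (j ≫ c))
  haveI hj'i : IsImmersion j'.left := inferInstanceAs (IsImmersion (j.left ≫ c.left))
  haveI : Mono j' := Over.mono_of_mono_left j'
  have hjj' : ∀ (Z : Over (Spec (CommRingCat.of R))) (x : Z ⟶ X₀) (k : Z ⟶ H), k ≫ j' = k ≫ j := fun Z x k => by
    have h1 : toUnit Z ≫ g = 1 := by
      rw [toUnit_unique (toUnit Z) ((x ≫ e.hom) ≫ redMap U J'), Category.assoc, hg, MonObj.comp_one]
    rw [show k ≫ j' = (k ≫ j) ≫ c from (Category.assoc _ _ _).symm, hc, h1, _root_.one_mul, inv_one,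
      _root_.mul_one]
  have hal : a ≫ j' = l := by
    have := hconj L (toUnit L) (𝟙 L)
    rw [Category.id_comp, Category.id_comp, ← hc, Category.assoc] at this
    exact this
  refine ⟨H, iH, j', inferInstance, hj'i, hH, ⟨φ, ?_⟩, fun X y => ⟨?_, ?_⟩⟩
  · rw [hφ]
    let p := Spec.map (CommRingCat.ofHom (Ideal.Quotient.mk J))
    suffices hh : ∀ (Y : Over (Spec (CommRingCat.of (R ⧸ J)))) (x : Y ⟶ Red.bc p H),
        x ≫ (Over.pullback p).map j = x ≫ (Over.pullback p).map j' by
      have := hh _ (𝟙 _)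
      rwa [Category.id_comp, Category.id_comp] at this
    intro Y x
    refine toBase_injective p ?_
    rw [toBase_comp_map, toBase_comp_map]
    exact (hjj' _ (Over.homMk Y.hom rfl) _).symm
  · rintro ⟨y, rfl⟩
    exact ⟨y ≫ a, by rw [← MonObj.pow_comp, hkill, MonObj.one_comp], by rw [Category.assoc, hal]⟩
  · rintro ⟨h, hn, rfl⟩
    -- the kernel of the power map
    let N := pullback ((𝟙 H) ^ n : H ⟶ H) η[H]
    let i : N ⟶ H := pullback.fst _ _
    haveI : IsClosedImmersion η[H].left := by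
      haveI : IsClosedImmersion (η[H].left ≫ H.hom) := by
        rw [Over.w η[H]]; exact inferInstanceAs (IsClosedImmersion (𝟙 (Spec (CommRingCat.of R))))
      exact IsClosedImmersion.of_comp η[H].left H.hom
    haveI : IsClosedImmersion i.left :=
      MorphismProperty.of_isPullback (P := @IsClosedImmersion)
        ((IsPullback.of_hasPullback ((𝟙 H) ^ n : H ⟶ H) η[H]).map (Over.forget _)).flip
        (show IsClosedImmersion η[H].left from inferInstance)
    haveI : IsAffine N.left := isAffine_of_isAffineHom i.left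
    have hN : ∀ {Z : Over (Spec (CommRingCat.of R))} (k : Z ⟶ H), k ^ n = 1 →
        k ≫ ((𝟙 H) ^ n : H ⟶ H) = toUnit Z ≫ η[H] := fun k hk => by
      rw [MonObj.comp_pow, Category.comp_id, hk, Hom.one_def]
    have hNi : i ^ n = 1 := by
      have h1 := pullback.condition (f := ((𝟙 H) ^ n : H ⟶ H)) (g := η[H])
      rw [MonObj.comp_pow, Category.comp_id, toUnit_unique (pullback.snd _ _) (toUnit N), ← Hom.one_def] at h1
      exact h1
    let a' : L ⟶ N := pullback.lift a (toUnit L) (hN a (by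
      rw [← Category.id_comp a, ← MonObj.pow_comp, hkill, MonObj.one_comp]))
    have ha' : a' ≫ i = a := pullback.lift_fst _ _ _
    haveI : IsIso a' := by
      refine isIso_of_points_mod_nilpotent J hJ a' fun Z x => ⟨fun k k' hk => ?_, fun v => ?_⟩
      · have := congrArg (fun q => q ≫ i ≫ j') hk
        simp only [Category.assoc, reassoc_of% ha', hal, cancel_mono] at this
        exact this
      · obtain ⟨y, hy⟩ := (key Z x (v ≫ i ≫ j)).2 ⟨v ≫ i,
          by rw [← MonObj.comp_pow, hNi, MonObj.comp_one], Category.assoc _ _ _⟩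
        refine ⟨y, ?_⟩
        show y ≫ a' = v
        rw [← cancel_mono i, ← cancel_mono j', Category.assoc, Category.assoc, reassoc_of% ha', hal,
          Category.assoc, hy, ← Category.assoc, ← Category.assoc, hjj' Z x]
    refine ⟨pullback.lift h (toUnit X) (hN h hn) ≫ inv a', ?_⟩
    rw [← hal, ← ha', Category.assoc, Category.assoc, IsIso.inv_hom_id_assoc, pullback.lift_fst_assoc]

end Groth.Agent.Const38
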