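import Groth.Agent.Const38.TwLattice
import Groth.Prelude.Def_AlgGrp

/-! Torsors under constant groups. -/

set_option autoImplicit false
set_option linter.style.haveILetI false
universe u

open CategoryTheory CategoryTheory.Limits MonoidalCategory CartesianMonoidalCategory MonObj AlgebraicGeometry

namespace Groth.Agent.Const38

variable {P : Scheme.{u}} {G X : Over P} [GrpObj G]

/-- A property of the structure morphism of a group passes to fppf torsors under it. -/
theorem torsor_prop (Q : MorphismProperty Scheme.{u}) [Q.IsStableUnderBaseChange] [Q.RespectsIso]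
    [Q.DescendsAlong (@Surjective ⊓ @Flat ⊓ @LocallyOfFinitePresentation)]
    {a : AlgGrp.Action G X} (ha : NonAbH1.IsTorsorFor Scheme.fppfPrecoverage a) (hG : Q G.hom) : Q X.hom := by
  obtain ⟨hps, R, hR, hsec⟩ := ha
  have hR' := hR
  rw [Scheme.fppfPrecoverage_eq_inf] at hR'
  obtain ⟨hflat, hlfp⟩ := hR'
  have hcov : ∀ x : P, ∃ (W : Scheme.{u}) (f : W ⟶ P), R f ∧ x ∈ Set.range f := by
    intro x
    obtain ⟨W, f, hf, hx⟩ := Types.mem_jointlySurjectivePrecoverage_iff.1 hflat.1 x
    obtain ⟨hf⟩ := hf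
    exact ⟨_, _, hf, hx⟩
  choose W f hRf hx using hcov
  choose s hs using fun x => hsec (f x) (hRf x)
  let b : ∐ W ⟶ P := Sigma.desc f
  let t : ∐ W ⟶ X.left := Sigma.desc s
  have htb : t ≫ X.hom = b := by
    refine Sigma.hom_ext _ _ fun x => ?_
    simp only [b, t, Sigma.ι_desc_assoc, Sigma.ι_desc]
    exact hs x
  have hb1 : Surjective b := ⟨fun x => by
    obtain ⟨w, hw⟩ := hx x
    exact ⟨Sigma.ι W x w, by rw [← Scheme.Hom.comp_apply, Sigma.ι_desc, hw]⟩⟩
  have hb2 : Flat b := IsZariskiLocalAtSource.sigmaDesc fun x => hflat.2 (hRf x)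
  have hb3 : LocallyOfFinitePresentation b := IsZariskiLocalAtSource.sigmaDesc fun x => hlfp.2 (hRf x)
  have : IsIso (lift a.act (snd G X)).left :=
    haveI : IsIso (lift a.act (snd G X)) := hps
    inferInstanceAs (IsIso ((Over.forget P).map (lift a.act (snd G X))))
  have hw : (lift a.act (snd G X)).left ≫ pullback.snd X.hom X.hom = pullback.snd G.hom X.hom := by
    exact (Over.comp_left _ _ _ _ _).symm.trans (congrArg (fun m : G ⊗ X ⟶ X => m.left) (lift_snd a.act (snd G X)))
  have hXX : Q (pullback.snd X.hom X.hom) := by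
    rw [← Q.cancel_left_of_respectsIso (lift a.act (snd G X)).left, hw]
    exact Q.pullback_snd _ _ hG
  have hsq : IsPullback (pullback.fst (pullback.snd X.hom X.hom) t ≫ pullback.fst X.hom X.hom)
      (pullback.snd (pullback.snd X.hom X.hom) t) X.hom b := by
    rw [← htb]
    exact (IsPullback.of_hasPullback (pullback.snd X.hom X.hom) t).paste_horiz (IsPullback.of_hasPullback X.hom X.hom)
  exact MorphismProperty.of_isPullback_of_descendsAlong
    (Q := @Surjective ⊓ @Flat ⊓ @LocallyOfFinitePresentation) hsq.flip ⟨⟨hb1, hb2⟩, hb3⟩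
    (Q.pullback_snd _ _ hXX)

theorem torsor_isSeparated_etale {Z : Type u} (eG : G ≅ TwC.const P Z) {a : AlgGrp.Action G X}
    (ha : NonAbH1.IsTorsorFor Scheme.fppfPrecoverage a) : IsSeparated X.hom ∧ Etale X.hom := by
  have : MorphismProperty.DescendsAlong @IsSeparated (@Surjective ⊓ @Flat ⊓ @QuasiCompact : MorphismProperty Scheme.{u}) :=
    Unr55.isSeparated
  exact ⟨torsor_prop @IsSeparated ha (isSeparated_const eG), torsor_prop @Etale ha (etale_const eG)⟩

/-- A section over a connected scheme can be translated to take a prescribed value at a connected point. -/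
theorem exists_translate {Z : Type u} (eG : G ≅ TwC.const P Z) {a : AlgGrp.Action G X}
    (hps : NonAbH1.IsPseudoTorsorSch a) {T0 T1 : Over P} [ConnectedSpace T0.left]
    (i : T0 ⟶ T1) (σ0 : T1 ⟶ X) (b : T0 ⟶ X) : ∃ σ : T1 ⟶ X, i ≫ σ = b := by
  have : IsIso (lift a.act (snd G X)) := hps
  obtain ⟨m, hm⟩ := exists_eq_cpt eG (lift b (i ≫ σ0) ≫ inv (lift a.act (snd G X)) ≫ fst G X)
  refine ⟨lift (cpt eG T1 m) σ0 ≫ a.act, ?_⟩
  let w : T0 ⟶ G ⊗ X := lift b (i ≫ σ0) ≫ inv (lift a.act (snd G X))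
  have h0 : w ≫ lift a.act (snd G X) = lift b (i ≫ σ0) := by
    rw [Category.assoc, IsIso.inv_hom_id, Category.comp_id]
  have h1 : w ≫ a.act = b := by simpa using congrArg (· ≫ fst X X) h0
  have h2 : w ≫ snd G X = i ≫ σ0 := by simpa using congrArg (· ≫ snd X X) h0
  have hw : w = lift (cpt eG T0 m) (i ≫ σ0) := by
    refine CartesianMonoidalCategory.hom_ext _ _ ?_ ?_
    · rw [lift_fst, ← hm]; simp [w]
    · rw [lift_snd, h2]
  rw [← h1, hw, ← Category.assoc, comp_lift, comp_cpt]

end Groth.Agent.Const38
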