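import Groth.Agent.Const38.Torsor
import Groth.Agent.Const38.SmoothUnibranch
import Groth.Agent.AlgGrp79.Act

/-! Torsors under torsion-free constant groups over schemes smooth over geometrically unibranch ones. -/

set_option autoImplicit false
set_option linter.style.haveILetI false
universe u

open CategoryTheory CategoryTheory.Limits MonoidalCategory CartesianMonoidalCategory MonObj AlgebraicGeometry

namespace Groth.Agent.Const38

variable {P : Scheme.{u}} {G X : Over P} [GrpObj G] {Z : Type u} [Group Z] (eG : G ≅ TwC.const P Z)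
  (a : AlgGrp.Action G X)

/-- Translation by the index `z`. -/
noncomputable def trans (z : Z) : X ⟶ X := lift (cpt eG X z) (𝟙 X) ≫ a.act

omit [Group Z] in
theorem trans_hom (z : Z) (x : X.left) : X.hom ((trans eG a z).left x) = X.hom x := by
  rw [← Scheme.Hom.comp_apply, Over.w]

omit [Group Z] in
theorem comp_trans {T : Over P} (x : T ⟶ X) (z : Z) : x ≫ trans eG a z = lift (cpt eG T z) x ≫ a.act := by
  rw [trans, AlgGrp79.comp_lift_act, comp_cpt, Category.comp_id]

variable {eG} (hG : TwC.IsConstGrp Z G eG)
include hG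

theorem trans_comp (z z' : Z) : trans eG a z' ≫ trans eG a z = trans eG a (z * z') := by
  rw [comp_trans, trans, ← AlgGrp79.mul_act', cpt_mul hG]
  rfl

theorem trans_one : trans eG a (1 : Z) = 𝟙 X := by
  rw [trans, cpt_one hG, AlgGrp79.one_act']

theorem trans_apply (z z' : Z) (x : X.left) :
    (trans eG a z).left ((trans eG a z').left x) = (trans eG a (z * z')).left x := by
  rw [← trans_comp a hG z z', Over.comp_left, Scheme.Hom.comp_apply]

theorem trans_maximal (z : Z) {x : X.left} (hx : ∀ y, y ⤳ x → y = x) (y : X.left)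
    (hy : y ⤳ (trans eG a z).left x) : y = (trans eG a z).left x := by
  have h := hy.map (trans eG a z⁻¹).left.continuous
  rw [trans_apply a hG, inv_mul_cancel, trans_one a hG] at h
  have h' := hx _ h
  rw [← h', trans_apply a hG, mul_inv_cancel, trans_one a hG]
  rfl

variable (ha : NonAbH1.IsPseudoTorsorSch a)
include ha

omit hG [Group Z] in
/-- Two points with the same image differ by a translation. -/
theorem exists_trans {x y : X.left} (h : X.hom x = X.hom y) : ∃ z : Z, (trans eG a z).left x = y := by
  obtain ⟨c, hc1, hc2⟩ := Scheme.Pullback.exists_preimage_pullback (f := X.hom) (g := X.hom) y x h.symm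
  let j := (pullback X.hom X.hom).fromSpecResidueField c
  let T : Over P := Over.mk (j ≫ pullback.fst X.hom X.hom ≫ X.hom)
  let p1 : T ⟶ X := Over.homMk (j ≫ pullback.fst X.hom X.hom) (Category.assoc _ _ _)
  let p2 : T ⟶ X := Over.homMk (j ≫ pullback.snd X.hom X.hom)
    (by show _ = j ≫ _; rw [Category.assoc, ← pullback.condition])
  have : IsIso (lift a.act (snd G X)) := ha
  have : ConnectedSpace T.left := inferInstanceAs (ConnectedSpace (Spec ((pullback X.hom X.hom).residueField c)))
  let w : T ⟶ G ⊗ X := lift p1 p2 ≫ inv (lift a.act (snd G X))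
  have h0 : w ≫ lift a.act (snd G X) = lift p1 p2 := by rw [Category.assoc, IsIso.inv_hom_id, Category.comp_id]
  have h1 : w ≫ a.act = p1 := by simpa using congrArg (· ≫ fst X X) h0
  have h2 : w ≫ snd G X = p2 := by simpa using congrArg (· ≫ snd X X) h0
  obtain ⟨z, hz⟩ := exists_eq_cpt eG (w ≫ fst G X)
  refine ⟨z, ?_⟩
  have hw : w = lift (cpt eG T z) p2 := CartesianMonoidalCategory.hom_ext _ _ (by rw [lift_fst, hz]) (by rw [lift_snd, h2])
  have h3 : p2 ≫ trans eG a z = p1 := by rw [comp_trans, ← hw, h1]
  have h4 := congrArg (fun m : T ⟶ X => m.left (IsLocalRing.closedPoint _)) h3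
  have hj : j (IsLocalRing.closedPoint _) = c := Scheme.fromSpecResidueField_apply _ _
  change (trans eG a z).left (pullback.snd X.hom X.hom (j _)) = pullback.fst X.hom X.hom (j _) at h4
  rwa [hj, hc1, hc2] at h4

omit hG [Group Z] in
/-- The stabiliser of a point is finite. -/
theorem finite_stabilizer [Etale X.hom] (x : X.left) : {z : Z | (trans eG a z).left x = x}.Finite := by
  have : IsIso (lift a.act (snd G X)) := ha
  have : IsIso (lift a.act (snd G X)).left :=
    inferInstanceAs (IsIso ((Over.forget P).map (lift a.act (snd G X))))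
  obtain ⟨W, hW, hxW, -⟩ := exists_isAffineOpen_mem_and_subset (U := (⊤ : P.Opens)) (x := X.hom x) trivial
  obtain ⟨V, hV, hxV, e⟩ := exists_isAffineOpen_mem_and_subset (U := X.hom ⁻¹ᵁ W) (x := x) hxW
  have : IsAffine (V : Scheme.{u}) := hV
  have : IsAffine (W : Scheme.{u}) := hW
  let qV : (V : Scheme.{u}) ⟶ (W : Scheme.{u}) := X.hom.resLE W V e
  have hqV : qV ≫ W.ι = V.ι ≫ X.hom := Scheme.Hom.resLE_comp_ι _ _
  have : LocallyQuasiFinite qV := by
    have : LocallyQuasiFinite X.hom := Unr55.locallyQuasiFinite_of_formallyUnramified X.hom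
    have : LocallyQuasiFinite (qV ≫ W.ι) := by rw [hqV]; infer_instance
    exact LocallyQuasiFinite.of_comp _ W.ι
  let m : pullback qV qV ⟶ pullback X.hom X.hom := pullback.map qV qV X.hom X.hom V.ι V.ι W.ι hqV hqV
  have hfin : {c : ↥(pullback X.hom X.hom) | pullback.fst X.hom X.hom c = x ∧ pullback.snd X.hom X.hom c = x}.Finite := by
    refine (((pullback.fst qV qV).finite_preimage_singleton ⟨x, hxV⟩).image m).subset ?_
    rintro c ⟨h1, h2⟩
    obtain ⟨d, rfl⟩ : c ∈ Set.range m := by
      rw [Scheme.Pullback.range_map, Scheme.Opens.range_ι]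
      exact ⟨show _ ∈ V by rw [h1]; exact hxV, show _ ∈ V by rw [h2]; exact hxV⟩
    refine ⟨d, ?_, rfl⟩
    apply V.ι.isOpenEmbedding.injective
    rw [← Scheme.Hom.comp_apply, show pullback.fst qV qV ≫ V.ι = m ≫ pullback.fst X.hom X.hom from (pullback.lift_fst _ _ _).symm,
      Scheme.Hom.comp_apply, h1]
    rfl
  let pz : Z → (X ⟶ X ⊗ X) := fun z => lift (trans eG a z) (𝟙 X)
  have hpz : ∀ z, pz z = lift (cpt eG X z) (𝟙 X) ≫ lift a.act (snd G X) := fun z => by
    rw [comp_lift, lift_snd]; rfl
  refine Set.Finite.of_finite_image (f := fun z => (pz z).left x) (hfin.subset ?_) ?_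
  · rintro _ ⟨z, hz, rfl⟩
    constructor
    · show ((pz z) ≫ fst X X).left x = x
      rw [lift_fst]; exact hz
    · show ((pz z) ≫ snd X X).left x = x
      rw [lift_snd]; rfl
  · intro z _ z' _ h
    have h' : (lift (cpt eG X z) (𝟙 X)).left x = (lift (cpt eG X z') (𝟙 X)).left x := by
      apply (lift a.act (snd G X)).left.homeomorph.injective
      show (lift a.act (snd G X)).left _ = (lift a.act (snd G X)).left _
      simpa only [hpz, Over.comp_left, Scheme.Hom.comp_apply] using h
    have h'' : index eG (((lift (cpt eG X z) (𝟙 X)) ≫ fst G X).left x) =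
        index eG (((lift (cpt eG X z') (𝟙 X)) ≫ fst G X).left x) := by
      rw [Over.comp_left, Over.comp_left, Scheme.Hom.comp_apply, Scheme.Hom.comp_apply, h']
    rwa [lift_fst, lift_fst, index_cpt, index_cpt] at h''

/-- Translations by a torsion-free group act freely on points. -/
theorem eq_one_of_trans [Etale X.hom] (hZ : ∀ z : Z, IsOfFinOrder z → z = 1) {z : Z} {x : X.left}
    (hz : (trans eG a z).left x = x) : z = 1 := by
  refine hZ z ?_
  by_contra hnf
  refine Set.infinite_range_of_injective (injective_pow_iff_not_isOfFinOrder.2 hnf)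
    ((finite_stabilizer (eG := eG) a ha x).subset ?_)
  rintro _ ⟨n, rfl⟩
  show (trans eG a (z ^ n)).left x = x
  induction n with
  | zero => rw [pow_zero, trans_one a hG]; rfl
  | succ n ih => rw [pow_succ, ← trans_apply a hG, hz, ih]

end Groth.Agent.Const38
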